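import Mathlib

set_option autoImplicit false

namespace CfsgLib.FGS73

/-- A finite group is not covered by the conjugates of a proper subgroup. -/
theorem eq_top_of_forall_conj_mem {G : Type*} [Group G] [Finite G] {H : Subgroup G}
    (h : ∀ g : G, ∃ c : G, c⁻¹ * g * c ∈ H) : H = ⊤ := by
  classical
  haveI := Fintype.ofFinite G
  have key := MulAction.sum_card_fixedBy_eq_card_orbits_mul_card_group G (G ⧸ H)
  have horb : Fintype.card (MulAction.orbitRel.Quotient G (G ⧸ H)) = 1 := by
    haveI : Subsingleton (MulAction.orbitRel.Quotient G (G ⧸ H)) :=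
      MulAction.pretransitive_iff_subsingleton_quotient G (G ⧸ H) |>.1 inferInstance
    haveI : Nonempty (MulAction.orbitRel.Quotient G (G ⧸ H)) := ⟨Quotient.mk'' ((1 : G) : G ⧸ H)⟩
    exact Fintype.card_eq_one_iff.2 ⟨Classical.arbitrary _, fun y => Subsingleton.elim _ _⟩
  rw [horb, one_mul, ← Finset.add_sum_erase _ _ (Finset.mem_univ (1 : G))] at key
  have hone : Fintype.card (MulAction.fixedBy (G ⧸ H) (1 : G)) = Fintype.card (G ⧸ H) :=
    Fintype.card_congr (Equiv.subtypeUnivEquiv fun x => one_smul G x)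
  rw [hone] at key
  have hge : (Finset.univ.erase (1 : G)).card ≤
      ∑ g ∈ Finset.univ.erase (1 : G), Fintype.card (MulAction.fixedBy (G ⧸ H) g) := by
    rw [Finset.card_eq_sum_ones]
    refine Finset.sum_le_sum fun g _ => Fintype.card_pos_iff.2 ?_
    obtain ⟨c, hc⟩ := h g
    refine ⟨⟨(c : G ⧸ H), ?_⟩⟩
    show ((g * c : G) : G ⧸ H) = c
    symm
    rw [QuotientGroup.eq]
    simpa [mul_assoc] using hc
  rw [Finset.card_erase_of_mem (Finset.mem_univ _), Finset.card_univ] at hge
  have hle : Fintype.card (G ⧸ H) ≤ 1 := by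
    have := Fintype.card_pos (α := G)
    omega
  rw [eq_top_iff]
  intro g _
  have := (Fintype.card_le_one_iff.1 hle) ((1 : G) : G ⧸ H) (g : G ⧸ H)
  simpa using QuotientGroup.eq.1 this

end CfsgLib.FGS73
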