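import Mathlib
import Cfsg.Agent.Lib.TwoFusion.DihedralFusionMain
import Cfsg.Agent.Lib.Solvable.Core
import Cfsg.Agent.S0514

/-!
The centralizer of an involution in a dihedral-Sylow group satisfying the hypotheses of the
Brauer–Suzuki–Wall recognition theorem.
-/

set_option autoImplicit false
set_option linter.style.haveILetI false
set_option linter.unusedSectionVars false

open Subgroup CfsgLib.TwoFusion CfsgLib.TwoFusion.DihedralFusion

namespace CfsgLib.FGS73.DihBSW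

universe u

variable {G : Type u} [Group G] [Finite G]

/-- A cyclic subgroup of index two in a dihedral `2`-group is inverted by the elements outside it. -/
theorem outside_cyclic {S : Subgroup G} (D : DihGens S) {R : Subgroup G} (hRS : R ≤ S)
    (hc : IsCyclic R) (hi : 2 * Nat.card R = Nat.card S) {s : G} (hs : s ∈ S) (hsR : s ∉ R) :
    s * s = 1 ∧ ∀ x ∈ R, s * x * s⁻¹ = x⁻¹ := by
  rcases Nat.eq_zero_or_pos D.k with hk | hk
  · have hall : ∀ y ∈ S, y * y = 1 := by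
      intro y hy
      obtain ⟨i, rfl | rfl⟩ := D.cases y hy
      · rw [← zpow_add, D.zpow_eq_one_iff, hk]
        exact ⟨i, by push_cast; ring⟩
      · exact D.refl_sq i
    refine ⟨hall s hs, fun x hx => ?_⟩
    have h := hall (s * x) (mul_mem hs (hRS hx))
    have hs' : s⁻¹ = s := inv_eq_of_mul_eq_one_right (hall s hs)
    rw [hs']
    exact eq_inv_of_mul_eq_one_left (by rw [← h]; group)
  · have hR : R = zpowers D.a := by
      obtain ⟨g, hg⟩ := hc.exists_ofOrder_eq_natCard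
      have hcard : Nat.card R = 2 ^ (D.k + 1) := by
        have := D.card
        rw [← hi, pow_succ] at this
        omega
      have hgR : zpowers (g : G) = R := by
        refine Subgroup.eq_of_le_of_card_ge (zpowers_le.2 g.2) ?_
        rw [Nat.card_zpowers, Subgroup.orderOf_coe, hg]
      have hga : (g : G) ∈ zpowers D.a := by
        obtain ⟨i, h | h⟩ := D.cases (g : G) (hRS g.2)
        · exact h ▸ zpow_mem (mem_zpowers _) i
        · exfalso
          have h2 := D.orderOf_refl i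
          rw [← h, Subgroup.orderOf_coe, hg, hcard] at h2
          have : 2 ^ 1 < 2 ^ (D.k + 1) := Nat.pow_lt_pow_right (by norm_num) (by omega)
          omega
      rw [← hgR]
      refine Subgroup.eq_of_le_of_card_ge (zpowers_le.2 hga) ?_
      rw [Nat.card_zpowers, Nat.card_zpowers, D.order_a, Subgroup.orderOf_coe, hg, hcard]
    obtain ⟨i, h | h⟩ := D.cases s hs
    · exact absurd (by rw [hR, h]; exact zpow_mem (mem_zpowers _) i) hsR
    · subst h
      refine ⟨D.refl_sq i, fun x hx => ?_⟩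
      rw [hR] at hx
      obtain ⟨j, rfl⟩ := mem_zpowers_iff.1 hx
      rw [inv_eq_of_mul_eq_one_right (D.refl_sq i), mul_assoc (D.a ^ i) D.b (D.a ^ j), D.b_mul_zpow,
        ← mul_assoc (D.a ^ i), ← zpow_add, D.refl_mul_refl, ← zpow_neg]
      exact congrArg (D.a ^ ·) (by ring)

/-- The data produced from the hypotheses. -/
structure Setup (S : Subgroup G) (t : G) (O R : Subgroup G) : Prop where
  ord : orderOf t = 2
  S_le : S ≤ centralizer ({t} : Set G)
  O_le : O ≤ centralizer ({t} : Set G)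
  O_normal : ∀ c ∈ centralizer ({t} : Set G), ∀ y ∈ O, c * y * c⁻¹ ∈ O
  O_odd : Odd (Nat.card O)
  decomp : ∀ c ∈ centralizer ({t} : Set G), ∃ y ∈ O, ∃ σ ∈ S, c = y * σ
  R_le : R ≤ S
  R_cyc : IsCyclic R
  R_card : 2 * Nat.card R = Nat.card S
  t_mem : t ∈ R
  R_cent : ∀ r ∈ R, ∀ y ∈ O, r * y = y * r
  inv_O : ∀ s ∈ S, s ∉ R → ∀ y ∈ O, s * y * s⁻¹ = y⁻¹
  inv_R : ∀ s ∈ S, s ∉ R → s * s = 1 ∧ ∀ x ∈ R, s * x * s⁻¹ = x⁻¹
  hyp_c : ∀ Y : Subgroup G, Y ≤ O → Y ≠ ⊥ → normalizer (Y : Set G) ≤ centralizer ({t} : Set G)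

theorem exists_setup (S : Sylow 2 G) (n : ℕ) (hn : 2 ≤ n)
    (hS : Nonempty ((S : Subgroup G) ≃* DihedralGroup n)) (t : G) (ht : orderOf t = 2)
    (htS : t ∈ (S : Subgroup G)) (htZ : ∀ s ∈ (S : Subgroup G), s * t = t * s) (O : Subgroup G)
    (hO : O = (Cfsg.oddCore (centralizer ({t} : Set G))).map (centralizer ({t} : Set G)).subtype)
    (ha : O ≠ ⊥ → IsCyclic ((S : Subgroup G) ⊓ centralizer (O : Set G) : Subgroup G) ∧
      ((S : Subgroup G) ⊓ centralizer (O : Set G)).relIndex (S : Subgroup G) = 2)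
    (hb : ∀ s ∈ (S : Subgroup G), s ∉ centralizer (O : Set G) → ∀ y ∈ O, s * y * s⁻¹ = y⁻¹)
    (hc : ∀ Y : Subgroup G, Y ≤ O → Y ≠ ⊥ → normalizer (Y : Set G) ≤ centralizer ({t} : Set G)) :
    ∃ R, Setup (S : Subgroup G) t O R := by
  classical
  obtain ⟨D⟩ := exists_dihGens S.isPGroup' hn hS.some
  have hSC : (S : Subgroup G) ≤ centralizer ({t} : Set G) := fun s hs =>
    mem_centralizer_singleton_iff.2 (htZ s hs)
  have hOC : O ≤ centralizer ({t} : Set G) := hO ▸ map_subtype_le _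
  have hOn : ∀ c ∈ centralizer ({t} : Set G), ∀ y ∈ O, c * y * c⁻¹ ∈ O := by
    intro c hc y hy
    rw [hO] at hy ⊢
    obtain ⟨z, hz, rfl⟩ := hy
    exact ⟨⟨c, hc⟩ * z * ⟨c, hc⟩⁻¹,
      (CfsgLib.Solvable.pPrimeCore_normal 2 _).conj_mem z hz ⟨c, hc⟩, rfl⟩
  have hOodd : Odd (Nat.card O) := by
    rw [hO, card_map_of_injective (subtype_injective _)]
    exact Nat.coprime_two_right.1 (CfsgLib.Solvable.pPrimeCore_card_coprime 2 _)
  obtain ⟨N, hN, hNodd, k, hk⟩ := Cfsg.Agent.S0514.result S n hn hS t ht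
  have hdec : ∀ c ∈ centralizer ({t} : Set G), ∃ y ∈ O, ∃ σ ∈ (S : Subgroup G), c = y * σ := by
    intro c hc
    haveI := CfsgLib.Solvable.pPrimeCore_normal 2 ↥(centralizer ({t} : Set G))
    have h1 : (Cfsg.oddCore ↥(centralizer ({t} : Set G))).index ∣ 2 ^ k :=
      hk ▸ index_dvd_of_le (CfsgLib.Solvable.le_pPrimeCore hN (Nat.coprime_two_right.2 hNodd))
    have h2 : Odd ((S : Subgroup G).subgroupOf (centralizer ({t} : Set G))).index := by
      refine Odd.of_dvd_nat ?_ (relIndex_dvd_index_of_le hSC) |>.elim (fun m hm => ⟨m, hm⟩)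
      exact Nat.not_even_iff_odd.1 fun h => S.not_dvd_index (even_iff_two_dvd.1 h)
    have htop : Cfsg.oddCore ↥(centralizer ({t} : Set G)) ⊔
        (S : Subgroup G).subgroupOf (centralizer ({t} : Set G)) = ⊤ := by
      rw [← index_eq_one]
      exact Nat.eq_one_of_dvd_coprimes
        ((Nat.coprime_two_left.2 h2).pow_left k)
        ((index_dvd_of_le le_sup_left).trans h1) (index_dvd_of_le le_sup_right)
    have hm : (⟨c, hc⟩ : ↥(centralizer ({t} : Set G))) ∈ Cfsg.oddCore ↥(centralizer ({t} : Set G)) ⊔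
        (S : Subgroup G).subgroupOf (centralizer ({t} : Set G)) := htop ▸ mem_top _
    obtain ⟨y, hy, σ, hσ, e⟩ := mem_sup_of_normal_left.1 hm
    exact ⟨y, hO ▸ ⟨y, hy, rfl⟩, σ, hσ, (congrArg Subtype.val e).symm⟩
  have hcardS : Nat.card (S : Subgroup G) = 2 ^ (D.k + 2) := D.card
  by_cases hO1 : O = ⊥
  · obtain ⟨R, hRS, hRc, hRi, htR⟩ : ∃ R : Subgroup G, R ≤ (S : Subgroup G) ∧ IsCyclic R ∧
        2 * Nat.card R = Nat.card (S : Subgroup G) ∧ t ∈ R := by
      rcases Nat.eq_zero_or_pos D.k with h0 | hpos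
      · exact ⟨zpowers t, zpowers_le.2 htS, inferInstance, by rw [Nat.card_zpowers, ht, hcardS, h0]; norm_num,
          mem_zpowers t⟩
      · refine ⟨zpowers D.a, zpowers_le.2 D.ha, inferInstance, ?_, ?_⟩
        · rw [Nat.card_zpowers, D.order_a, hcardS, pow_succ]; ring
        · obtain ⟨i, h | h⟩ := D.cases t htS
          · exact h ▸ zpow_mem (mem_zpowers _) i
          · exfalso
            have hinv : t * D.a * t⁻¹ = D.a⁻¹ := by
              rw [h, inv_eq_of_mul_eq_one_right (D.refl_sq i)]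
              nth_rw 2 [← zpow_one D.a]
              rw [mul_assoc (D.a ^ i) D.b, D.b_mul_zpow, ← mul_assoc (D.a ^ i), ← zpow_add,
                D.refl_mul_refl, ← zpow_neg_one]
              exact congrArg (D.a ^ ·) (by ring)
            rw [← htZ D.a D.ha, mul_inv_cancel_right] at hinv
            have h2 : D.a ^ (2 : ℤ) = 1 := by
              rw [zpow_two]; nth_rw 2 [hinv]; exact mul_inv_cancel _
            rw [D.zpow_eq_one_iff] at h2
            have := Int.le_of_dvd (by norm_num) h2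
            have : 2 ^ 2 ≤ 2 ^ (D.k + 1) := Nat.pow_le_pow_right (by norm_num) (by omega)
            omega
    refine ⟨R, ht, hSC, hOC, hOn, hOodd, hdec, hRS, hRc, hRi, htR, ?_, ?_,
      fun s hs hsR => outside_cyclic D hRS hRc hRi hs hsR, hc⟩
    · intro r _ y hy
      rw [hO1, mem_bot] at hy
      simp [hy]
    · intro s _ _ y hy
      rw [hO1, mem_bot] at hy
      simp [hy]
  · obtain ⟨hcyc, hrel⟩ := ha hO1
    have hcard : 2 * Nat.card ((S : Subgroup G) ⊓ centralizer (O : Set G) : Subgroup G) =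
        Nat.card (S : Subgroup G) := by
      have h := (((S : Subgroup G) ⊓ centralizer (O : Set G)).subgroupOf (S : Subgroup G)).card_mul_index
      rw [Nat.card_congr (subgroupOfEquivOfLe inf_le_left).toEquiv] at h
      rw [relIndex] at hrel
      rw [hrel, mul_comm] at h
      exact h
    refine ⟨(S : Subgroup G) ⊓ centralizer (O : Set G), ht, hSC, hOC, hOn, hOodd, hdec, inf_le_left,
      hcyc, hcard, ?_, ?_, ?_, fun s hs hsR => outside_cyclic D inf_le_left hcyc hcard hs hsR, hc⟩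
    · exact mem_inf.2 ⟨htS, mem_centralizer_iff.2 fun y hy => mem_centralizer_singleton_iff.1 (hOC hy)⟩
    · intro r hr y hy
      exact (mem_centralizer_iff.1 (mem_inf.1 hr).2 y hy).symm
    · intro s hs hsR y hy
      exact hb s hs (fun h => hsR (mem_inf.2 ⟨hs, h⟩)) y hy

variable {S : Subgroup G} {t : G} {O R : Subgroup G}

theorem Setup.exists_notMem (H : Setup S t O R) : ∃ s ∈ S, s ∉ R := by
  by_contra h
  push Not at h
  have := Subgroup.card_le_of_le (h : S ≤ R)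
  have := H.R_card
  have : 0 < Nat.card R := Nat.card_pos
  omega

theorem Setup.O_comm (H : Setup S t O R) : ∀ x ∈ O, ∀ y ∈ O, x * y = y * x := by
  obtain ⟨s, hs, hsR⟩ := H.exists_notMem
  intro x hx y hy
  have h := H.inv_O s hs hsR
  have h1 : (x * y)⁻¹ = x⁻¹ * y⁻¹ := by
    rw [← h (x * y) (mul_mem hx hy), ← h x hx, ← h y hy]; group
  rw [← inv_inj, h1, mul_inv_rev]

theorem Setup.O_inter (H : Setup S t O R) (hS : IsPGroup 2 S) {x : G} (hxO : x ∈ O) (hxS : x ∈ S) :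
    x = 1 := by
  haveI : Fact (Nat.Prime 2) := ⟨Nat.prime_two⟩
  obtain ⟨k, hk⟩ := IsPGroup.iff_card.1 hS
  rw [← orderOf_eq_one_iff]
  refine Nat.eq_one_of_dvd_coprimes ?_ (orderOf_dvd_natCard O hxO) (hk ▸ orderOf_dvd_natCard S hxS)
  exact ((Nat.coprime_two_left.2 H.O_odd).pow_left k).symm

/-- The abelian subgroup of index two in `C(t)`. -/
def Setup.K (H : Setup S t O R) : Subgroup G where
  carrier := {x | ∃ y ∈ O, ∃ r ∈ R, x = y * r}
  one_mem' := ⟨1, one_mem _, 1, one_mem _, (mul_one _).symm⟩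
  mul_mem' := by
    rintro _ _ ⟨y, hy, r, hr, rfl⟩ ⟨y', hy', r', hr', rfl⟩
    exact ⟨y * y', mul_mem hy hy', r * r', mul_mem hr hr', by
      rw [mul_assoc y r, ← mul_assoc r y', H.R_cent r hr y' hy']; group⟩
  inv_mem' := by
    rintro _ ⟨y, hy, r, hr, rfl⟩
    exact ⟨y⁻¹, inv_mem hy, r⁻¹, inv_mem hr, by
      rw [mul_inv_rev, H.R_cent r⁻¹ (inv_mem hr) y⁻¹ (inv_mem hy)]⟩

theorem Setup.mem_K (H : Setup S t O R) {x : G} : x ∈ H.K ↔ ∃ y ∈ O, ∃ r ∈ R, x = y * r := Iff.rfl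

theorem Setup.O_le_K (H : Setup S t O R) : O ≤ H.K := fun y hy =>
  ⟨y, hy, 1, one_mem _, (mul_one y).symm⟩

theorem Setup.R_le_K (H : Setup S t O R) : R ≤ H.K := fun r hr =>
  ⟨1, one_mem _, r, hr, (one_mul r).symm⟩

theorem Setup.K_comm (H : Setup S t O R) : ∀ x ∈ H.K, ∀ z ∈ H.K, x * z = z * x := by
  rintro _ ⟨y, hy, r, hr, rfl⟩ _ ⟨y', hy', r', hr', rfl⟩
  haveI := H.R_cyc
  have hrr : r * r' = r' * r :=
    congrArg Subtype.val (IsCyclic.commGroup.mul_comm (⟨r, hr⟩ : R) ⟨r', hr'⟩)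
  rw [mul_assoc y r, ← mul_assoc r y', H.R_cent r hr y' hy', mul_assoc y' r r', hrr,
    mul_assoc y' r' (y * r), ← mul_assoc r' y, H.R_cent r' hr' y hy, ← mul_assoc y y', H.O_comm y hy y' hy']
  group

theorem Setup.K_le (H : Setup S t O R) : H.K ≤ centralizer ({t} : Set G) := by
  rintro _ ⟨y, hy, r, hr, rfl⟩
  exact mul_mem (H.O_le hy) (H.S_le (H.R_le hr))

theorem Setup.s_mem (H : Setup S t O R) {s : G} (hs : s ∈ S) : s ∈ centralizer ({t} : Set G) :=
  H.S_le hs

theorem Setup.inv_K (H : Setup S t O R) {s : G} (hs : s ∈ S) (hsR : s ∉ R) :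
    ∀ x ∈ H.K, s * x * s⁻¹ = x⁻¹ := by
  rintro _ ⟨y, hy, r, hr, rfl⟩
  rw [mul_inv_rev, H.R_cent r⁻¹ (inv_mem hr) y⁻¹ (inv_mem hy), ← H.inv_O s hs hsR y hy,
    ← (H.inv_R s hs hsR).2 r hr]
  group

theorem Setup.s_notMem (H : Setup S t O R) (hS : IsPGroup 2 S) {s : G} (hs : s ∈ S) (hsR : s ∉ R) :
    s ∉ H.K := by
  rintro ⟨y, hy, r, hr, e⟩
  have hy1 : y = 1 := H.O_inter hS hy (by
    rw [show y = s * r⁻¹ by rw [e]; group]; exact mul_mem hs (inv_mem (H.R_le hr)))
  exact hsR (by rw [e, hy1, one_mul]; exact hr)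

theorem Setup.cases (H : Setup S t O R) {s : G} (hs : s ∈ S) (hsR : s ∉ R) {c : G}
    (hc : c ∈ centralizer ({t} : Set G)) : c ∈ H.K ∨ ∃ k ∈ H.K, c = k * s := by
  obtain ⟨y, hy, σ, hσ, rfl⟩ := H.decomp c hc
  by_cases hσR : σ ∈ R
  · exact Or.inl ⟨y, hy, σ, hσR, rfl⟩
  refine Or.inr ⟨y * (σ * s⁻¹), ⟨y, hy, σ * s⁻¹, ?_, rfl⟩, by group⟩
  have hi : (R.subgroupOf S).index = 2 := by
    have h := (R.subgroupOf S).card_mul_index
    rw [Nat.card_congr (subgroupOfEquivOfLe H.R_le).toEquiv, ← H.R_card, mul_comm 2] at h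
    exact Nat.eq_of_mul_eq_mul_left Nat.card_pos h
  have h := (mul_mem_iff_of_index_two hi (a := ⟨σ, hσ⟩) (b := ⟨s⁻¹, inv_mem hs⟩)).2
    (by simp [mem_subgroupOf, hσR, hsR])
  simpa [mem_subgroupOf] using h

theorem Setup.sup_eq (H : Setup S t O R) {s : G} (hs : s ∈ S) (hsR : s ∉ R) :
    H.K ⊔ zpowers s = centralizer ({t} : Set G) := by
  refine le_antisymm (sup_le H.K_le (zpowers_le.2 (H.S_le hs))) fun c hc => ?_
  rcases H.cases hs hsR hc with h | ⟨k, hk, rfl⟩
  · exact mem_sup_left h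
  · exact mul_mem (mem_sup_left hk) (mem_sup_right (mem_zpowers s))

theorem Setup.eq_one_or_t (H : Setup S t O R) (hS : IsPGroup 2 S) {x : G} (hx : x ∈ H.K)
    (h2 : x * x = 1) : x = 1 ∨ x = t := by
  obtain ⟨y, hy, r, hr, rfl⟩ := hx
  have h3 : y * y * (r * r) = 1 := by
    rw [mul_assoc y r, ← mul_assoc r y, H.R_cent r hr y hy] at h2
    rw [← h2]; group
  have hyy : y * y = 1 := H.O_inter hS (mul_mem hy hy) (by
    rw [eq_inv_of_mul_eq_one_left h3]; exact inv_mem (H.R_le (mul_mem hr hr)))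
  have hy1 : y = 1 := by
    rw [← orderOf_eq_one_iff]
    refine Nat.eq_one_of_dvd_coprimes (Nat.coprime_two_left.2 H.O_odd) ?_ (orderOf_dvd_natCard O hy)
    exact orderOf_dvd_of_pow_eq_one (by rw [sq, hyy])
  rw [hy1, one_mul]
  rw [hyy, one_mul] at h3
  haveI := H.R_cyc
  have hz : (⟨r, hr⟩ : R) ∈ zpowers (⟨t, H.t_mem⟩ : R) := by
    refine mem_zpowers_of_orderOf_dvd ?_
    rw [← Subgroup.orderOf_coe, ← Subgroup.orderOf_coe]
    show orderOf r ∣ orderOf t
    rw [H.ord]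
    exact orderOf_dvd_of_pow_eq_one (by rw [sq, h3])
  obtain ⟨i, hi⟩ := mem_zpowers_iff.1 hz
  have hi' : t ^ i = r := by simpa using congrArg Subtype.val hi
  have ht2 : t ^ (2 : ℤ) = 1 := by
    have := pow_orderOf_eq_one t
    rw [H.ord] at this
    exact_mod_cast this
  rcases Int.even_or_odd i with ⟨m, rfl⟩ | ⟨m, rfl⟩
  · left; rw [← hi', ← two_mul, zpow_mul, ht2, one_zpow]
  · right; rw [← hi', zpow_add_one, zpow_mul, ht2, one_zpow, one_mul]

theorem Setup.inf_cent (H : Setup S t O R) (hS : IsPGroup 2 S) {s : G} (hs : s ∈ S) (hsR : s ∉ R) :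
    H.K ⊓ centralizer ({s} : Set G) = zpowers t := by
  refine le_antisymm (fun x hx => ?_) (zpowers_le.2 (mem_inf.2 ⟨H.R_le_K H.t_mem, ?_⟩))
  · obtain ⟨hxK, hxs⟩ := mem_inf.1 hx
    have h := H.inv_K hs hsR x hxK
    rw [← mem_centralizer_singleton_iff.1 hxs, mul_inv_cancel_right] at h
    rcases H.eq_one_or_t hS hxK (by nth_rw 2 [h]; exact mul_inv_cancel x) with rfl | rfl
    · exact one_mem _
    · exact mem_zpowers _
  · exact mem_centralizer_singleton_iff.2 (mem_centralizer_singleton_iff.1 (H.S_le hs)).symm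

theorem Setup.odd_mem (H : Setup S t O R) (hS : IsPGroup 2 S) {x : G} (hx : x ∈ H.K)
    (hodd : Odd (orderOf x)) : x ∈ O := by
  haveI : Fact (Nat.Prime 2) := ⟨Nat.prime_two⟩
  obtain ⟨y, hy, r, hr, rfl⟩ := hx
  have hc : Commute y r := (H.R_cent r hr y hy).symm
  have h := pow_orderOf_eq_one (y * r)
  rw [hc.mul_pow] at h
  have hr1 : r ^ orderOf (y * r) = 1 := by
    have h1 : y ^ orderOf (y * r) = 1 := H.O_inter hS (pow_mem hy _) (by
      rw [eq_inv_of_mul_eq_one_left h]; exact inv_mem (pow_mem (H.R_le hr) _))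
    rwa [h1, one_mul] at h
  obtain ⟨k, hk⟩ := IsPGroup.iff_card.1 hS
  have : r = 1 := by
    rw [← orderOf_eq_one_iff]
    exact Nat.eq_one_of_dvd_coprimes ((Nat.coprime_two_left.2 hodd).pow_left k)
      (hk ▸ orderOf_dvd_natCard S (H.R_le hr)) (orderOf_dvd_of_pow_eq_one hr1)
  rw [this, mul_one]
  exact hy

theorem Setup.cent_eq (H : Setup S t O R) {x : G} (hx : x ∈ O) (hx1 : x ≠ 1) :
    centralizer ({x} : Set G) ≤ H.K := by
  intro c hc
  obtain ⟨s, hs, hsR⟩ := H.exists_notMem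
  have hcC : c ∈ centralizer ({t} : Set G) := by
    refine H.hyp_c (zpowers x) (zpowers_le.2 hx) (zpowers_ne_bot.2 hx1) ?_
    have hcx : c * x * c⁻¹ = x := by rw [mem_centralizer_singleton_iff.1 hc, mul_inv_cancel_right]
    have hfix : ∀ z ∈ zpowers x, c * z * c⁻¹ = z := by
      intro z hz
      obtain ⟨i, rfl⟩ := mem_zpowers_iff.1 hz
      rw [← conj_zpow, hcx]
    rw [mem_normalizer_iff]
    intro z
    refine ⟨fun hz => (hfix z hz).symm ▸ hz, fun hz => ?_⟩
    have h1 := hfix _ hz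
    have h2 : c * z * c⁻¹ = z := by
      calc c * z * c⁻¹ = c⁻¹ * (c * (c * z * c⁻¹) * c⁻¹) * c := by group
        _ = c⁻¹ * (c * z * c⁻¹) * c := by rw [h1]
        _ = z := by group
    rwa [h2] at hz
  rcases H.cases hs hsR hcC with h | ⟨k, hk, rfl⟩
  · exact h
  exfalso
  have hkx := H.K_comm k hk x (H.O_le_K hx)
  have h1 := mem_centralizer_singleton_iff.1 hc
  have h2 : s * x = x * s := by
    apply mul_left_cancel (a := k)
    rw [← mul_assoc, h1, ← mul_assoc k x, hkx, mul_assoc]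
  have h3 := H.inv_O s hs hsR x hx
  rw [h2, mul_inv_cancel_right] at h3
  apply hx1
  rw [← orderOf_eq_one_iff]
  refine Nat.eq_one_of_dvd_coprimes (Nat.coprime_two_left.2 H.O_odd) ?_ (orderOf_dvd_natCard O hx)
  exact orderOf_dvd_of_pow_eq_one (by rw [sq]; nth_rw 2 [h3]; exact mul_inv_cancel x)

theorem Setup.ti (H : Setup S t O R) (hS : IsPGroup 2 S) {g : G}
    (hg : g ∉ centralizer ({t} : Set G)) : H.K ⊓ H.K.map (MulAut.conj g).toMonoidHom = ⊥ := by
  rw [eq_bot_iff]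
  intro x hx
  rw [mem_bot]
  by_contra hx1
  obtain ⟨hxK, x', hx', hxe⟩ := mem_inf.1 hx |>.imp_right mem_map.1
  have hxe' : g * x' * g⁻¹ = x := by simpa using hxe
  apply hg
  rw [mem_centralizer_singleton_iff, eq_comm, ← eq_mul_inv_iff_mul_eq, eq_comm]
  have hord : orderOf x' = orderOf x := by
    rw [← hxe]; exact ((MulAut.conj g).orderOf_eq x').symm
  rcases Nat.even_or_odd (orderOf x) with ⟨m, hm⟩ | hodd
  · have hpos : 0 < orderOf x := orderOf_pos x
    have hy : x ^ m * x ^ m = 1 := by rw [← pow_add, ← hm, pow_orderOf_eq_one]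
    have hy' : x' ^ m * x' ^ m = 1 := by rw [← pow_add, ← hm, ← hord, pow_orderOf_eq_one]
    have hne : x ^ m ≠ 1 := pow_ne_one_of_lt_orderOf (by omega) (by omega)
    have hne' : x' ^ m ≠ 1 := pow_ne_one_of_lt_orderOf (by omega) (by omega)
    have e := (H.eq_one_or_t hS (pow_mem hxK m) hy).resolve_left hne
    have e' := (H.eq_one_or_t hS (pow_mem hx' m) hy').resolve_left hne'
    rw [← hxe', conj_pow, e'] at e
    exact e
  · have hxO := H.odd_mem hS hxK hodd
    have hxO' := H.odd_mem hS hx' (hord ▸ hodd)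
    have ht' : g * t * g⁻¹ ∈ H.K := by
      refine H.cent_eq hxO hx1 (mem_centralizer_singleton_iff.2 ?_)
      have h := H.K_comm t (H.R_le_K H.t_mem) x' hx'
      rw [← hxe']
      calc g * t * g⁻¹ * (g * x' * g⁻¹) = g * (t * x') * g⁻¹ := by group
        _ = g * (x' * t) * g⁻¹ := by rw [h]
        _ = g * x' * g⁻¹ * (g * t * g⁻¹) := by group
    have htt : t * t = 1 := by rw [← sq, ← H.ord, pow_orderOf_eq_one]
    refine (H.eq_one_or_t hS ht' (by
      calc g * t * g⁻¹ * (g * t * g⁻¹) = g * (t * t) * g⁻¹ := by group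
        _ = 1 := by rw [htt]; group)).resolve_left fun e => ?_
    have : t = 1 := by
      calc t = g⁻¹ * (g * t * g⁻¹) * g := by group
        _ = 1 := by rw [e]; group
    have h2 := H.ord
    rw [this, orderOf_one] at h2
    omega

end CfsgLib.FGS73.DihBSW
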