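import Mathlib
import Cfsg.Agent.Lib.ZassAbelian.Main
import Cfsg.Agent.Lib.SharpThree.Coord
import Cfsg.Agent.Lib.Present.BinIcosahedral

/-!
A simple group with a self-centralizing TI subgroup `Q` with `|N(Q)| = |Q|(|Q|-1)/2` of index `|Q|+1`
is `PSL₂` in odd characteristic.
-/

set_option autoImplicit false
set_option linter.style.haveILetI false

open Subgroup MulAction
open scoped Pointwise

namespace CfsgLib.FGS73.DihBSW

universe u

variable {G : Type u} [Group G] [Finite G]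

/-- The output of the abstract Brauer–Suzuki–Wall theorem. -/
structure Local (Q D : Subgroup G) : Prop where
  card : 2 * Nat.card G = Nat.card ↥Q * (Nat.card ↥Q + 1) * (Nat.card ↥Q - 1)
  cent : ∀ x ∈ Q, x ≠ 1 → Subgroup.centralizer ({x} : Set G) = Q
  cardD : 2 * Nat.card ↥D + 1 = Nat.card ↥Q
  inf : Q ⊓ D = ⊥
  norm : Subgroup.normalizer (Q : Set G) = Q ⊔ D

variable {Q D : Subgroup G}

theorem Local.comm (L : Local Q D) : ∀ x ∈ Q, ∀ y ∈ Q, x * y = y * x := by
  intro x hx y hy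
  by_cases hx1 : x = 1
  · simp [hx1]
  · exact ((mem_centralizer_singleton_iff.1 ((L.cent x hx hx1).ge hy))).symm

theorem Local.card_norm (L : Local Q D) :
    Nat.card ↥(Subgroup.normalizer (Q : Set G)) = Nat.card Q * Nat.card D := by
  have hD : D ≤ Subgroup.normalizer (Q : Set G) := by rw [L.norm]; exact le_sup_right
  have h : ((Subgroup.normalizer (Q : Set G) : Subgroup G) : Set G) = (D : Set G) * (Q : Set G) := by
    rw [L.norm, sup_comm, coe_mul_of_left_le_normalizer_right D Q hD]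
  refine (Nat.card_congr ((Equiv.ofBijective
    (fun p : Q × D => (⟨(p.2 : G) * p.1, by
      rw [← SetLike.mem_coe, h]; exact Set.mul_mem_mul p.2.2 p.1.2⟩ :
      ↥(Subgroup.normalizer (Q : Set G)))) ⟨?_, ?_⟩).symm)).trans (Nat.card_prod _ _)
  · rintro ⟨a, b⟩ ⟨a', b'⟩ e
    have e' : (b : G) * a = b' * a' := congrArg Subtype.val e
    have h1 : (b' : G)⁻¹ * b = a' * (a : G)⁻¹ := by
      rw [eq_mul_inv_iff_mul_eq, mul_assoc, e', inv_mul_cancel_left]
    have h2 : (b' : G)⁻¹ * b ∈ Q ⊓ D :=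
      mem_inf.2 ⟨h1 ▸ mul_mem a'.2 (inv_mem a.2), mul_mem (inv_mem b'.2) b.2⟩
    rw [L.inf, mem_bot] at h2
    have hb : (b : G) = b' := (inv_mul_eq_one.1 h2).symm
    rw [hb] at e'
    exact Prod.ext (Subtype.ext (mul_left_cancel e')) (Subtype.ext hb)
  · rintro ⟨x, hx⟩
    rw [← SetLike.mem_coe, h] at hx
    obtain ⟨b, hb, a, ha, rfl⟩ := hx
    exact ⟨(⟨a, ha⟩, ⟨b, hb⟩), rfl⟩

theorem Local.index_norm (L : Local Q D) :
    (Subgroup.normalizer (Q : Set G)).index = Nat.card Q + 1 := by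
  have h := (Subgroup.normalizer (Q : Set G)).card_mul_index
  rw [L.card_norm] at h
  have hd : 0 < Nat.card D := Nat.card_pos
  have hq : 0 < Nat.card Q := Nat.card_pos
  have h2 : Nat.card Q - 1 = 2 * Nat.card D := by have := L.cardD; omega
  have h3 := L.card
  rw [h2] at h3
  refine Nat.eq_of_mul_eq_mul_left (Nat.mul_pos hq hd) ?_
  rw [h]
  refine Nat.eq_of_mul_eq_mul_left two_pos ?_
  rw [h3]
  ring

/-- Elements of `N(Q)` whose order divides `|Q|` lie in `Q`. -/
theorem Local.mem_of_pow (L : Local Q D) {x : G} (hx : x ∈ Subgroup.normalizer (Q : Set G))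
    (h : x ^ Nat.card Q = 1) : x ∈ Q := by
  haveI : (Q.subgroupOf (Subgroup.normalizer (Q : Set G))).Normal := inferInstance
  have hi : (Q.subgroupOf (Subgroup.normalizer (Q : Set G))).index = Nat.card D := by
    have h1 := (Q.subgroupOf (Subgroup.normalizer (Q : Set G))).card_mul_index
    rw [Nat.card_congr (subgroupOfEquivOfLe Q.le_normalizer).toEquiv, L.card_norm] at h1
    exact Nat.eq_of_mul_eq_mul_left Nat.card_pos h1
  have hco : Nat.Coprime (Nat.card Q) (Nat.card D) := by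
    rw [← L.cardD, Nat.coprime_mul_right_add_left]
    exact Nat.coprime_one_left _
  have h1 : orderOf (QuotientGroup.mk' (Q.subgroupOf (Subgroup.normalizer (Q : Set G))) ⟨x, hx⟩) = 1 := by
    refine Nat.eq_one_of_dvd_coprimes hco ?_ ?_
    · refine orderOf_dvd_of_pow_eq_one ?_
      rw [← map_pow, show (⟨x, hx⟩ : ↥(Subgroup.normalizer (Q : Set G))) ^ Nat.card Q = 1 from
        Subtype.ext (by simpa using h), map_one]
    · rw [← hi, index_eq_card]
      exact orderOf_dvd_natCard _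
  rw [orderOf_eq_one_iff, QuotientGroup.mk'_apply, QuotientGroup.eq_one_iff] at h1
  exact h1

theorem Local.pow_card (L : Local Q D) {x : G} (hx : x ∈ Q) : x ^ Nat.card Q = 1 := by
  exact congrArg Subtype.val (pow_card_eq_one' (x := (⟨x, hx⟩ : Q)))

/-- `Q` is a TI set: `x ∈ Q` and `g⁻¹ x g ∈ N(Q)` force `g ∈ N(Q)`. -/
theorem Local.mem_norm_of_conj (L : Local Q D) {x g : G} (hx : x ∈ Q) (hx1 : x ≠ 1)
    (h : g⁻¹ * x * g ∈ Subgroup.normalizer (Q : Set G)) : g ∈ Subgroup.normalizer (Q : Set G) := by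
  have hy : g⁻¹ * x * g ∈ Q := L.mem_of_pow h (by
    rw [show g⁻¹ * x * g = g⁻¹ * x * g⁻¹⁻¹ by rw [inv_inv], conj_pow, L.pow_card hx, mul_one,
      inv_inv, inv_mul_cancel])
  have hy1 : g⁻¹ * x * g ≠ 1 := by
    intro e
    apply hx1
    calc x = g * (g⁻¹ * x * g) * g⁻¹ := by group
      _ = 1 := by rw [e]; group
  rw [mem_normalizer_iff]
  intro z
  conv_lhs => rw [← L.cent _ hy hy1]
  conv_rhs => rw [← L.cent _ hx hx1]
  rw [mem_centralizer_singleton_iff, mem_centralizer_singleton_iff]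
  constructor <;> intro e
  · calc g * z * g⁻¹ * x = g * (z * (g⁻¹ * x * g)) * g⁻¹ := by group
      _ = x * (g * z * g⁻¹) := by rw [e]; group
  · calc z * (g⁻¹ * x * g) = g⁻¹ * (g * z * g⁻¹ * x) * g := by group
      _ = g⁻¹ * x * g * z := by rw [e]; group

/-- The points. -/
abbrev pt (Q : Subgroup G) (g : G) : G ⧸ Subgroup.normalizer (Q : Set G) := QuotientGroup.mk g

omit [Finite G] in
theorem pt_eq {a b : G} : pt Q a = pt Q b ↔ a⁻¹ * b ∈ Subgroup.normalizer (Q : Set G) :=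
  QuotientGroup.eq

omit [Finite G] in
theorem smul_pt (a g : G) : a • pt Q g = pt Q (a * g) := rfl

omit [Finite G] in
theorem smul_eq_self {a g : G} :
    a • pt Q g = pt Q g ↔ g⁻¹ * a * g ∈ Subgroup.normalizer (Q : Set G) := by
  rw [smul_pt, eq_comm, pt_eq, mul_assoc]

omit [Finite G] in
theorem smul_base {a : G} : a • pt Q 1 = pt Q 1 ↔ a ∈ Subgroup.normalizer (Q : Set G) := by
  rw [smul_eq_self]; simp

theorem Local.fix (L : Local Q D) {x : G} (hx : x ∈ Q) (hx1 : x ≠ 1)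
    {c : G ⧸ Subgroup.normalizer (Q : Set G)} (hc : x • c = c) : c = pt Q 1 := by
  obtain ⟨g, rfl⟩ := QuotientGroup.mk_surjective c
  have hg := L.mem_norm_of_conj hx hx1 (smul_eq_self.1 hc)
  exact pt_eq.2 (by rw [mul_one]; exact inv_mem hg)

theorem Local.card_points (L : Local Q D) :
    Nat.card (G ⧸ Subgroup.normalizer (Q : Set G)) = Nat.card Q + 1 := by
  rw [← index_eq_card, L.index_norm]

theorem Local.inj (L : Local Q D) {c : G ⧸ Subgroup.normalizer (Q : Set G)} (hc : c ≠ pt Q 1)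
    {x y : G} (hx : x ∈ Q) (hy : y ∈ Q) (h : x • c = y • c) : x = y := by
  by_contra hne
  refine hc (L.fix (mul_mem (inv_mem hy) hx) (fun e => hne (inv_mul_eq_one.1 e).symm) ?_)
  rw [mul_smul, h, inv_smul_smul]

theorem Local.regular (L : Local Q D) {y z : G ⧸ Subgroup.normalizer (Q : Set G)}
    (hy : y ≠ pt Q 1) (hz : z ≠ pt Q 1) : ∃ x ∈ Q, x • y = z := by
  classical
  haveI := Fintype.ofFinite (G ⧸ Subgroup.normalizer (Q : Set G))
  haveI := Fintype.ofFinite Q
  let φ : Q → {c : G ⧸ Subgroup.normalizer (Q : Set G) // c ≠ pt Q 1} := fun x =>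
    ⟨(x : G) • y, fun e => hy (by
      have h2 : y = (x : G)⁻¹ • pt Q 1 := by rw [← e, inv_smul_smul]
      rw [h2, smul_base.2 (inv_mem (Q.le_normalizer x.2))])⟩
  have hφ : Function.Injective φ := fun a b e =>
    Subtype.ext (L.inj hy a.2 b.2 (congrArg Subtype.val e))
  have hb : Function.Bijective φ := by
    refine (Fintype.bijective_iff_injective_and_card φ).2 ⟨hφ, ?_⟩
    rw [Fintype.card_subtype_compl, Fintype.card_subtype_eq]
    have := L.card_points
    rw [Nat.card_eq_fintype_card, Nat.card_eq_fintype_card] at this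
    omega
  obtain ⟨x, hx⟩ := hb.2 ⟨z, hz⟩
  exact ⟨x, x.2, congrArg Subtype.val hx⟩

theorem Local.exists_ne (L : Local Q D) :
    ∃ v : G ⧸ Subgroup.normalizer (Q : Set G), v ≠ pt Q 1 := by
  haveI : Nontrivial (G ⧸ Subgroup.normalizer (Q : Set G)) := by
    rw [← Finite.one_lt_card_iff_nontrivial, L.card_points]
    have : 0 < Nat.card Q := Nat.card_pos
    omega
  exact _root_.exists_ne _

theorem Local.three (L : Local Q D) (g : G) (a b c : G ⧸ Subgroup.normalizer (Q : Set G))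
    (hab : a ≠ b) (hbc : b ≠ c) (hac : a ≠ c) (ha : g • a = a) (hb : g • b = b) (hc : g • c = c) :
    g = 1 := by
  obtain ⟨α, rfl⟩ := QuotientGroup.mk_surjective a
  have key : ∀ (k : G) (b' c' : G ⧸ Subgroup.normalizer (Q : Set G)), k ∈ Subgroup.normalizer (Q : Set G) →
      b' ≠ pt Q 1 → c' ≠ pt Q 1 → b' ≠ c' → k • b' = b' → k • c' = c' → k = 1 := by
    intro k b' c' hk hb' hc' hne hkb hkc
    obtain ⟨x, hx, hxc⟩ := L.regular hb' hc'
    have hx1 : x ≠ 1 := fun e => hne (by rw [← hxc, e, one_smul])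
    have hy : k * x * k⁻¹ ∈ Q := (mem_normalizer_iff.1 hk x).1 hx
    have h1 : (k * x * k⁻¹) • b' = c' := by
      have h2 : k⁻¹ • b' = b' := by rw [inv_smul_eq_iff, hkb]
      rw [mul_smul, mul_smul, h2, hxc, hkc]
    have h2 : k * x * k⁻¹ = x := L.inj hb' hy hx (h1.trans hxc.symm)
    have hkx : k ∈ Q := by
      rw [← L.cent x hx hx1, mem_centralizer_singleton_iff]
      exact mul_inv_eq_iff_eq_mul.1 h2
    by_contra hk1
    exact hb' (L.fix hkx hk1 hkb)
  have hbase : α • pt Q 1 = pt Q α := by rw [smul_pt, mul_one]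
  have hk : α⁻¹ * g * α ∈ Subgroup.normalizer (Q : Set G) := smul_eq_self.1 ha
  have hconj : ∀ w : G ⧸ Subgroup.normalizer (Q : Set G), g • w = w → (α⁻¹ * g * α) • (α⁻¹ • w) = α⁻¹ • w := by
    intro w hw
    rw [mul_smul, mul_smul, smul_inv_smul, hw]
  have hne : ∀ w : G ⧸ Subgroup.normalizer (Q : Set G), pt Q α ≠ w → α⁻¹ • w ≠ pt Q 1 := fun w hw e => hw (by
    rw [← hbase, ← e, smul_inv_smul])
  have h := key _ _ _ hk (hne b hab) (hne c hac) (fun e => hbc (MulAction.injective _ e)) (hconj b hb)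
    (hconj c hc)
  calc g = α * (α⁻¹ * g * α) * α⁻¹ := by group
    _ = 1 := by rw [h]; group

theorem Local.two (L : Local Q D) :
    MulAction.IsMultiplyPretransitive G (G ⧸ Subgroup.normalizer (Q : Set G)) 2 := by
  rw [MulAction.is_two_pretransitive_iff]
  obtain ⟨v, hv⟩ := L.exists_ne
  have h : ∀ a b : G ⧸ Subgroup.normalizer (Q : Set G), a ≠ b → ∃ g : G, g • pt Q 1 = a ∧ g • v = b := by
    intro a b hab
    obtain ⟨α, rfl⟩ := QuotientGroup.mk_surjective a
    have hb' : α⁻¹ • b ≠ pt Q 1 := fun e => hab (by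
      rw [← smul_inv_smul α b, e, smul_pt, mul_one])
    obtain ⟨x, hx, hxb⟩ := L.regular hv hb'
    exact ⟨α * x, by rw [mul_smul, smul_base.2 (Q.le_normalizer hx), smul_pt, mul_one],
      by rw [mul_smul, hxb, smul_inv_smul]⟩
  intro a b c d hab hcd
  obtain ⟨g, hg1, hg2⟩ := h a b hab
  obtain ⟨g', hg1', hg2'⟩ := h c d hcd
  exact ⟨g' * g⁻¹, by rw [mul_smul, ← hg1, inv_smul_smul, hg1'],
    by rw [mul_smul, ← hg2, inv_smul_smul, hg2']⟩

theorem Local.card_pair (L : Local Q D) {v : G ⧸ Subgroup.normalizer (Q : Set G)} (hv : v ≠ pt Q 1) :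
    Nat.card ↥(stabilizer G (pt Q 1) ⊓ stabilizer G v) = Nat.card D := by
  have hst : stabilizer G (pt Q 1) = Subgroup.normalizer (Q : Set G) := by
    ext k; rw [mem_stabilizer_iff, smul_base]
  rw [hst]
  have e : Nat.card ↥(Subgroup.normalizer (Q : Set G)) =
      Nat.card Q * Nat.card ↥(Subgroup.normalizer (Q : Set G) ⊓ stabilizer G v) := by
    rw [← Nat.card_prod]
    refine Nat.card_congr (Equiv.ofBijective
      (fun p : Q × ↥(Subgroup.normalizer (Q : Set G) ⊓ stabilizer G v) =>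
        (⟨(p.1 : G) * p.2, mul_mem (Q.le_normalizer p.1.2) p.2.2.1⟩ :
          ↥(Subgroup.normalizer (Q : Set G)))) ⟨?_, ?_⟩).symm
    · rintro ⟨a, b⟩ ⟨a', b'⟩ e
      have e' : (a : G) * b = a' * b' := congrArg Subtype.val e
      have hb : (b : G) • v = v := b.2.2
      have hb' : (b' : G) • v = v := b'.2.2
      have ha : (a : G) = a' := L.inj hv a.2 a'.2 (by
        have := congrArg (fun w : G => w • v) e'
        simpa [mul_smul, hb, hb'] using this)
      rw [ha] at e'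
      exact Prod.ext (Subtype.ext ha) (Subtype.ext (mul_left_cancel e'))
    · rintro ⟨k, hk⟩
      have hkv : k • v ≠ pt Q 1 := fun h => hv (by
        rw [← inv_smul_smul k v, h, smul_base.2 (inv_mem hk)])
      obtain ⟨x, hx, hxk⟩ := L.regular hv hkv
      refine ⟨(⟨x, hx⟩, ⟨x⁻¹ * k, mem_inf.2 ⟨mul_mem (inv_mem (Q.le_normalizer hx)) hk, ?_⟩⟩), ?_⟩
      · show (x⁻¹ * k) • v = v
        rw [mul_smul, ← hxk, inv_smul_smul]
      · exact Subtype.ext (mul_inv_cancel_left x k)
  rw [L.card_norm] at e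
  exact (Nat.eq_of_mul_eq_mul_left Nat.card_pos e).symm

theorem Local.one_lt_D [IsSimpleGroup G] (L : Local Q D) (hns : ¬ Group.IsSolvable G) :
    1 < Nat.card D := by
  have hd : 0 < Nat.card D := Nat.card_pos
  by_contra h
  have hq : Nat.card Q = 3 := by have := L.cardD; omega
  have hG := L.card
  rw [hq] at hG
  exact hns (CfsgLib.Present.isSolvable_of_card_dvd_sixty ⟨5, by omega⟩ (by omega))

theorem Local.zassenhaus [IsSimpleGroup G] (L : Local Q D) (hns : ¬ Group.IsSolvable G) :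
    Cfsg.IsZassenhausGroup G (G ⧸ Subgroup.normalizer (Q : Set G)) := by
  classical
  obtain ⟨v, hv⟩ := L.exists_ne
  have hD := L.one_lt_D hns
  have hQ : 1 < Nat.card Q := by have := L.cardD; omega
  refine ⟨⟨fun {g g'} h => ?_⟩, L.two, L.three, ?_, ?_⟩
  · have hfix : ∀ w : G ⧸ Subgroup.normalizer (Q : Set G), (g'⁻¹ * g) • w = w := fun w => by
      rw [mul_smul, h, inv_smul_smul]
    haveI : Nontrivial Q := Finite.one_lt_card_iff_nontrivial.1 hQ
    obtain ⟨x, hx⟩ := _root_.exists_ne (1 : Q)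
    have hxv : (x : G) • v ≠ v := fun e => hv (L.fix x.2 (fun e' => hx (Subtype.ext e')) e)
    have hxv' : (x : G) • v ≠ pt Q 1 := fun e => hv (by
      rw [← inv_smul_smul (x : G) v, e, smul_base.2 (inv_mem (Q.le_normalizer x.2))])
    exact (inv_mul_eq_one.1 (L.three _ (pt Q 1) v ((x : G) • v) hv.symm hxv.symm hxv'.symm
      (hfix _) (hfix _) (hfix _))).symm
  · have h := L.card_pair hv
    haveI : Nontrivial ↥(stabilizer G (pt Q 1) ⊓ stabilizer G v) :=
      Finite.one_lt_card_iff_nontrivial.1 (by omega)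
    obtain ⟨k, hk⟩ := _root_.exists_ne (1 : ↥(stabilizer G (pt Q 1) ⊓ stabilizer G v))
    exact ⟨k, fun e => hk (Subtype.ext e), pt Q 1, v, hv.symm, k.2.1, k.2.2⟩
  · intro N hN htr
    rcases hN.eq_bot_or_eq_top with rfl | rfl
    · obtain ⟨k, hk⟩ := @MulAction.exists_smul_eq _ _ _ htr (pt Q 1) v
      have hk1 : (k : G) = 1 := (mem_bot.1 k.2)
      refine absurd ?_ hv.symm
      rw [← hk]
      show pt Q 1 = (k : G) • pt Q 1
      rw [hk1, one_smul]
    · refine ⟨pt Q 1, ?_⟩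
      haveI : Nontrivial Q := Finite.one_lt_card_iff_nontrivial.1 hQ
      obtain ⟨x, hx⟩ := _root_.exists_ne (1 : Q)
      intro e
      have hm : (⟨(x : G), mem_top _⟩ : (⊤ : Subgroup G)) ∈
          stabilizer (⊤ : Subgroup G) (pt Q 1) := smul_base.2 (Q.le_normalizer x.2)
      have hm' := mem_bot.1 ((SetLike.ext_iff.1 e _).1 hm)
      exact hx (Subtype.ext (congrArg (fun w : (⊤ : Subgroup G) => (w : G)) hm'))

theorem Local.exists_psl [IsSimpleGroup G] (L : Local Q D) (hns : ¬ Group.IsSolvable G) :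
    ∃ (F : Type) (_ : Field F) (_ : Fintype F), Odd (Fintype.card F) ∧
      Nonempty (G ≃* Matrix.ProjectiveSpecialLinearGroup (Fin 2) F) := by
  classical
  haveI := Fintype.ofFinite (G ⧸ Subgroup.normalizer (Q : Set G))
  have hZ := L.zassenhaus hns
  have hP := Zass.Pre.of hZ
  obtain ⟨K, hK⟩ := hP.exists_kernel (pt Q 1)
  have hle : Q ≤ K := by
    intro x hx
    by_cases hx1 : x = 1
    · exact hx1 ▸ K.one_mem
    exact hK.mem x (smul_base.2 (Q.le_normalizer hx)) fun c hc => L.fix hx hx1 hc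
  have h2 := L.card_points
  rw [Nat.card_eq_fintype_card (α := G ⧸ Subgroup.normalizer (Q : Set G))] at h2
  have hQK : Q = K := Subgroup.eq_of_le_of_card_ge hle (by have := hK.card hP; omega)
  subst hQK
  rcases CfsgLib.ZassAbelian.classification hZ hK L.comm with ⟨ht, hs⟩ | ⟨F, iF, iFF, hF, hiso⟩
  · exfalso
    obtain ⟨v, hv⟩ := L.exists_ne
    have hS3 : CfsgLib.SharpThree.IsS3 G (G ⧸ Subgroup.normalizer (Q : Set G)) := ⟨ht, hs⟩
    have h3 := hP.three_le_card
    have h4 := hS3.card_pair_stabilizer hv.symm h3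
    rw [L.card_pair hv, h2] at h4
    have := L.cardD
    have := L.one_lt_D hns
    omega
  · refine ⟨F, iF, iFF, ?_, hiso⟩
    exact Nat.odd_iff.2 (FiniteField.odd_card_of_char_ne_two hF)

end CfsgLib.FGS73.DihBSW
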