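import Mathlib

set_option autoImplicit false

namespace CfsgLib.FGS73

open Subgroup

variable {G : Type*} [Group G]

/-- In a finite group, an element conjugating `x` into `⟨x⟩` normalizes `⟨x⟩`. -/
theorem mem_normalizer_zpowers [Finite G] {g x : G} (h : g * x * g⁻¹ ∈ zpowers x) :
    g ∈ normalizer ((zpowers x : Subgroup G) : Set G) := by
  have hle : (zpowers x).map (MulAut.conj g).toMonoidHom ≤ zpowers x := by
    rw [MonoidHom.map_zpowers]
    exact zpowers_le.2 (by simpa using h)
  have heq : (zpowers x).map (MulAut.conj g).toMonoidHom = zpowers x :=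
    eq_of_le_of_card_ge hle (le_of_eq (card_map_of_injective (MulAut.conj g).injective).symm)
  rw [mem_normalizer_iff_map_conj_eq]
  exact heq

theorem conj_mem_zpowers_of_mem_normalizer {g x : G}
    (hg : g ∈ normalizer ((zpowers x : Subgroup G) : Set G)) : g * x * g⁻¹ ∈ zpowers x :=
  (mem_normalizer_iff.1 hg x).1 (mem_zpowers x)

theorem normalizer_zpowers_le_centralizer_iff [Finite G] {x : G} :
    normalizer ((zpowers x : Subgroup G) : Set G) ≤ centralizer {x} ↔
      ∀ g : G, g * x * g⁻¹ ∈ zpowers x → g * x = x * g := by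
  constructor
  · intro h g hg
    exact mem_centralizer_singleton_iff.1 (h (mem_normalizer_zpowers hg))
  · intro h g hg
    exact mem_centralizer_singleton_iff.2 (h g (conj_mem_zpowers_of_mem_normalizer hg))

theorem mem_centralizer_zpowers_iff {g x : G} :
    g ∈ centralizer ((zpowers x : Subgroup G) : Set G) ↔ g * x = x * g := by
  rw [mem_centralizer_iff]
  constructor
  · intro h; exact (h x (mem_zpowers x)).symm
  · rintro h y ⟨k, rfl⟩
    exact (Commute.zpow_right (show Commute g x from h) k).symm.eq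

theorem centralizer_zpowers (x : G) :
    centralizer ((zpowers x : Subgroup G) : Set G) = centralizer {x} := by
  ext g
  rw [mem_centralizer_zpowers_iff, mem_centralizer_singleton_iff]

/-- The elements sending `x` to itself or to its inverse. -/
def signedCentralizer (x : G) : Subgroup G where
  carrier := {g | g * x * g⁻¹ = x ∨ g * x * g⁻¹ = x⁻¹}
  one_mem' := Or.inl (by simp)
  mul_mem' {a b} ha hb := by
    simp only [Set.mem_ofPred_eq] at *
    have e : a * b * x * (a * b)⁻¹ = a * (b * x * b⁻¹) * a⁻¹ := by simp [mul_assoc]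
    rw [e]
    rcases hb with hb | hb <;> rw [hb]
    · exact ha
    · rw [show a * x⁻¹ * a⁻¹ = (a * x * a⁻¹)⁻¹ by simp [mul_assoc]]
      rcases ha with ha | ha <;> rw [ha]
      · right; rfl
      · left; exact inv_inv x
  inv_mem' {a} ha := by
    simp only [Set.mem_ofPred_eq] at *
    rcases ha with ha | ha
    · left
      have : a⁻¹ * (a * x * a⁻¹) * a⁻¹⁻¹ = x := by simp [mul_assoc]
      rwa [ha] at this
    · right
      have : a⁻¹ * (a * x * a⁻¹)⁻¹ * a⁻¹⁻¹ = x⁻¹ := by simp [mul_assoc]
      rwa [ha, inv_inv] at this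

theorem mem_signedCentralizer {x g : G} :
    g ∈ signedCentralizer x ↔ g * x * g⁻¹ = x ∨ g * x * g⁻¹ = x⁻¹ := Iff.rfl

theorem centralizer_le_signedCentralizer (x : G) : centralizer {x} ≤ signedCentralizer x := fun g hg =>
  Or.inl (by rw [mem_centralizer_singleton_iff.1 hg, mul_assoc, mul_inv_cancel, mul_one])

theorem relIndex_signedCentralizer_eq_two {x g : G} (hx : x ≠ x⁻¹) (hg : g * x * g⁻¹ = x⁻¹) :
    (centralizer {x}).relIndex (signedCentralizer x) = 2 := by
  have key : ∀ b : G, b ∈ centralizer {x} ↔ b * x * b⁻¹ = x := fun b => by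
    rw [mem_centralizer_singleton_iff, mul_inv_eq_iff_eq_mul]
  rw [relIndex_eq_two_iff]
  refine ⟨g, Or.inr hg, fun b hb => ?_⟩
  have e : b * g * x * (b * g)⁻¹ = (b * x * b⁻¹)⁻¹ := by
    calc b * g * x * (b * g)⁻¹ = b * (g * x * g⁻¹) * b⁻¹ := by simp [mul_assoc]
      _ = _ := by rw [hg]; simp [mul_assoc]
  rcases hb with hb | hb
  · refine Or.inr ⟨(key b).2 hb, fun h => hx ?_⟩
    rw [key, e, hb] at h; exact h.symm
  · refine Or.inl ⟨(key _).2 (by rw [e, hb, inv_inv]), fun h => hx ?_⟩
    rw [key, hb] at h; exact h.symm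

theorem signedCentralizer_le_normalizer [Finite G] (x : G) :
    signedCentralizer x ≤ normalizer ((zpowers x : Subgroup G) : Set G) := by
  intro g hg
  apply mem_normalizer_zpowers
  rcases hg with hg | hg <;> rw [hg]
  · exact mem_zpowers x
  · exact inv_mem (mem_zpowers x)

/-- An inverted element of order more than two has centralizer of even relative index in `N(⟨x⟩)`. -/
theorem two_dvd_relIndex_of_inverted [Finite G] {x g : G} (hx : x ≠ x⁻¹) (hg : g * x * g⁻¹ = x⁻¹) :
    2 ∣ (centralizer {x}).relIndex (normalizer ((zpowers x : Subgroup G) : Set G)) := by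
  rw [← relIndex_mul_relIndex _ _ _ (centralizer_le_signedCentralizer x) (signedCentralizer_le_normalizer x),
    relIndex_signedCentralizer_eq_two hx hg]
  exact dvd_mul_right 2 _

theorem two_dvd_index_centralizer_of_inverted [Finite G] {x g : G} (hx : x ≠ x⁻¹)
    (hg : g * x * g⁻¹ = x⁻¹) : 2 ∣ (centralizer {x}).index := by
  rw [← relIndex_signedCentralizer_eq_two hx hg]
  exact relIndex_dvd_index_of_le (centralizer_le_signedCentralizer x)

/-- An element whose centralizer contains a Sylow 2-subgroup and which is real squares to one. -/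
theorem sq_eq_one_of_real_of_sylow_le [Finite G] {x : G} (S : Sylow 2 G) (hr : IsConj x x⁻¹)
    (hS : (S : Subgroup G) ≤ centralizer {x}) : x ^ 2 = 1 := by
  by_contra hx
  obtain ⟨g, hg⟩ := isConj_iff.1 hr
  have hx' : x ≠ x⁻¹ := fun h => hx (by rw [pow_two]; nth_rewrite 2 [h]; exact mul_inv_cancel x)
  have h1 := two_dvd_index_centralizer_of_inverted hx' hg
  exact S.not_dvd_index (h1.trans (index_dvd_of_le hS))

theorem eq_one_of_odd_of_eq_inv {x : G} (ho : Odd (orderOf x)) (h : x = x⁻¹) : x = 1 := by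
  have h2 : x ^ 2 = 1 := by rw [pow_two]; nth_rewrite 2 [h]; exact mul_inv_cancel x
  have : orderOf x = 1 := by
    rcases (Nat.dvd_prime Nat.prime_two).1 (orderOf_dvd_of_pow_eq_one h2) with h3 | h3
    · exact h3
    · rw [h3] at ho; exact absurd ho (by decide)
  exact orderOf_eq_one_iff.1 this

/-- An element with two coprime exponents lies in every subgroup containing both powers. -/
theorem mem_of_pow_mem_coprime {H : Subgroup G} {g : G} {a b : ℕ} (hab : a.Coprime b)
    (ha : g ^ a ∈ H) (hb : g ^ b ∈ H) : g ∈ H := by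
  have h := Nat.gcd_eq_gcd_ab a b
  rw [hab.gcd_eq_one, Nat.cast_one] at h
  have : g = (g ^ a) ^ Nat.gcdA a b * (g ^ b) ^ Nat.gcdB a b := by
    rw [← zpow_natCast g a, ← zpow_natCast g b, ← zpow_mul, ← zpow_mul, ← zpow_add, ← h, zpow_one]
  rw [this]
  exact mul_mem (zpow_mem ha _) (zpow_mem hb _)


/-- A subgroup normalizes (the image of) its normal subgroups. -/
theorem normalizes_map (A : Subgroup G) (K : Subgroup A) [K.Normal] {a : G} (ha : a ∈ A) :
    a ∈ normalizer ((K.map A.subtype : Subgroup G) : Set G) := by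
  rw [mem_normalizer_iff]
  intro x
  constructor
  · rintro ⟨k, hk, rfl⟩
    exact ⟨⟨a, ha⟩ * k * ⟨a, ha⟩⁻¹, (inferInstance : K.Normal).conj_mem k hk ⟨a, ha⟩, rfl⟩
  · rintro ⟨k, hk, hkx⟩
    refine ⟨⟨a, ha⟩⁻¹ * k * ⟨a, ha⟩, ?_, ?_⟩
    · have := (inferInstance : K.Normal).conj_mem k hk ⟨a, ha⟩⁻¹
      rwa [inv_inv] at this
    · simp only [coe_subtype, coe_mul, coe_inv] at hkx ⊢
      rw [hkx]; simp [mul_assoc]

end CfsgLib.FGS73
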