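import Mathlib
import Cfsg.Prelude.Def_Transfer
import Cfsg.Agent.Lib.FGS73.Conj
import Cfsg.Agent.Lib.Transfer.PResidual
import Cfsg.Agent.Lib.PNilpotent.Basic
import Cfsg.Agent.Lib.Solvable.SchurZassenhaus
import Cfsg.Agent.Lib.PLocal.Thompson
import Cfsg.Agent.Lib.Fusion.GlaubermanThompson

/-!
Groups with a nilpotent maximal subgroup: reduction of solvability to normal p-complements, with the
criteria for class at most two and for odd order.
-/

set_option autoImplicit false
set_option linter.style.haveILetI false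

universe u

namespace CfsgLib.FGS73.MaxNil

open Subgroup
open scoped commutatorElement Pointwise

variable {G : Type u} [Group G] [Finite G] {p : ℕ} [hp : Fact p.Prime]

/-- In a finite nilpotent group, a `p`-element commutes with an element of order prime to `p`. -/
theorem commute_of_pPower_of_coprime [Group.IsNilpotent G] {x y : G} (hx : ∃ k, orderOf x = p ^ k)
    (hy : (orderOf y).Coprime p) : Commute x y := by
  obtain ⟨k, hk⟩ := hx
  obtain ⟨P, hP⟩ := (IsPGroup.of_card (p := p) (G := zpowers x) (n := k) (by rw [Nat.card_zpowers, hk])).exists_le_sylow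
  haveI hPn : (P : Subgroup G).Normal := Sylow.normal_of_normalizerCondition normalizerCondition_of_isNilpotent P
  haveI : (centralizer ((P : Subgroup G) : Set G)).Normal := inferInstance
  have hidx : ∀ q : ℕ, q.Prime → q ∣ (centralizer ((P : Subgroup G) : Set G)).index → q = p := by
    intro q hq hd
    by_contra hne
    haveI := Fact.mk hq
    obtain ⟨Q⟩ := (inferInstance : Nonempty (Sylow q G))
    haveI hQn : (Q : Subgroup G).Normal := Sylow.normal_of_normalizerCondition normalizerCondition_of_isNilpotent Q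
    have hdis : Disjoint (Q : Subgroup G) (P : Subgroup G) := IsPGroup.disjoint_of_ne q p hne _ _ Q.2 P.2
    have hle : (Q : Subgroup G) ≤ centralizer ((P : Subgroup G) : Set G) := fun a ha =>
      mem_centralizer_iff.2 fun b hb => (commute_of_normal_of_disjoint _ _ hQn hPn hdis a b ha hb).eq.symm
    exact Q.not_dvd_index (hd.trans (Subgroup.index_dvd_of_le hle))
  obtain ⟨j, hj⟩ : ∃ j, (centralizer ((P : Subgroup G) : Set G)).index = p ^ j :=
    ⟨_, Nat.eq_prime_pow_of_unique_prime_dvd Subgroup.index_ne_zero_of_finite fun {q} hq hd => hidx q hq hd⟩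
  exact mem_centralizer_iff.1 (CfsgLib.Transfer.mem_of_coprime_of_index_eq_pow _ hj hy) x (hP (mem_zpowers x))

theorem isPElement_of_mem {P : Subgroup G} (hP : IsPGroup p P) {x : G} (hx : x ∈ P) :
    ∃ k, orderOf x = p ^ k := by
  obtain ⟨k, hk⟩ := IsPGroup.iff_orderOf.1 hP ⟨x, hx⟩
  exact ⟨k, by rw [← hk, Subgroup.orderOf_mk]⟩

theorem hasNormalPComplement_of_isNilpotent [Group.IsNilpotent G] : Cfsg.HasNormalPComplement p G := by
  obtain ⟨P⟩ := (inferInstance : Nonempty (Sylow p G))
  obtain ⟨N, hN, hc⟩ := CfsgLib.PNilpotent.exists_normal_complement (p := p) (G := G) (fun Q hQ g _ hgo =>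
    mem_centralizer_iff.2 fun x hx => (commute_of_pPower_of_coprime (isPElement_of_mem hQ hx) hgo).eq) P
  exact ⟨P, N, hN, hc⟩

/-- The configuration of a core-free nilpotent maximal subgroup. -/
structure Config (M : Subgroup G) : Prop where
  coatom : IsCoatom M
  nil : Group.IsNilpotent M
  coreFree : ∀ V : Subgroup G, V.Normal → V ≤ M → V = ⊥

theorem Config.normalizer_eq {M : Subgroup G} (h : Config M) {V : Subgroup G} (hV : V ≠ ⊥) (hVM : V ≤ M)
    (hMV : M ≤ normalizer (V : Set G)) : normalizer (V : Set G) = M := by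
  refine (h.coatom.le_iff.1 hMV).resolve_left fun ht => hV (h.coreFree V ?_ hVM)
  exact Subgroup.normalizer_eq_top_iff.1 ht

/-- A Sylow subgroup of `G` inside `M`, normalised by `M`, for every prime dividing `|M|`. -/
theorem Config.exists_sylow {M : Subgroup G} (h : Config M) (hd : p ∣ Nat.card M) :
    ∃ P : Sylow p G, (P : Subgroup G) ≤ M ∧ M ≤ normalizer ((P : Subgroup G) : Set G) := by
  haveI := h.nil
  obtain ⟨S⟩ := (inferInstance : Nonempty (Sylow p M))
  haveI hSn : (S : Subgroup M).Normal := Sylow.normal_of_normalizerCondition normalizerCondition_of_isNilpotent S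
  set S' := (S : Subgroup M).map M.subtype with hS'
  have hS'M : S' ≤ M := map_subtype_le _
  have hMS' : M ≤ normalizer (S' : Set G) := by
    intro m hm
    rw [Subgroup.mem_normalizer_iff_map_conj_eq]
    ext x
    constructor
    · rintro ⟨y, ⟨z, hz, rfl⟩, rfl⟩
      exact ⟨⟨m, hm⟩ * z * ⟨m, hm⟩⁻¹, hSn.conj_mem z hz _, rfl⟩
    · rintro ⟨z, hz, rfl⟩
      refine ⟨_, ⟨⟨m, hm⟩⁻¹ * z * ⟨m, hm⟩, ?_, rfl⟩, by simp [mul_assoc]⟩
      have h1 := hSn.conj_mem z hz ⟨m, hm⟩⁻¹
      rwa [inv_inv] at h1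
  have hne : S' ≠ ⊥ := by
    rw [hS', Ne, map_eq_bot_iff_of_injective _ M.subtype_injective]
    exact S.ne_bot_of_dvd_card hd
  have hN := h.normalizer_eq hne hS'M hMS'
  obtain ⟨P, hP⟩ := (S.2.map M.subtype).exists_le_sylow
  have hinter : (P : Subgroup G).subgroupOf M = (S : Subgroup M) :=
    S.3 (P.2.comap_subtype) (fun x hx => hP (mem_map_of_mem _ hx))
  have hPS : (P : Subgroup G) ≤ S' := by
    by_contra hnle
    have hlt : S'.subgroupOf (P : Subgroup G) < ⊤ :=
      lt_top_iff_ne_top.2 fun ht => hnle (Subgroup.subgroupOf_eq_top.1 ht)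
    haveI := P.2.isNilpotent
    obtain ⟨x, hx, hxS⟩ := SetLike.exists_of_lt (normalizerCondition_of_isNilpotent _ hlt)
    rw [← Subgroup.subgroupOf_normalizer_eq hP, hN, Subgroup.mem_subgroupOf] at hx
    apply hxS
    rw [Subgroup.mem_subgroupOf, hS']
    refine ⟨⟨(x : G), hx⟩, ?_, rfl⟩
    rw [← hinter]
    exact Subgroup.mem_subgroupOf.2 x.2
  have hPeq : (P : Subgroup G) = S' := le_antisymm hPS hP
  exact ⟨P, hPeq ▸ hS'M, hPeq ▸ hMS'⟩

/-- The class-two criterion. -/
theorem Config.npc_of_class_two {M : Subgroup G} (h : Config M)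
    (hcl : ∀ a ∈ M, ∀ b ∈ M, ∀ c ∈ M, Commute ⁅a, b⁆ c) (hd : p ∣ Nat.card M) :
    Cfsg.HasNormalPComplement p G := by
  obtain ⟨P, hPM, hMP⟩ := h.exists_sylow (p := p) hd
  haveI := h.nil
  suffices hyp : CfsgLib.PNilpotent.PrimeToPCentralizes p G by
    obtain ⟨N, hN, hc⟩ := CfsgLib.PNilpotent.exists_normal_complement hyp P
    exact ⟨P, N, hN, hc⟩
  intro U hU g hg hgo
  rcases eq_or_ne U ⊥ with rfl | hU1
  · exact mem_centralizer_iff.2 fun x hx => by rw [(mem_bot.1 hx : x = 1)]; simp
  set C := centralizer (U : Set G) with hC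
  obtain ⟨R⟩ := (inferInstance : Nonempty (Sylow p C))
  set R' := (R : Subgroup C).map C.subtype with hR'
  have hR'p : IsPGroup p R' := R.2.map _
  have hUR : R' ≤ normalizer (U : Set G) := (map_subtype_le _).trans (centralizer_le_normalizer _)
  have hVp : IsPGroup p (U ⊔ R' : Subgroup G) := hU.to_sup_of_normal_left' hR'p hUR
  obtain ⟨S1, hS1⟩ := hVp.exists_le_sylow
  obtain ⟨w, hw⟩ := MulAction.exists_smul_eq G P S1
  have hmem : ∀ s : G, s ∈ (S1 : Subgroup G) → w⁻¹ * s * w ∈ (P : Subgroup G) := by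
    intro s hs
    rw [← hw, Sylow.coe_subgroup_smul, Subgroup.mem_pointwise_smul_iff_inv_smul_mem] at hs
    simpa [MulAut.smul_def] using hs
  -- R' is all of S1 ⊓ C
  have hR'eq : ∀ z ∈ (S1 : Subgroup G), z ∈ C → z ∈ R' := by
    intro z hz hzC
    have hmax : (S1 : Subgroup G).subgroupOf C = (R : Subgroup C) :=
      R.3 (S1.2.comap_subtype) (fun x hx => hS1 (mem_sup_right (mem_map_of_mem _ hx)))
    exact ⟨⟨z, hzC⟩, by rw [← hmax]; exact hz, rfl⟩
  -- the commutators of S1 lie in R'
  have hcomm : ∀ a ∈ (S1 : Subgroup G), ∀ b ∈ (S1 : Subgroup G), ⁅a, b⁆ ∈ R' := by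
    intro a ha b hb
    refine hR'eq _ (mul_mem (mul_mem (mul_mem ha hb) (inv_mem ha)) (inv_mem hb)) ?_
    refine mem_centralizer_iff.2 fun u hu => ?_
    have h1 := hcl _ (hPM (hmem a ha)) _ (hPM (hmem b hb)) _ (hPM (hmem u (hS1 (mem_sup_left hu))))
    have e : ⁅w⁻¹ * a * w, w⁻¹ * b * w⁆ = w⁻¹ * ⁅a, b⁆ * w := by
      simp only [commutatorElement_def]; group
    rw [e] at h1
    have h2 := congrArg (fun t => w * t * w⁻¹) h1.eq
    simpa [mul_assoc] using h2.symm
  set V := U ⊔ R' with hV
  have hS1V : ∀ s ∈ (S1 : Subgroup G), ∀ v ∈ V, s * v * s⁻¹ ∈ V := by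
    intro s hs v hv
    have e : s * v * s⁻¹ = ⁅s, v⁆ * v := by simp only [commutatorElement_def]; group
    rw [e]
    exact mul_mem (mem_sup_right (hcomm s hs v (hS1 hv))) hv
  -- transport to P
  set V' := V.map (MulAut.conj w⁻¹).toMonoidHom with hV'
  have hV'P : V' ≤ (P : Subgroup G) := by
    rintro _ ⟨v, hv, rfl⟩
    simpa [mul_assoc] using hmem v (hS1 hv)
  have hV'1 : V' ≠ ⊥ := by
    rw [hV', Ne, map_eq_bot_iff_of_injective _ (MulAut.conj w⁻¹).injective]
    exact fun hb => hU1 (le_bot_iff.1 (hb ▸ le_sup_left))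
  have hPV' : (P : Subgroup G) ≤ normalizer (V' : Set G) := by
    intro a ha
    have hs : w * a * w⁻¹ ∈ (S1 : Subgroup G) := by
      rw [← hw, Sylow.coe_subgroup_smul, Subgroup.mem_pointwise_smul_iff_inv_smul_mem]
      simpa [MulAut.smul_def, mul_assoc] using ha
    have hx : w * a * w⁻¹ ∈ normalizer (V : Set G) := by
      have : ∀ s ∈ (S1 : Subgroup G), s ∈ normalizer (V : Set G) := fun s hs => by
        rw [Subgroup.mem_normalizer_iff]
        refine fun v => ⟨fun hv => hS1V s hs v hv, fun hv => ?_⟩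
        have := hS1V s⁻¹ (inv_mem hs) _ hv
        simpa [mul_assoc] using this
      exact this _ hs
    rw [hV', CfsgLib.PNilpotent.conj_mem_normalizer_iff]
    simpa using hx
  -- decomposition of elements of M
  have hdec : ∀ m ∈ M, ∃ j : ℕ, m ^ p ^ j ∈ centralizer ((P : Subgroup G) : Set G) := by
    intro m hm
    obtain ⟨j, hj⟩ := CfsgLib.Transfer.exists_pow_coprime_orderOf (p := p) m
    refine ⟨j, mem_centralizer_iff.2 fun x hx => ?_⟩
    have := commute_of_pPower_of_coprime (G := M) (p := p) (x := ⟨x, hPM hx⟩) (y := ⟨m, hm⟩ ^ p ^ j)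
      (by rw [Subgroup.orderOf_mk]; exact isPElement_of_mem P.2 hx)
      (by rw [← Subgroup.orderOf_coe, Subgroup.coe_pow]; exact hj)
    exact congrArg Subtype.val this.eq
  have hMV' : M ≤ normalizer (V' : Set G) := by
    intro m hm
    obtain ⟨a, b, hab, ⟨k, hk⟩, hb⟩ := CfsgLib.PNilpotent.exists_pPart_decomp (p := p) m
    rw [← hab]
    refine mul_mem (hPV' ?_) ?_
    · have hpg : IsPGroup p (zpowers (m ^ a)) := IsPGroup.of_card (n := k) (by rw [Nat.card_zpowers, hk])
      have hle : zpowers (m ^ a) ≤ normalizer ((P : Subgroup G) : Set G) :=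
        zpowers_le.2 (hMP (pow_mem hm a))
      have hsup : IsPGroup p (zpowers (m ^ a) ⊔ (P : Subgroup G) : Subgroup G) :=
        hpg.to_sup_of_normal_right' P.2 hle
      rw [← P.3 hsup le_sup_right]
      exact mem_sup_left (mem_zpowers _)
    · refine (centralizer_le (show (V' : Set G) ⊆ (P : Subgroup G) from hV'P)).trans (centralizer_le_normalizer _) ?_
      refine mem_centralizer_iff.2 fun x hx => ?_
      have := commute_of_pPower_of_coprime (G := M) (p := p) (x := ⟨x, hPM hx⟩) (y := ⟨m ^ b, pow_mem hm b⟩)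
        (by rw [Subgroup.orderOf_mk]; exact isPElement_of_mem P.2 hx)
        (by rw [Subgroup.orderOf_mk]; exact hb)
      exact congrArg Subtype.val this.eq
  have hNV' := h.normalizer_eq hV'1 (hV'P.trans hPM) hMV'
  -- Frattini argument in the centraliser
  set N := normalizer (U : Set G) with hN
  haveI : (C.subgroupOf N).Normal := CfsgLib.PNilpotent.centralizer_subgroupOf_normal U
  have hgC : ∀ x : G, x ∈ C ↔ g * x * g⁻¹ ∈ C := fun x => by
    have h1 := (inferInstance : (C.subgroupOf N).Normal)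
    constructor
    · intro hx
      exact h1.conj_mem ⟨x, (centralizer_le_normalizer _) hx⟩ hx ⟨g, hg⟩
    · intro hx
      have hxN : x ∈ N := by
        have h2 := mul_mem (mul_mem (inv_mem hg) ((centralizer_le_normalizer _) hx : g * x * g⁻¹ ∈ N)) hg
        simpa [mul_assoc] using h2
      have h2 := h1.conj_mem ⟨g * x * g⁻¹, (centralizer_le_normalizer _) hx⟩ hx ⟨g⁻¹, inv_mem hg⟩
      have e : (⟨g⁻¹, inv_mem hg⟩ : N) * ⟨g * x * g⁻¹, (centralizer_le_normalizer _) hx⟩ * (⟨g⁻¹, inv_mem hg⟩ : N)⁻¹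
          = ⟨x, hxN⟩ := Subtype.ext (by simp [mul_assoc])
      rw [e] at h2
      exact h2
  set R'' := R'.map (MulAut.conj g).toMonoidHom with hR''
  have hR''C : R'' ≤ C := by
    rintro _ ⟨x, hx, rfl⟩
    exact (hgC x).1 ((map_subtype_le _ : R' ≤ C) hx)
  have hR''card : Nat.card (R''.subgroupOf C) = Nat.card R := by
    rw [Nat.card_congr (subgroupOfEquivOfLe hR''C).toEquiv, hR'',
      card_map_of_injective (f := (MulAut.conj g).toMonoidHom) (MulAut.conj g).injective, hR', card_subtype]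
  obtain ⟨c, hc⟩ := MulAction.exists_smul_eq C
    (Sylow.ofCard (R''.subgroupOf C) (by rw [hR''card]; exact R.card_eq_multiplicity)) R
  set n := (c : G) * g with hn
  have hnR : R'.map (MulAut.conj n).toMonoidHom = R' := by
    have h1 := congrArg (fun S : Sylow p C => ((S : Subgroup C)).map C.subtype) hc
    simp only [Sylow.coe_subgroup_smul, Sylow.coe_ofCard, ← hR'] at h1
    refine Eq.trans ?_ h1
    ext x
    constructor
    · rintro ⟨y, hy, rfl⟩
      refine ⟨c * ⟨g * y * g⁻¹, hR''C (mem_map_of_mem _ hy)⟩ * c⁻¹, ?_, by simp [hn, mul_assoc]⟩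
      rw [SetLike.mem_coe, Subgroup.mem_pointwise_smul_iff_inv_smul_mem]
      have hy' : g * y * g⁻¹ ∈ R'' := ⟨y, hy, rfl⟩
      simpa [MulAut.smul_def, mul_assoc, Subgroup.mem_subgroupOf, -mem_map] using hy'
    · rintro ⟨z, hz, rfl⟩
      rw [SetLike.mem_coe, Subgroup.mem_pointwise_smul_iff_inv_smul_mem] at hz
      obtain ⟨y, hy, hyz⟩ := (Subgroup.mem_subgroupOf.1 hz : _ ∈ R'')
      refine ⟨y, hy, ?_⟩
      simp only [MulAut.smul_def, MulEquiv.coe_toMonoidHom, MulAut.conj_apply] at hyz ⊢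
      push_cast at hyz
      rw [hn, show (c : G) * g * y * ((c : G) * g)⁻¹ = c * (g * y * g⁻¹) * (c : G)⁻¹ by group, hyz]
      simp [mul_assoc]
  have hnU : n ∈ N := mul_mem ((centralizer_le_normalizer _) c.2) hg
  have hnV : n ∈ normalizer (V : Set G) := by
    rw [Subgroup.mem_normalizer_iff_map_conj_eq]
    show (U ⊔ R').map (MulAut.conj n).toMonoidHom = U ⊔ R'
    rw [Subgroup.map_sup, hnR]
    congr 1
    exact Subgroup.mem_normalizer_iff_map_conj_eq.1 hnU
  have hx : w⁻¹ * n * w ∈ M := by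
    rw [← hNV', hV', CfsgLib.PNilpotent.conj_mem_normalizer_iff]
    simpa [mul_assoc] using hnV
  obtain ⟨j, hj⟩ := hdec _ hx
  have hnpow : n ^ p ^ j ∈ C := by
    refine mem_centralizer_iff.2 fun u hu => ?_
    have h1 := mem_centralizer_iff.1 hj _ (hmem u (hS1 (mem_sup_left hu)))
    rw [show (w⁻¹ * n * w) ^ p ^ j = w⁻¹ * n ^ p ^ j * w by
      have := (conj_pow (a := w⁻¹) (b := n) (i := p ^ j)); simpa using this] at h1
    have h2 := congrArg (fun t => w * t * w⁻¹) h1
    simpa [mul_assoc] using h2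
  have hgpow : g ^ p ^ j ∈ C := by
    have h1 : ((⟨g, hg⟩ : N) : N ⧸ C.subgroupOf N) = ((⟨n, hnU⟩ : N) : N ⧸ C.subgroupOf N) := by
      have hcN : (c : G) ∈ N := (centralizer_le_normalizer _) c.2
      have hcC : (⟨(c : G), hcN⟩ : N) ∈ C.subgroupOf N := Subgroup.mem_subgroupOf.2 c.2
      rw [show (⟨n, hnU⟩ : N) = ⟨(c : G), hcN⟩ * ⟨g, hg⟩ from Subtype.ext hn,
        QuotientGroup.mk_mul, (QuotientGroup.eq_one_iff _).2 hcC, one_mul]
    have h2 := congrArg (fun t => t ^ p ^ j) h1
    simp only [← QuotientGroup.mk_pow] at h2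
    rw [(QuotientGroup.eq_one_iff _).2 (show (⟨n, hnU⟩ : N) ^ p ^ j ∈ C.subgroupOf N from hnpow),
      QuotientGroup.eq_one_iff] at h2
    exact h2
  exact mem_of_pow_mem_coprime (hgo.symm.pow_left j) hgpow (by rw [pow_orderOf_eq_one]; exact one_mem _)

/-- The odd criterion, by the Glauberman–Thompson theorem. -/
theorem Config.npc_of_odd {M : Subgroup G} (h : Config M) (hp2 : p ≠ 2) (hd : p ∣ Nat.card M) :
    Cfsg.HasNormalPComplement p G := by
  obtain ⟨P, hPM, hMP⟩ := h.exists_sylow (p := p) hd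
  set Z := Cfsg.centerThompsonOf p (P : Subgroup G) with hZ
  have hZP : Z ≤ P := inf_le_left.trans (map_subtype_le _)
  have hMZ : M ≤ normalizer (Z : Set G) := by
    intro m hm
    rw [Subgroup.mem_normalizer_iff_map_conj_eq]
    have hJ := CfsgLib.PLocal.thompsonSubgroupOf_map (p := p) (f := (MulAut.conj m).toMonoidHom) (MulAut.conj m).injective
      (P : Subgroup G)
    have hP' : (P : Subgroup G).map (MulAut.conj m).toMonoidHom = P := Subgroup.mem_normalizer_iff_map_conj_eq.1 (hMP hm)
    rw [hP'] at hJ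
    have hmJ : m ∈ normalizer (Cfsg.thompsonSubgroupOf p (P : Subgroup G) : Set G) :=
      Subgroup.mem_normalizer_iff_map_conj_eq.2 hJ
    rw [← Subgroup.mem_normalizer_iff_map_conj_eq, hZ, Cfsg.centerThompsonOf]
    set J := Cfsg.thompsonSubgroupOf p (P : Subgroup G)
    have hc : ∀ g ∈ normalizer (J : Set G), ∀ x, x ∈ J ⊓ centralizer (J : Set G) →
        g * x * g⁻¹ ∈ J ⊓ centralizer (J : Set G) := by
      intro g hg x hx
      refine mem_inf.2 ⟨(Subgroup.mem_normalizer_iff.1 hg x).1 hx.1, mem_centralizer_iff.2 fun y hy => ?_⟩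
      have h1 := (Subgroup.mem_normalizer_iff.1 (inv_mem hg) y).1 hy
      rw [inv_inv] at h1
      have h2 := congrArg (fun t => g * t * g⁻¹) (mem_centralizer_iff.1 hx.2 _ h1)
      simpa [mul_assoc] using h2
    refine Subgroup.mem_normalizer_iff.2 fun x => ⟨hc m hmJ x, fun hx => ?_⟩
    have h1 := hc m⁻¹ (inv_mem hmJ) _ hx
    simpa [mul_assoc] using h1
  have hZ1 : Z ≠ ⊥ := by
    intro hb
    have hJne := CfsgLib.PLocal.thompsonSubgroup_ne_bot (G := (P : Subgroup G)) (p := p)
      (P.dvd_card_of_dvd_card (hd.trans (Subgroup.card_subgroup_dvd_card M)))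
    have : Nontrivial (Cfsg.thompsonSubgroup p (P : Subgroup G)) := (nontrivial_iff_ne_bot _).mpr hJne
    have hc := (P.2.to_subgroup (Cfsg.thompsonSubgroup p (P : Subgroup G))).bot_lt_center
    obtain ⟨z, hz, hz1⟩ := (bot_or_exists_ne_one _).resolve_left hc.ne'
    have hzX : ((z : (P : Subgroup G)) : G) ∈ Z := by
      refine mem_inf.mpr ⟨mem_map_of_mem _ z.2, ?_⟩
      rintro _ ⟨y, hy, rfl⟩
      exact congr_arg (fun t : Cfsg.thompsonSubgroup p (P : Subgroup G) =>
        ((t : (P : Subgroup G)) : G)) (mem_center_iff.mp hz ⟨y, hy⟩)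
    rw [hb, mem_bot] at hzX
    exact hz1 (Subtype.ext (Subtype.ext hzX))
  have hN := h.normalizer_eq hZ1 (hZP.trans hPM) hMZ
  refine CfsgLib.GlaubermanThompson.hasNormalPComplement_of_normalizer_zj hp2 (Or.inr rfl) P ?_
  rw [CfsgLib.ZJCenter.zj, ← CfsgLib.PLoc.joinMaxAb_prime]
  have hNM : Cfsg.HasNormalPComplement p M := by
    haveI := h.nil; exact hasNormalPComplement_of_isNilpotent
  exact (CfsgLib.Transfer.hasNormalPComplement_congr (MulEquiv.subgroupCongr hN.symm)).1 hNM

omit hp in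
/-- Solvability from normal complements for all primes dividing the order of the maximal subgroup. -/
theorem Config.solvable {M : Subgroup G} (h : Config M)
    (hall : ∀ q : ℕ, q.Prime → q ∣ Nat.card M → Cfsg.HasNormalPComplement q G) : Group.IsSolvable G := by
  haveI := h.nil
  by_cases hM : M = ⊥
  · -- a group with trivial maximal subgroup is cyclic
    haveI hnt : Nontrivial G := by
      by_contra hn
      rw [not_nontrivial_iff_subsingleton] at hn
      exact h.coatom.1 (Subsingleton.elim _ _)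
    obtain ⟨x, hx⟩ := exists_ne (1 : G)
    have ht : zpowers x = ⊤ := (h.coatom.le_iff.1 (hM ▸ bot_le : M ≤ zpowers x)).resolve_right
      (fun he => hx (mem_bot.1 (show x ∈ (⊥ : Subgroup G) by rw [← hM, ← he]; exact mem_zpowers x)))
    refine Group.isSolvable_of_comm fun a b => ?_
    obtain ⟨i, rfl⟩ := mem_zpowers_iff.1 (show a ∈ zpowers x by rw [ht]; exact mem_top a)
    obtain ⟨j, rfl⟩ := mem_zpowers_iff.1 (show b ∈ zpowers x by rw [ht]; exact mem_top b)
    rw [← zpow_add, ← zpow_add, add_comm]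
  set π := {q : ℕ // q.Prime ∧ q ∣ Nat.card M}
  set K : Subgroup G := ⨅ q : π, Cfsg.pResidual q.1 G with hK
  haveI hKn : K.Normal := Subgroup.normal_iInf_normal fun q => CfsgLib.Transfer.pResidual_normal
  have hKcop : (Nat.card K).Coprime (Nat.card M) := by
    refine Nat.coprime_of_dvd fun q hq h1 h2 => ?_
    haveI := Fact.mk hq
    exact CfsgLib.Transfer.hasNormalPComplement_iff_not_dvd.1 (hall q hq h2)
      (h1.trans (Subgroup.card_dvd_of_le (iInf_le (fun q : π => Cfsg.pResidual q.1 G) ⟨q, hq, h2⟩)))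
  have hKb : K ≠ ⊥ := by
    intro hb
    apply h.coatom.1
    refine Subgroup.card_eq_iff_eq_top _ |>.1 (Nat.dvd_antisymm (Subgroup.card_subgroup_dvd_card M) ?_)
    rw [← Nat.factorization_prime_le_iff_dvd Nat.card_pos.ne' Nat.card_pos.ne']
    intro r hr
    haveI := Fact.mk hr
    by_cases hrG : r ∣ Nat.card G
    swap
    · rw [Nat.factorization_eq_zero_of_not_dvd hrG]; exact Nat.zero_le _
    have hrM : r ∣ Nat.card M := by
      by_contra hrM
      obtain ⟨x, hx⟩ := exists_prime_orderOf_dvd_card' r hrG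
      have hxK : x ∈ K := Subgroup.mem_iInf.2 fun q => by
        haveI := Fact.mk q.2.1
        refine CfsgLib.Transfer.mem_pResidual_of_coprime ?_
        rw [hx]
        exact (Nat.coprime_primes hr q.2.1).2 fun he => hrM (he ▸ q.2.2)
      rw [hb, mem_bot] at hxK
      rw [hxK, orderOf_one] at hx
      exact hr.ne_one hx.symm
    obtain ⟨P, hPM, -⟩ := h.exists_sylow (p := r) hrM
    exact (hr.pow_dvd_iff_le_factorization Nat.card_pos.ne').1
      ((P.card_eq_multiplicity ▸ Subgroup.card_dvd_of_le hPM : r ^ (Nat.card G).factorization r ∣ Nat.card M))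
  have hdis : Disjoint K M := disjoint_of_coprime_natCard hKcop
  have htop : K ⊔ M = ⊤ := by
    refine (h.coatom.le_iff.1 le_sup_right).resolve_right fun he => hKb ?_
    exact disjoint_self.1 (hdis.mono_right (le_sup_left.trans he.le))
  have hcompl : K.IsComplement' M := CfsgLib.Solvable.isComplement'_of_sup_eq_top htop hdis
  have hcardKM : Nat.card K * Nat.card M = Nat.card G := hcompl.card_mul
  -- K is a group of prime power order
  obtain ⟨q, hq, hqK⟩ := Nat.exists_prime_and_dvd (n := Nat.card K)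
    (fun h1 => hKb (Subgroup.card_eq_one.1 h1))
  haveI := Fact.mk hq
  obtain ⟨Q⟩ := (inferInstance : Nonempty (Sylow q K))
  set Q' := (Q : Subgroup K).map K.subtype with hQ'
  set N := normalizer (Q' : Set G) with hN
  have hNK : N ⊔ K = ⊤ := Sylow.normalizer_sup_eq_top Q
  have hrel : K.relIndex N = Nat.card M := by
    rw [← Subgroup.relIndex_sup_right]
    first | rw [hNK] | rw [sup_comm, hNK] | rw [sup_comm K, hNK]
    rw [Subgroup.relIndex_top_right]
    exact hcompl.symm.index_eq_card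
  have hcopN : (Nat.card (K.subgroupOf N)).Coprime (K.subgroupOf N).index := by
    show (Nat.card (K.subgroupOf N)).Coprime (K.relIndex N)
    rw [hrel]
    refine hKcop.coprime_dvd_left ?_
    rw [← Nat.card_congr ((K.subgroupOf N).equivMapOfInjective _ N.subtype_injective).toEquiv.symm,
      Subgroup.subgroupOf_map_subtype]
    exact Subgroup.card_dvd_of_le inf_le_left
  obtain ⟨L, hL⟩ := Subgroup.exists_right_complement'_of_coprime hcopN
  set L' := L.map N.subtype with hL'
  have hLcard : Nat.card L' = Nat.card M := by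
    rw [hL', card_subtype, ← hL.symm.index_eq_card]; exact hrel
  obtain ⟨k, hk, hkM⟩ := CfsgLib.Solvable.exists_conj_eq_of_coprime (N := K) (B := M) (B' := L')
    le_normalizer_of_normal (by rw [htop]; exact le_top) hLcard hKcop (Or.inr inferInstance)
  set Q'' := Q'.map (MulAut.conj k⁻¹).toMonoidHom with hQ''
  have hQ''K : Q'' ≤ K := by
    rintro _ ⟨x, hx, rfl⟩
    exact hKn.conj_mem x ((map_subtype_le _ : Q' ≤ K) hx) k⁻¹
  have hMQ : M ≤ normalizer (Q'' : Set G) := by
    intro m hm
    rw [hQ'', CfsgLib.PNilpotent.conj_mem_normalizer_iff]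
    have : k * m * k⁻¹ ∈ L' := by
      rw [← hkM, Subgroup.mem_pointwise_smul_iff_inv_smul_mem]
      simpa [MulAut.smul_def, mul_assoc] using hm
    simpa [mul_assoc] using (map_subtype_le L : L' ≤ N) this
  have hQ''cardQ : Nat.card Q'' = Nat.card Q := by
    rw [hQ'', card_map_of_injective (f := (MulAut.conj k⁻¹).toMonoidHom) (MulAut.conj k⁻¹).injective, hQ', card_subtype]
  have hQ''top : M ⊔ Q'' = ⊤ := by
    refine (h.coatom.le_iff.1 le_sup_left).resolve_right fun he => ?_
    have hle : Q'' ≤ M := le_sup_right.trans he.le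
    have hb : Q'' = ⊥ := disjoint_self.1 (Disjoint.mono hQ''K hle hdis)
    rw [hb, Subgroup.card_bot] at hQ''cardQ
    exact Q.ne_bot_of_dvd_card hqK (Subgroup.card_eq_one.1 hQ''cardQ.symm)
  have hKQ : Nat.card K = Nat.card Q := by
    have h1 := CfsgLib.Solvable.card_sup_of_disjoint hMQ ((hdis.mono_left hQ''K))
    rw [sup_comm, hQ''top, Subgroup.card_top, ← hcardKM, hQ''cardQ] at h1
    exact Nat.eq_of_mul_eq_mul_right Nat.card_pos h1
  obtain ⟨i, hi⟩ := IsPGroup.iff_card.1 Q.2
  haveI : Group.IsNilpotent K := (IsPGroup.of_card (p := q) (n := i) (hKQ.trans hi)).isNilpotent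
  haveI : Group.IsSolvable (G ⧸ K) :=
    Group.isSolvable_of_surjective (f := (hcompl.symm.QuotientMulEquiv).symm.toMonoidHom)
      (hcompl.symm.QuotientMulEquiv).symm.surjective
  exact Group.isSolvable_of_ker_le_range K.subtype (QuotientGroup.mk' K) (by simp)

omit hp in
/-- Induction principle: a property of nilpotent maximal subgroups stable under images which yields
normal complements in the core-free case forces solvability. -/
theorem solvable_of_criterion (C : ∀ (G : Type u) [Group G], Subgroup G → Prop)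
    (hC : ∀ (G : Type u) [Group G] [Finite G] (M N : Subgroup G) [N.Normal], C G M → C (G ⧸ N) (M.map (QuotientGroup.mk' N)))
    (hkey : ∀ (G : Type u) [Group G] [Finite G] (M : Subgroup G), Config M → C G M →
      ∀ q : ℕ, q.Prime → q ∣ Nat.card M → Cfsg.HasNormalPComplement q G) :
    ∀ (n : ℕ) (G : Type u) [Group G] [Finite G] (M : Subgroup G), Nat.card G = n → IsCoatom M →
      Group.IsNilpotent M → C G M → Group.IsSolvable G := by
  intro n
  induction n using Nat.strong_induction_on with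
  | _ n ih =>
  intro G _ _ M hn hmax hnil hCM
  by_cases hcf : ∀ V : Subgroup G, V.Normal → V ≤ M → V = ⊥
  · exact Config.solvable ⟨hmax, hnil, hcf⟩ (hkey G M ⟨hmax, hnil, hcf⟩ hCM)
  push Not at hcf
  obtain ⟨V, hV, hVM, hVb⟩ := hcf
  set f := QuotientGroup.mk' V
  have hs := QuotientGroup.mk'_surjective V
  have hcomap : (M.map f).comap f = M := by
    rw [Subgroup.comap_map_eq, QuotientGroup.ker_mk', sup_eq_left.2 hVM]
  have hmax' : IsCoatom (M.map f) := by
    refine ⟨fun ht => hmax.1 (by rw [← hcomap, ht, Subgroup.comap_top]), fun L hL => ?_⟩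
    have h1 : M < L.comap f := by
      rw [← hcomap]; exact (Subgroup.comap_lt_comap_of_surjective hs).2 hL
    rw [← Subgroup.map_comap_eq_self_of_surjective hs L, hmax.2 _ h1, Subgroup.map_top_of_surjective f hs]
  haveI := hnil
  have hnil' : Group.IsNilpotent (M.map f) :=
    Group.nilpotent_of_surjective (f.subgroupMap M) (f.subgroupMap_surjective M)
  have hlt : Nat.card (G ⧸ V) < n := by
    rw [← hn, ← Subgroup.index_eq_card, ← Subgroup.card_mul_index V]
    exact lt_mul_left (Nat.pos_of_ne_zero Subgroup.index_ne_zero_of_finite) ((Subgroup.one_lt_card_iff_ne_bot V).2 hVb)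
  haveI := ih _ hlt (G ⧸ V) (M.map f) rfl hmax' hnil' (hC G M V hCM)
  haveI : Group.IsSolvable V :=
    Group.isSolvable_of_isSolvable_injective (f := inclusion hVM) (inclusion_injective hVM)
  exact Group.isSolvable_of_ker_le_range V.subtype f (by rw [QuotientGroup.ker_mk', Subgroup.range_subtype])

end CfsgLib.FGS73.MaxNil
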