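import Mathlib
import Cfsg.Prelude.Def_CaseTheorems
import Cfsg.Agent.Lib.FGS73.Conj
import Cfsg.Agent.Lib.Solvable.Core

set_option autoImplicit false

namespace CfsgLib.FGS73

variable {G : Type*} [Group G]

/-- Quotients of ambivalent groups are ambivalent. -/
theorem ambivalent_quotient (hamb : ∀ x : G, IsConj x x⁻¹) (N : Subgroup G) [N.Normal] :
    ∀ y : G ⧸ N, IsConj y y⁻¹ := by
  intro y
  induction y using QuotientGroup.induction_on with
  | H x =>
    have := (QuotientGroup.mk' N).map_isConj (hamb x)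
    rwa [map_inv] at this

/-- A nontrivial finite ambivalent group has even order. -/
theorem two_dvd_card_of_ambivalent [Finite G] [Nontrivial G] (hamb : ∀ x : G, IsConj x x⁻¹) :
    2 ∣ Nat.card G := by
  obtain ⟨x, hx⟩ := exists_ne (1 : G)
  by_contra h2
  have ho : Odd (orderOf x) := by
    rw [← Nat.not_even_iff_odd, even_iff_two_dvd]
    exact fun h => h2 (h.trans (orderOf_dvd_natCard x))
  obtain ⟨g, hg⟩ := isConj_iff.1 (hamb x)
  exact h2 ((two_dvd_index_centralizer_of_inverted (fun h => hx (eq_one_of_odd_of_eq_inv ho h)) hg).trans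
    (Subgroup.index_dvd_card _))

/-- An element of `G ⧸ oddCore G` of 2-power order lifts to an element of the same order. -/
theorem exists_lift_two_element [Finite G] (y : G ⧸ Cfsg.oddCore G) (k : ℕ) (hy : orderOf y = 2 ^ k) :
    ∃ x : G, orderOf x = 2 ^ k ∧ (x : G ⧸ Cfsg.oddCore G) = y := by
  obtain ⟨x0, hx0⟩ := QuotientGroup.mk_surjective y
  subst hx0
  set O := Cfsg.oddCore G
  have hO : Odd (Nat.card O) :=
    Nat.coprime_two_right.1 (CfsgLib.Solvable.pPrimeCore_card_coprime 2 G)
  · have h1 : x0 ^ 2 ^ k ∈ O := by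
      rw [← QuotientGroup.eq_one_iff, QuotientGroup.mk_pow, ← hy, pow_orderOf_eq_one]
    have h2 : (x0 ^ Nat.card O) ^ 2 ^ k = 1 := by
      rw [← pow_mul, mul_comm, pow_mul]
      exact congrArg Subtype.val (pow_card_eq_one' (x := (⟨_, h1⟩ : O)))
    -- choose an inverse of |O| modulo 2 ^ k
    obtain ⟨m, -, hm⟩ := Nat.exists_mul_mod_eq_one_of_coprime (k := 2 ^ (k + 1)) (n := Nat.card O)
      (((Nat.coprime_two_right.2 hO)).pow_right (k + 1)) (Nat.one_lt_two_pow (Nat.succ_ne_zero k))
    have him : ((x0 ^ (Nat.card O * m) : G) : G ⧸ O) = (x0 : G ⧸ O) := by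
      rw [QuotientGroup.mk_pow]
      nth_rewrite 2 [← pow_one (x0 : G ⧸ O)]
      rw [pow_eq_pow_iff_modEq, hy]
      have hmm : Nat.card O * m ≡ 1 [MOD 2 ^ (k + 1)] := by
        rw [Nat.ModEq, Nat.mod_eq_of_lt (Nat.one_lt_two_pow (Nat.succ_ne_zero k))]; exact hm
      exact hmm.of_dvd (pow_dvd_pow 2 (Nat.le_succ k))
    refine ⟨x0 ^ (Nat.card O * m), Nat.dvd_antisymm (orderOf_dvd_of_pow_eq_one ?_) ?_, him⟩
    · rw [pow_mul, ← pow_mul, mul_comm m, pow_mul, h2, one_pow]
    · rw [← hy, ← him]; exact orderOf_map_dvd (QuotientGroup.mk' O) _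

/-- In a solvable ambivalent group with trivial odd core and one class of involutions there is only
one involution. -/
theorem unique_involution_of_oddCore_bot {K : Type*} [Group K] [Finite K] [Group.IsSolvable K]
    (hO : Cfsg.oddCore K = ⊥) (hamb : ∀ x : K, IsConj x x⁻¹)
    (hone : ∀ s t : K, orderOf s = 2 → orderOf t = 2 → IsConj s t) :
    ∀ s t : K, orderOf s = 2 → orderOf t = 2 → s = t := by
  haveI : Fact (Nat.Prime 2) := ⟨Nat.prime_two⟩
  rcases subsingleton_or_nontrivial K with hK | hK
  · exact fun s t _ _ => Subsingleton.elim s t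
  obtain ⟨E, hEn, hEb, -, hEmin⟩ := CfsgLib.Solvable.exists_minimal_normal_le (⊤ : Subgroup K) top_ne_bot
  haveI := hEn
  obtain ⟨hEc, r, hr, hEr⟩ := CfsgLib.Solvable.minimal_normal_elementary_abelian E hEb hEmin
  have hr2 : r = 2 := by
    by_contra hne
    apply hEb
    rw [← le_bot_iff, ← hO]
    refine CfsgLib.Solvable.le_pPrimeCore hEn (Nat.coprime_comm.1 ?_)
    rw [Nat.prime_two.coprime_iff_not_dvd]
    intro hd
    obtain ⟨a, ha⟩ := exists_prime_orderOf_dvd_card' 2 hd
    have := orderOf_dvd_of_pow_eq_one (show a ^ r = 1 from Subtype.ext (hEr a a.2))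
    rw [ha] at this
    exact hne ((Nat.prime_dvd_prime_iff_eq Nat.prime_two hr).1 this).symm
  subst hr2
  have hEinv : ∀ a ∈ E, a ≠ 1 → orderOf a = 2 := fun a ha ha1 => orderOf_eq_prime (hEr a ha) ha1
  obtain ⟨e, he, he1⟩ := (Subgroup.bot_or_exists_ne_one E).resolve_left hEb
  have hall : ∀ s : K, orderOf s = 2 → s ∈ E := by
    intro s hs
    obtain ⟨g, rfl⟩ := isConj_iff.1 (hone e s (hEinv e he he1) hs)
    exact hEn.conj_mem e he g
  set T := Subgroup.centralizer (E : Set K) with hT
  -- it suffices that E is central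
  suffices hTt : T = ⊤ by
    intro s t hs ht
    obtain ⟨g, hg⟩ := isConj_iff.1 (hone s t hs ht)
    rw [← hg, ← Subgroup.mem_centralizer_iff.1 (show g ∈ T by rw [hTt]; exact Subgroup.mem_top g) s (hall s hs),
      mul_inv_cancel_right]
  by_contra hTt
  haveI : Nontrivial (K ⧸ T) := QuotientGroup.nontrivial_iff.2 hTt
  obtain ⟨L, hLn, hLb, -, hLmin⟩ := CfsgLib.Solvable.exists_minimal_normal_le (⊤ : Subgroup (K ⧸ T)) top_ne_bot
  haveI := hLn
  obtain ⟨-, r, hr, hLr⟩ := CfsgLib.Solvable.minimal_normal_elementary_abelian L hLb hLmin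
  haveI := Fact.mk hr
  set L' := L.comap (QuotientGroup.mk' T) with hL'
  -- fixed points of L' on E are trivial
  have hfix : ∀ a ∈ E, (∀ l ∈ L', l * a = a * l) → a = 1 := by
    intro a ha hla
    let F : Subgroup K := E ⊓ Subgroup.centralizer (L' : Set K)
    haveI : F.Normal := inferInstance
    rcases hEmin F inferInstance inf_le_left with h | h
    · rw [← Subgroup.mem_bot, ← h]
      exact ⟨ha, Subgroup.mem_centralizer_iff.2 hla⟩
    · exfalso
      apply hLb
      rw [eq_bot_iff]
      intro y hy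
      obtain ⟨l, rfl⟩ := QuotientGroup.mk'_surjective T y
      refine (QuotientGroup.eq_one_iff l).2 (Subgroup.mem_centralizer_iff.2 fun b hb => ?_)
      have hb' : b ∈ F := by rw [h]; exact hb
      exact (Subgroup.mem_centralizer_iff.1 hb'.2 l hy).symm
  have hLp : IsPGroup r L := fun l => ⟨1, Subtype.ext (by rw [pow_one]; exact hLr l l.2)⟩
  have hactE : ∀ l : K, ∀ a ∈ E, l * a * l⁻¹ ∈ E := fun l a ha => hEn.conj_mem a ha l
  by_cases hr2 : r = 2
  · subst hr2
    -- a 2-group has a nontrivial fixed point on E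
    letI act : MulAction L E :=
      { smul := fun l a => ⟨Quotient.liftOn' (l : K ⧸ T) (fun g => g * (a : K) * g⁻¹) (fun g g' h => by
            have h1 := Subgroup.mem_centralizer_iff.1 (QuotientGroup.leftRel_apply.1 h) (a : K) a.2
            have h2 := congrArg (fun w => g * w * g'⁻¹) h1
            simpa [mul_assoc] using h2), by
          obtain ⟨g, hg⟩ := QuotientGroup.mk'_surjective T (l : K ⧸ T)
          rw [← hg]; exact hactE g a a.2⟩
        one_smul := fun a => Subtype.ext (by
          change (1 : K) * (a : K) * 1⁻¹ = a; simp)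
        mul_smul := fun l l' a => by
          obtain ⟨⟨g⟩, hl⟩ := l
          obtain ⟨⟨g'⟩, hl'⟩ := l'
          refine Subtype.ext ?_
          change g * g' * (a : K) * (g * g')⁻¹ = g * (g' * (a : K) * g'⁻¹) * g⁻¹
          simp [mul_assoc] }
    have hpd : 2 ∣ Nat.card E := by
      rw [← hEinv e he he1, ← Subgroup.orderOf_mk e he]
      exact orderOf_dvd_natCard _
    have h1 : (1 : E) ∈ MulAction.fixedPoints L E := fun l => by
      obtain ⟨⟨g⟩, hl⟩ := l
      exact Subtype.ext (show g * ((1 : E) : K) * g⁻¹ = ((1 : E) : K) by simp)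
    obtain ⟨b, hb, hb1⟩ := hLp.exists_fixed_point_of_prime_dvd_card_of_fixed_point E hpd h1
    refine hb1 (Subtype.ext (hfix b b.2 fun l hl => ?_).symm)
    have := congrArg Subtype.val (hb ⟨_, hl⟩)
    change l * (b : K) * l⁻¹ = b at this
    rwa [mul_inv_eq_iff_eq_mul] at this
  · obtain ⟨R⟩ := (inferInstance : Nonempty (Sylow r L'))
    set R' := (R : Subgroup L').map L'.subtype
    have hFr := Sylow.normalizer_sup_eq_top R
    -- the normalizer of R has even order
    set N := Subgroup.normalizer (R' : Set K)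
    have hQ2 : 2 ∣ Nat.card (K ⧸ L') := by
      have h1 := Subgroup.relIndex_mul_index (show T ≤ L' from fun a ha => by
        show QuotientGroup.mk' T a ∈ L
        rw [show QuotientGroup.mk' T a = 1 from (QuotientGroup.eq_one_iff a).2 ha]; exact one_mem L)
      have hamb' := ambivalent_quotient hamb T
      have h2 : 2 ∣ T.index := by rw [Subgroup.index_eq_card]; exact two_dvd_card_of_ambivalent hamb'
      rw [← h1] at h2
      rcases (Nat.Prime.dvd_mul Nat.prime_two).1 h2 with h | h
      · exfalso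
        have h3 := Subgroup.relIndex_comap (⊥ : Subgroup (K ⧸ T)) (QuotientGroup.mk' T) L'
        rw [MonoidHom.comap_bot, QuotientGroup.ker_mk', hL',
          Subgroup.map_comap_eq_self_of_surjective (QuotientGroup.mk'_surjective T),
          Subgroup.relIndex_bot_left, ← hL'] at h3
        rw [h3] at h
        obtain ⟨i, hi⟩ := IsPGroup.iff_card.1 hLp
        rw [hi] at h
        exact hr2 ((Nat.prime_dvd_prime_iff_eq Nat.prime_two hr).1 (Nat.prime_two.dvd_of_dvd_pow h)).symm
      · rwa [← Subgroup.index_eq_card]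
    have hN2 : 2 ∣ Nat.card N := by
      refine hQ2.trans ?_
      have h3 := Subgroup.relIndex_sup_right (H := N) (K := L')
      rw [hFr, Subgroup.relIndex_top_right, Subgroup.index_eq_card] at h3
      rw [h3]
      exact Subgroup.relIndex_dvd_card _ _
    obtain ⟨t, ht⟩ := exists_prime_orderOf_dvd_card' 2 hN2
    have htE : (t : K) ∈ E := hall _ (by rw [Subgroup.orderOf_coe, ht])
    have ht1 : (t : K) ≠ 1 := fun h => by
      rw [← Subgroup.orderOf_coe, h, orderOf_one] at ht; exact absurd ht (by norm_num)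
    apply ht1
    refine hfix _ htE fun l hl => ?_
    -- R covers L' modulo T
    have hR'T : L' ≤ R' ⊔ T := by
      rw [← Subgroup.relIndex_eq_one, Nat.eq_one_iff_not_exists_prime_dvd]
      intro q hq hd
      haveI := Fact.mk hq
      by_cases hqr : q = r
      · subst hqr
        refine R.not_dvd_index (hd.trans ?_)
        show (R' ⊔ T).relIndex L' ∣ (R : Subgroup L').index
        refine (Subgroup.relIndex_dvd_of_le_left L' (le_sup_left : R' ≤ R' ⊔ T)).trans (dvd_of_eq ?_)
        show (R'.subgroupOf L').index = _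
        congr 1
        exact Subgroup.comap_map_eq_self_of_injective L'.subtype_injective _
      · have h3 := Subgroup.relIndex_comap (⊥ : Subgroup (K ⧸ T)) (QuotientGroup.mk' T) L'
        rw [MonoidHom.comap_bot, QuotientGroup.ker_mk', hL',
          Subgroup.map_comap_eq_self_of_surjective (QuotientGroup.mk'_surjective T),
          Subgroup.relIndex_bot_left, ← hL'] at h3
        obtain ⟨i, hi⟩ := IsPGroup.iff_card.1 hLp
        have hd' := hd.trans (Subgroup.relIndex_dvd_of_le_left L' (le_sup_right : T ≤ R' ⊔ T))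
        rw [h3, hi] at hd'
        exact hqr ((Nat.prime_dvd_prime_iff_eq hq hr).1 (hq.dvd_of_dvd_pow hd'))
    have hle : R' ⊔ T ≤ Subgroup.centralizer {(t : K)} := by
      refine sup_le (fun ρ hρ => ?_) (fun ρ hρ => Subgroup.mem_centralizer_singleton_iff.2 (Subgroup.mem_centralizer_iff.1 hρ t htE).symm)
      rw [Subgroup.mem_centralizer_singleton_iff]
      have h1 : (t : K) * ρ * (t : K)⁻¹ * ρ⁻¹ ∈ R' :=
        mul_mem ((Subgroup.mem_normalizer_iff.1 t.2 ρ).1 hρ) (inv_mem hρ)
      have h2 : (t : K) * ρ * (t : K)⁻¹ * ρ⁻¹ ∈ E := by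
        rw [show (t : K) * ρ * (t : K)⁻¹ * ρ⁻¹ = (t : K) * (ρ * (t : K)⁻¹ * ρ⁻¹) by simp [mul_assoc]]
        exact mul_mem htE (hactE ρ _ (inv_mem htE))
      have h3 : (t : K) * ρ * (t : K)⁻¹ * ρ⁻¹ = 1 := by
        obtain ⟨i, hi⟩ := (R.isPGroup'.map L'.subtype) ⟨_, h1⟩
        have hi' := congrArg Subtype.val hi
        simp only [Subgroup.coe_pow, Subgroup.coe_one] at hi'
        rw [← Subgroup.mem_bot]
        exact mem_of_pow_mem_coprime (a := r ^ i) (b := 2)
          (((Nat.coprime_primes hr Nat.prime_two).2 hr2).pow_left i)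
          (by rw [hi']; exact one_mem _) (by rw [hEr _ h2]; exact one_mem _)
      rw [mul_inv_eq_one, mul_inv_eq_iff_eq_mul] at h3
      exact h3.symm
    exact Subgroup.mem_centralizer_singleton_iff.1 (hle (hR'T hl))

/-- The odd core quotient of a solvable ambivalent group with one class of involutions has a unique
involution. -/
theorem unique_involution_oddCore_quotient [Finite G] [Group.IsSolvable G] (hamb : ∀ x : G, IsConj x x⁻¹)
    (hone : ∀ s t : G, orderOf s = 2 → orderOf t = 2 → IsConj s t) :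
    ∀ s t : G ⧸ Cfsg.oddCore G, orderOf s = 2 → orderOf t = 2 → s = t := by
  refine unique_involution_of_oddCore_bot (CfsgLib.Solvable.pPrimeCore_quotient_eq_bot _ rfl)
    (ambivalent_quotient hamb _) fun s t hs ht => ?_
  obtain ⟨s', hs', rfl⟩ := exists_lift_two_element s 1 (by rw [hs, pow_one])
  obtain ⟨t', ht', rfl⟩ := exists_lift_two_element t 1 (by rw [ht, pow_one])
  exact (QuotientGroup.mk' (Cfsg.oddCore G)).map_isConj (hone s' t' (by rw [hs', pow_one]) (by rw [ht', pow_one]))

end CfsgLib.FGS73
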