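import Mathlib
import Cfsg.Agent.Lib.ClassSize.SylowCentralizer

/-!
Counting orbits of automorphisms: a weighted count and the savings needed for the bound `|G| / p`.
-/

set_option autoImplicit false
set_option linter.style.haveILetI false

namespace CfsgLib.FGS73.AutOrbits

open Subgroup
open scoped commutatorElement

/-- The number of orbits is the sum of the inverse orbit lengths. -/
theorem card_orbits_eq_sum {A X : Type*} [Group A] [MulAction A X] [Fintype X] :
    (Nat.card (MulAction.orbitRel.Quotient A X) : ℚ) = ∑ x : X, ((Nat.card (MulAction.orbit A x) : ℚ))⁻¹ := by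
  classical
  haveI : Fintype (MulAction.orbitRel.Quotient A X) := Fintype.ofFinite _
  rw [← Finset.sum_fiberwise Finset.univ (fun x : X => (Quotient.mk'' x : MulAction.orbitRel.Quotient A X)),
    Nat.card_eq_fintype_card, ← Finset.card_univ, Finset.cast_card]
  refine Finset.sum_congr rfl fun q _ => ?_
  induction q using Quotient.inductionOn' with
  | h x =>
    have hset : ∀ y : X, (Quotient.mk'' y : MulAction.orbitRel.Quotient A X) = Quotient.mk'' x ↔ y ∈ MulAction.orbit A x :=
      fun y => Quotient.eq''.trans MulAction.orbitRel_apply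
    rw [Finset.sum_congr rfl (g := fun _ => ((Nat.card (MulAction.orbit A x) : ℚ))⁻¹) (fun y hy => by
      rw [MulAction.orbit_eq_iff.2 ((hset y).1 (Finset.mem_filter.1 hy).2)]), Finset.sum_const, nsmul_eq_mul]
    have hc : (Finset.univ.filter fun y : X => (Quotient.mk'' y : MulAction.orbitRel.Quotient A X) = Quotient.mk'' x).card
        = Nat.card (MulAction.orbit A x) := by
      rw [Nat.card_eq_fintype_card, ← Set.toFinset_card]
      congr 1
      ext y
      simp [hset]
    rw [hc, mul_inv_cancel₀]
    haveI : Nonempty (MulAction.orbit A x) := ⟨⟨x, MulAction.mem_orbit_self x⟩⟩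
    exact_mod_cast Nat.card_pos.ne'

variable {G : Type*} [Group G] [Finite G]

/-- The size of the conjugacy class of `g`. -/
noncomputable def cls (g : G) : ℕ := (centralizer ({g} : Set G)).index

theorem cls_eq (g : G) : cls g = {y : G | IsConj g y}.ncard := (CfsgLib.ClassSize.ncard_setOf_isConj g).symm

theorem cls_eq_one_iff (g : G) : cls g = 1 ↔ g ∈ center G := by
  rw [cls, Subgroup.index_eq_one, Subgroup.mem_center_iff]
  exact ⟨fun h x => (mem_centralizer_singleton_iff.1 (show x ∈ centralizer ({g} : Set G) by rw [h]; exact mem_top x)),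
    fun h => eq_top_iff.2 fun x _ => mem_centralizer_singleton_iff.2 (h x)⟩

theorem cls_le_orbit (g : G) : cls g ≤ Nat.card (MulAction.orbit (MulAut G) g) := by
  rw [cls_eq, Nat.card_coe_set_eq]
  refine Set.ncard_le_ncard ?_ (Set.toFinite _)
  intro y hy
  obtain ⟨h, rfl⟩ := isConj_iff.1 hy
  exact ⟨MulAut.conj h, rfl⟩

theorem minFac_le_of_dvd {m : ℕ} (hm : m ∣ Nat.card G) (h1 : m ≠ 1) : (Nat.card G).minFac ≤ m :=
  (Nat.minFac_le_of_dvd (Nat.minFac_prime h1).two_le ((Nat.minFac_dvd m).trans hm)).trans
    (Nat.minFac_le (Nat.pos_of_dvd_of_pos hm Nat.card_pos))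

theorem minFac_le_cls {g : G} (hg : g ∉ center G) : (Nat.card G).minFac ≤ cls g :=
  minFac_le_of_dvd (Subgroup.index_dvd_card _) fun h => hg ((cls_eq_one_iff g).1 h)

/-- Enough elements in large orbits give the bound. -/
theorem bound_of_saving (S : Finset G) (m : ℕ) (hS : ∀ g ∈ S, g ∉ center G)
    (horb : ∀ g ∈ S, m ≤ Nat.card (MulAction.orbit (MulAut G) g)) (hpm : (Nat.card G).minFac ≤ m)
    (hineq : ((Nat.card G).minFac - 1) * Nat.card (center G) * m ≤ S.card * (m - (Nat.card G).minFac)) :
    Nat.card (MulAction.orbitRel.Quotient (MulAut G) G) ≤ Nat.card G / (Nat.card G).minFac := by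
  classical
  haveI := Fintype.ofFinite G
  set p := (Nat.card G).minFac
  have hp0 : 0 < p := Nat.minFac_pos _
  rw [Nat.le_div_iff_mul_le hp0]
  suffices h : (Nat.card (MulAction.orbitRel.Quotient (MulAut G) G) : ℚ) * p ≤ Nat.card G by exact_mod_cast h
  rw [card_orbits_eq_sum, Finset.sum_mul, Nat.card_eq_fintype_card (α := G), ← Finset.card_univ, Finset.cast_card]
  rw [← sub_nonneg, ← Finset.sum_sub_distrib]
  set f := fun g : G => (1 : ℚ) - ((Nat.card (MulAction.orbit (MulAut G) g) : ℚ))⁻¹ * p with hf
  show 0 ≤ ∑ g, f g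
  have hpos : ∀ g : G, 0 < Nat.card (MulAction.orbit (MulAut G) g) := fun g => by
    haveI : Nonempty (MulAction.orbit (MulAut G) g) := ⟨⟨g, MulAction.mem_orbit_self g⟩⟩
    exact Nat.card_pos
  have hfge : ∀ (g : G) (k : ℕ), 0 < k → k ≤ Nat.card (MulAction.orbit (MulAut G) g) → 1 - (p : ℚ) / k ≤ f g := by
    intro g k hk hle
    simp only [hf]
    rw [div_eq_inv_mul]
    refine sub_le_sub_left (mul_le_mul_of_nonneg_right ?_ (Nat.cast_nonneg p)) 1
    exact inv_anti₀ (by exact_mod_cast hk) (by exact_mod_cast hle)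
  have hnc : ∀ g : G, g ∉ center G → 0 ≤ f g := fun g hg =>
    le_trans (by rw [div_self (by exact_mod_cast hp0.ne' : (p : ℚ) ≠ 0), sub_self])
      (hfge g p hp0 ((minFac_le_cls hg).trans (cls_le_orbit g)))
  set Z := Finset.univ.filter fun g : G => g ∈ center G with hZdef
  have hZc : Z.card = Nat.card (center G) := by
    rw [Nat.card_eq_fintype_card, hZdef, ← Fintype.card_subtype]
  have hdisj : Disjoint Z S := Finset.disjoint_left.2 fun g hg hgS => hS g hgS (Finset.mem_filter.1 hg).2
  have h1 : ∑ g ∈ Z ∪ S, f g ≤ ∑ g, f g := by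
    refine Finset.sum_le_sum_of_subset_of_nonneg (Finset.subset_univ _) fun g _ hg => hnc g fun hc => hg ?_
    exact Finset.mem_union_left _ (Finset.mem_filter.2 ⟨Finset.mem_univ g, hc⟩)
  refine le_trans ?_ h1
  rw [Finset.sum_union hdisj]
  have h2 : (Z.card : ℚ) * (1 - p) ≤ ∑ g ∈ Z, f g := by
    rw [← nsmul_eq_mul]
    refine Finset.card_nsmul_le_sum _ _ _ fun g _ => ?_
    have := hfge g 1 one_pos (hpos g)
    simpa using this
  have hm0 : 0 < m := lt_of_lt_of_le hp0 hpm
  have h3 : (S.card : ℚ) * (1 - (p : ℚ) / m) ≤ ∑ g ∈ S, f g := by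
    rw [← nsmul_eq_mul]
    exact Finset.card_nsmul_le_sum _ _ _ fun g hg => hfge g m hm0 (horb g hg)
  refine le_trans ?_ (add_le_add h2 h3)
  have hq : (((p - 1) * Nat.card (center G) * m : ℕ) : ℚ) ≤ ((S.card * (m - p) : ℕ) : ℚ) := by exact_mod_cast hineq
  push_cast [Nat.cast_sub hpm, Nat.cast_sub (Nat.one_le_iff_ne_zero.2 hp0.ne')] at hq
  rw [hZc]
  have hmq : (0 : ℚ) < m := by exact_mod_cast hm0
  have e : ((Nat.card (center G) : ℚ) * (1 - p) + S.card * (1 - (p : ℚ) / m)) * m =
      S.card * ((m : ℚ) - p) - ((p : ℚ) - 1) * Nat.card (center G) * m := by field_simp; ring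
  refine nonneg_of_mul_nonneg_left ?_ hmq
  rw [e]; linarith

/-- A product of two numbers at least `p` which is not `p * p` is at least `p * (p + 1)`. -/
theorem mul_bound {p a b : ℕ} (ha : p ≤ a) (hb : p ≤ b) (h : a ≠ p ∨ b ≠ p) : p * (p + 1) ≤ a * b := by
  rcases h with h | h
  · calc p * (p + 1) = (p + 1) * p := mul_comm _ _
      _ ≤ a * b := Nat.mul_le_mul (by omega) hb
  · exact Nat.mul_le_mul ha (by omega)

/-- The bound when the derived subgroup is not central. -/
theorem bound_of_not_class_two {a₀ b₀ : G} (h : ⁅a₀, b₀⁆ ∉ center G) :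
    Nat.card (MulAction.orbitRel.Quotient (MulAut G) G) ≤ Nat.card G / (Nat.card G).minFac := by
  classical
  haveI := Fintype.ofFinite G
  set p := (Nat.card G).minFac with hpdef
  set L := centralizer (commutator G : Set G) with hL
  haveI : L.Normal := inferInstance
  have hmem : ⁅a₀, b₀⁆ ∈ commutator G := commutator_mem_commutator (mem_top a₀) (mem_top b₀)
  have hLt : L ≠ ⊤ := fun ht => h (mem_center_iff.2 fun g =>
    (mem_centralizer_iff.1 (show g ∈ L by rw [ht]; exact mem_top g) _ hmem).symm)
  have hgen : ∀ g : G, g ∉ L → p + 1 ≤ cls g := by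
    intro g hg
    have hnz : g ∉ center G := fun hc => hg (center_le_centralizer _ hc)
    refine lt_of_le_of_ne (minFac_le_cls hnz) fun he => hg ?_
    haveI hn := Subgroup.normal_of_index_eq_minFac_card (H := centralizer ({g} : Set G)) he.symm
    have hp : p.Prime := Nat.minFac_prime fun h1 => hnz (by
      rw [← cls_eq_one_iff, ← Nat.dvd_one, ← h1]; exact Subgroup.index_dvd_card _)
    haveI := Fact.mk hp
    haveI : IsCyclic (G ⧸ centralizer ({g} : Set G)) :=
      isCyclic_of_prime_card (p := p) (by rw [← Subgroup.index_eq_card]; exact he.symm)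
    have hle : commutator G ≤ centralizer ({g} : Set G) := by
      rw [commutator_def, Subgroup.commutator_le]
      intro a _ b _
      rw [← QuotientGroup.eq_one_iff, ← QuotientGroup.mk'_apply, map_commutatorElement, commutatorElement_eq_one_iff_commute]
      exact IsMulCommutative.is_comm.comm _ _
    exact mem_centralizer_iff.2 fun x hx => mem_centralizer_singleton_iff.1 (hle hx)
  set S := Finset.univ.filter fun g : G => g ∉ L with hSdef
  refine bound_of_saving S (p + 1) (fun g hg hc => (Finset.mem_filter.1 hg).2 (center_le_centralizer _ hc))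
    (fun g hg => (hgen g (Finset.mem_filter.1 hg).2).trans (cls_le_orbit g)) (Nat.le_succ p) ?_
  rw [Nat.add_sub_cancel_left, mul_one]
  have hScard : S.card + Nat.card L = Nat.card G := by
    rw [Nat.card_eq_fintype_card (α := G), ← Finset.card_univ,
      ← Finset.card_filter_add_card_filter_not (s := Finset.univ) (fun g : G => g ∉ L), hSdef]
    congr 1
    rw [Nat.card_eq_fintype_card, Fintype.card_subtype]
    congr 1; ext g; simp
  have hidx : p ≤ L.index := minFac_le_of_dvd L.index_dvd_card fun h1 => hLt (Subgroup.index_eq_one.1 h1)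
  -- the central quotient is large
  have hQ : p * (p + 1) ≤ (center G).index := by
    have hx : ∃ x : G ⧸ center G, x ∉ center (G ⧸ center G) := by
      by_contra hall
      push Not at hall
      apply h
      rw [← QuotientGroup.eq_one_iff, ← QuotientGroup.mk'_apply, map_commutatorElement, commutatorElement_eq_one_iff_commute]
      exact (mem_center_iff.1 (hall _) _ : _ = _)
    obtain ⟨x, hx⟩ := hx
    rw [Subgroup.index_eq_card, ← (centralizer ({x} : Set (G ⧸ center G))).card_mul_index]
    have hd : Nat.card (G ⧸ center G) ∣ Nat.card G := Subgroup.card_quotient_dvd_card _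
    have h1 : p ≤ (centralizer ({x} : Set (G ⧸ center G))).index :=
      minFac_le_of_dvd ((Subgroup.index_dvd_card _).trans hd) fun h1 => hx ((cls_eq_one_iff x).1 h1)
    have hxC : x ∈ centralizer ({x} : Set (G ⧸ center G)) := mem_centralizer_singleton_iff.2 rfl
    have h2 : p ≤ Nat.card (centralizer ({x} : Set (G ⧸ center G))) := by
      refine minFac_le_of_dvd ((Subgroup.card_subgroup_dvd_card _).trans hd) fun h1 => hx ?_
      rw [Subgroup.card_eq_one] at h1
      rw [h1, Subgroup.mem_bot] at hxC
      rw [hxC]; exact one_mem _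
    refine mul_bound h2 h1 ?_
    by_contra hh
    push Not at hh
    obtain ⟨e1, e2⟩ := hh
    have hp : p.Prime := Nat.minFac_prime fun h1 => by
      haveI := (Nat.card_eq_one_iff_unique.1 h1).1
      exact hx (by rw [Subsingleton.elim x 1]; exact one_mem _)
    haveI := Fact.mk hp
    have hcard : Nat.card (G ⧸ center G) = p ^ 2 := by
      rw [← (centralizer ({x} : Set (G ⧸ center G))).card_mul_index, e1, e2, pow_two]
    exact hx (mem_center_iff.2 fun y => (IsPGroup.commutative_of_card_eq_prime_sq hcard y x))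
  have e1 := L.card_mul_index
  have e2 := (center G).card_mul_index
  have f1 : p * Nat.card L ≤ Nat.card G := by
    rw [← e1, mul_comm]; exact Nat.mul_le_mul_left _ hidx
  have f2 : Nat.card (center G) * (p * (p + 1)) ≤ Nat.card G := by
    rw [← e2]; exact Nat.mul_le_mul_left _ hQ
  have hp1 : 1 ≤ p := Nat.minFac_pos _
  obtain ⟨q, hq⟩ : ∃ q, p = q + 1 := ⟨p - 1, by omega⟩
  rw [hq] at f1 f2 ⊢
  rw [show (Nat.card G).minFac - 1 = q from by omega]
  nlinarith

end CfsgLib.FGS73.AutOrbits
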