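import Mathlib
import Cfsg.Agent.Lib.FGS73.AutOrbitCount

/-!
Automorphism orbits in groups with central derived subgroup.
-/

set_option autoImplicit false
set_option linter.style.haveILetI false

namespace CfsgLib.FGS73.AutOrbits

open Subgroup
open scoped commutatorElement

variable {G : Type*} [Group G] (hc : ∀ a b : G, ⁅a, b⁆ ∈ center G)

include hc in
theorem comm_mul_right (a b c : G) : ⁅a, b * c⁆ = ⁅a, b⁆ * ⁅a, c⁆ := by
  have h1 := mem_center_iff.1 (hc a c) b
  calc ⁅a, b * c⁆ = ⁅a, b⁆ * (b * ⁅a, c⁆ * b⁻¹) := by simp only [commutatorElement_def]; group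
    _ = _ := by rw [h1, mul_inv_cancel_right]

include hc in
theorem comm_mul_left (a b c : G) : ⁅a * b, c⁆ = ⁅a, c⁆ * ⁅b, c⁆ := by
  have h1 := mem_center_iff.1 (hc b c) a
  calc ⁅a * b, c⁆ = (a * ⁅b, c⁆ * a⁻¹) * ⁅a, c⁆ := by simp only [commutatorElement_def]; group
    _ = ⁅b, c⁆ * ⁅a, c⁆ := by rw [h1, mul_inv_cancel_right]
    _ = _ := mem_center_iff.1 (hc a c) _

/-- `h ↦ ⁅g, h⁆` as a homomorphism. -/
def commR (g : G) : G →* G := MonoidHom.mk' (fun h => ⁅g, h⁆) (comm_mul_right hc g)

/-- `g ↦ ⁅g, h⁆` as a homomorphism. -/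
def commL (h : G) : G →* G := MonoidHom.mk' (fun g => ⁅g, h⁆) (fun a b => comm_mul_left hc a b h)

@[simp] theorem commR_apply (g h : G) : commR hc g h = ⁅g, h⁆ := rfl
@[simp] theorem commL_apply (g h : G) : commL hc h g = ⁅g, h⁆ := rfl

include hc in
theorem comm_pow_left (g h : G) (i : ℕ) : ⁅g ^ i, h⁆ = ⁅g, h⁆ ^ i := map_pow (commL hc h) g i

include hc in
theorem comm_pow_right (g h : G) (i : ℕ) : ⁅g, h ^ i⁆ = ⁅g, h⁆ ^ i := map_pow (commR hc g) h i

theorem comm_of_central (g z : G) (hz : z ∈ center G) : ⁅g, z⁆ = 1 :=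
  commutatorElement_eq_one_iff_commute.2 (mem_center_iff.1 hz g)

theorem cls_eq_range [Finite G] (g : G) : cls g = Nat.card (commR hc g).range := by
  rw [← Subgroup.index_ker, cls]
  congr 1
  ext h
  rw [MonoidHom.mem_ker, commR_apply, mem_centralizer_singleton_iff, commutatorElement_eq_one_iff_commute]
  exact ⟨fun e => e.symm, fun e => e.symm⟩

include hc in
theorem orderOf_dvd_cls [Finite G] (g h : G) : orderOf ⁅g, h⁆ ∣ cls g := by
  rw [cls_eq_range hc]
  exact Subgroup.orderOf_dvd_natCard _ ⟨h, rfl⟩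

/-- The preimage of a set of cosets of the centre. -/
theorem card_preimage_center [Fintype G] [DecidableEq (G ⧸ center G)] (T : Finset (G ⧸ center G)) :
    (Finset.univ.filter fun g : G => (g : G ⧸ center G) ∈ T).card = T.card * Nat.card (center G) := by
  classical
  rw [Finset.card_eq_sum_card_fiberwise (f := fun g : G => (g : G ⧸ center G)) (t := T)
    (fun g hg => by simpa using hg)]
  rw [Finset.sum_congr rfl (g := fun _ => Nat.card (center G))]
  · rw [Finset.sum_const, smul_eq_mul]
  intro c hcT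
  obtain ⟨x, rfl⟩ := QuotientGroup.mk_surjective c
  rw [Nat.card_eq_fintype_card, ← Finset.card_univ]
  refine (Finset.card_nbij (fun z : center G => x * (z : G)) ?_ ?_ ?_).symm
  · intro z _
    simp only [Finset.coe_filter, Finset.mem_filter, Finset.mem_univ, true_and, Set.mem_ofPred_eq]
    have : ((x * (z : G) : G) : G ⧸ center G) = x := QuotientGroup.eq.2 (by simp)
    exact ⟨by rw [this]; exact hcT, this⟩
  · intro z _ w _ hzw
    exact Subtype.ext (mul_left_cancel hzw)
  · intro g hg
    simp only [Finset.coe_filter, Finset.mem_filter, Finset.mem_univ, true_and, Set.mem_ofPred_eq] at hg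
    exact ⟨⟨x⁻¹ * g, QuotientGroup.eq.1 hg.2.symm⟩, by simp, by simp⟩

variable [Finite G]

include hc in
/-- Saving from a set of cosets of the centre with large classes. -/
theorem bound_of_cosets (T : Finset (G ⧸ center G)) (m : ℕ) (hpm : (Nat.card G).minFac ≤ m)
    (hT : ∀ g : G, (g : G ⧸ center G) ∈ T → g ∉ center G ∧ m ≤ Nat.card (MulAction.orbit (MulAut G) g))
    (hineq : ((Nat.card G).minFac - 1) * m ≤ T.card * (m - (Nat.card G).minFac)) :
    Nat.card (MulAction.orbitRel.Quotient (MulAut G) G) ≤ Nat.card G / (Nat.card G).minFac := by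
  classical
  haveI := Fintype.ofFinite G
  refine bound_of_saving (Finset.univ.filter fun g : G => (g : G ⧸ center G) ∈ T) m
    (fun g hg => (hT g (Finset.mem_filter.1 hg).2).1) (fun g hg => (hT g (Finset.mem_filter.1 hg).2).2) hpm ?_
  rw [card_preimage_center]
  calc ((Nat.card G).minFac - 1) * Nat.card (center G) * m
      = (((Nat.card G).minFac - 1) * m) * Nat.card (center G) := by ring
    _ ≤ T.card * (m - (Nat.card G).minFac) * Nat.card (center G) := Nat.mul_le_mul_right _ hineq
    _ = _ := by ring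

theorem arith_q {p q : ℕ} (hp : 1 ≤ p) (hpq : p < q) : (p - 1) * q ≤ (q * q - 1) * (q - p) := by
  have h1 : (p - 1) * q ≤ q * q - 1 := by
    have h2 : (p - 1) * q + q ≤ q * q := by
      rw [← Nat.succ_mul]; exact Nat.mul_le_mul_right _ (by omega)
    omega
  exact h1.trans (Nat.le_mul_of_pos_right _ (by omega))

include hc in
/-- A commutator whose order is not a power of the least prime. -/
theorem bound_of_commutator_prime {g h : G} {q : ℕ} (hq : q.Prime) (hqp : q ≠ (Nat.card G).minFac)
    (hd : q ∣ orderOf ⁅g, h⁆) :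
    Nat.card (MulAction.orbitRel.Quotient (MulAut G) G) ≤ Nat.card G / (Nat.card G).minFac := by
  classical
  set p := (Nat.card G).minFac with hp
  obtain ⟨e, he⟩ := hd
  set y := g ^ e with hy
  have hord : orderOf ⁅y, h⁆ = q := by
    rw [hy, comm_pow_left hc, orderOf_pow_of_dvd (by rintro rfl; simp [(orderOf_pos ⁅g, h⁆).ne'] at he)
      (he ▸ dvd_mul_left e q), he]
    exact Nat.mul_div_cancel _ (Nat.pos_of_ne_zero (by rintro rfl; simp [(orderOf_pos ⁅g, h⁆).ne'] at he))
  have hqG : q ∣ Nat.card G := hord ▸ orderOf_dvd_natCard _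
  have hpq : p < q := lt_of_le_of_ne (Nat.minFac_le_of_dvd hq.two_le hqG) (Ne.symm hqp)
  clear_value y
  set d := ⁅y, h⁆ with hdd
  have hc1 : ∀ i j : ℕ, ⁅y ^ i * h ^ j, h⁆ = d ^ i := fun i j => by
    rw [comm_mul_left hc, comm_pow_left hc, comm_pow_left hc, commutatorElement_self, one_pow, mul_one]
  have hc2 : ∀ i j : ℕ, ⁅y ^ i * h ^ j, y⁆ = d⁻¹ ^ j := fun i j => by
    rw [comm_mul_left hc, comm_pow_left hc, comm_pow_left hc, commutatorElement_self, one_pow, one_mul,
      hdd, commutatorElement_inv]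
  have hinj : ∀ i j i' j' : Fin q, ((y ^ (i : ℕ) * h ^ (j : ℕ) : G) : G ⧸ center G) =
      ((y ^ (i' : ℕ) * h ^ (j' : ℕ) : G) : G ⧸ center G) → i = i' ∧ j = j' := by
    intro i j i' j' he'
    have hz := QuotientGroup.eq.1 he'
    have key : ∀ w : G, ⁅y ^ (i : ℕ) * h ^ (j : ℕ), w⁆ = ⁅y ^ (i' : ℕ) * h ^ (j' : ℕ), w⁆ := fun w => by
      conv_rhs => rw [← mul_inv_cancel_left (y ^ (i : ℕ) * h ^ (j : ℕ)) (y ^ (i' : ℕ) * h ^ (j' : ℕ))]
      rw [comm_mul_left hc (y ^ (i : ℕ) * h ^ (j : ℕ)) ((y ^ (i : ℕ) * h ^ (j : ℕ))⁻¹ * _),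
        commutatorElement_eq_one_iff_commute.2 (mem_center_iff.1 hz w).symm, mul_one]
    constructor
    · have := key h
      rw [hc1, hc1] at this
      exact Fin.ext (pow_injOn_Iio_orderOf (by simp [hord]) (by simp [hord]) this)
    · have := key y
      rw [hc2, hc2] at this
      exact Fin.ext (pow_injOn_Iio_orderOf (by simp [orderOf_inv, hord]) (by simp [orderOf_inv, hord]) this)
  haveI : NeZero q := ⟨hq.ne_zero⟩
  set T := ((Finset.univ : Finset (Fin q × Fin q)).erase (0, 0)).image
    (fun u => ((y ^ (u.1 : ℕ) * h ^ (u.2 : ℕ) : G) : G ⧸ center G)) with hTdef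
  have hTcard : T.card = q * q - 1 := by
    rw [hTdef, Finset.card_image_of_injective _ (fun u v huv => by
      obtain ⟨h1, h2⟩ := hinj _ _ _ _ huv; exact Prod.ext h1 h2),
      Finset.card_erase_of_mem (Finset.mem_univ _), Finset.card_univ, Fintype.card_prod, Fintype.card_fin]
  refine bound_of_cosets hc T q hpq.le ?_ ?_
  · intro w hw
    obtain ⟨⟨i, j⟩, hu, hu'⟩ := Finset.mem_image.1 hw
    have hne := (Finset.mem_erase.1 hu).1
    -- w differs from the representative by a central element
    have key : ∀ v : G, ⁅y ^ (i : ℕ) * h ^ (j : ℕ), v⁆ = ⁅w, v⁆ := fun v => by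
      conv_rhs => rw [← mul_inv_cancel_left (y ^ (i : ℕ) * h ^ (j : ℕ)) w]
      rw [comm_mul_left hc (y ^ (i : ℕ) * h ^ (j : ℕ)) ((y ^ (i : ℕ) * h ^ (j : ℕ))⁻¹ * w),
        commutatorElement_eq_one_iff_commute.2 (mem_center_iff.1 (QuotientGroup.eq.1 hu') v).symm, mul_one]
    have hdvd : q ∣ cls w := by
      by_cases hi : (i : ℕ) = 0
      · have hj : (j : ℕ) ≠ 0 := fun hj => hne (Prod.ext (Fin.ext (by simpa using hi)) (Fin.ext (by simpa using hj)))
        have := orderOf_dvd_cls hc w y
        rw [← key, hc2, Nat.Coprime.orderOf_pow, orderOf_inv, hord] at this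
        · exact this
        rw [orderOf_inv, hord]
        exact hq.coprime_iff_not_dvd.2 fun hd' => absurd (Nat.le_of_dvd (Nat.pos_of_ne_zero hj) hd') (not_le.2 j.isLt)
      · have := orderOf_dvd_cls hc w h
        rw [← key, hc1, Nat.Coprime.orderOf_pow, hord] at this
        · exact this
        rw [hord]
        exact hq.coprime_iff_not_dvd.2 fun hd' => absurd (Nat.le_of_dvd (Nat.pos_of_ne_zero hi) hd') (not_le.2 i.isLt)
    refine ⟨fun hw' => ?_, (Nat.le_of_dvd (Nat.pos_of_ne_zero Subgroup.index_ne_zero_of_finite) hdvd).trans (cls_le_orbit w)⟩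
    rw [(cls_eq_one_iff w).2 hw', Nat.dvd_one] at hdvd
    exact hq.ne_one hdvd
  · rw [hTcard]; exact arith_q (Nat.minFac_pos _) hpq

theorem pow_sub_eq_one {M : Type*} [Group M] {a : M} {i j : ℕ} (h : i ≤ j) (he : a ^ i = a ^ j) : a ^ (j - i) = 1 := by
  rw [pow_sub a h, ← he, mul_inv_cancel]

include hc in
/-- A class of size larger than the least prime, all commutators having order a power of it. -/
theorem bound_of_large_class (hall : ∀ a b : G, ∀ q : ℕ, q.Prime → q ∣ orderOf ⁅a, b⁆ → q = (Nat.card G).minFac)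
    {x : G} (hx : x ∉ center G) (hxc : cls x ≠ (Nat.card G).minFac) :
    Nat.card (MulAction.orbitRel.Quotient (MulAut G) G) ≤ Nat.card G / (Nat.card G).minFac := by
  classical
  set p := (Nat.card G).minFac with hp
  have hG1 : Nat.card G ≠ 1 := fun h1 => hx (by
    haveI := (Nat.card_eq_one_iff_unique.1 h1).1; rw [Subsingleton.elim x 1]; exact one_mem _)
  have hpp : p.Prime := Nat.minFac_prime hG1
  haveI := Fact.mk hpp
  have hcls : ∀ g : G, ∃ k, cls g = p ^ k := by
    intro g
    rw [cls_eq_range hc]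
    refine IsPGroup.iff_card.1 ?_
    rintro ⟨_, h, rfl⟩
    refine ⟨(orderOf ⁅g, h⁆).factorization p, Subtype.ext ?_⟩
    have : orderOf ⁅g, h⁆ = p ^ (orderOf ⁅g, h⁆).factorization p :=
      Nat.eq_prime_pow_of_unique_prime_dvd (orderOf_pos _).ne' (fun {q} hq hd => hall g h q hq hd) |>.trans (by
        congr 1
        conv_rhs => rw [Nat.eq_prime_pow_of_unique_prime_dvd (orderOf_pos _).ne' (fun {q} hq hd => hall g h q hq hd)]
        rw [Nat.Prime.factorization_pow hpp, Finsupp.single_eq_same])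
    simp only [SubmonoidClass.coe_pow, OneMemClass.coe_one, commR_apply]
    exact orderOf_dvd_iff_pow_eq_one.1 (dvd_of_eq this)
  have hbig : ∀ g : G, g ∉ center G → cls g ≠ p → p * p ≤ cls g := by
    intro g hg hne
    obtain ⟨k, hk⟩ := hcls g
    rcases k with _ | _ | k
    · exact absurd ((cls_eq_one_iff g).1 (by simpa using hk)) hg
    · simp at hk; exact absurd hk hne
    · rw [hk, ← pow_two]; exact Nat.pow_le_pow_right hpp.pos (by omega)
  obtain ⟨h, hxh⟩ : ∃ h : G, ⁅x, h⁆ ≠ 1 := by
    by_contra hno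
    push Not at hno
    exact hx (mem_center_iff.2 fun g => (commutatorElement_eq_one_iff_commute.1 (hno g)).eq.symm)
  -- one of h, x * h has a large class
  obtain ⟨w, hw, hwx⟩ : ∃ w, cls w ≠ p ∧ ⁅w, x⁆ ≠ 1 := by
    have hhx : ⁅h, x⁆ ≠ 1 := fun e => hxh (by rw [← commutatorElement_inv, e, inv_one])
    have hxhx : ⁅x * h, x⁆ = ⁅h, x⁆ := by rw [comm_mul_left hc, commutatorElement_self, one_mul]
    by_contra hno
    push Not at hno
    have h1 : cls h = p := by by_contra h1; exact hhx (hno h h1)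
    have h2 : cls (x * h) = p := by by_contra h2; exact hhx (hxhx ▸ hno (x * h) h2)
    have hr : ∀ g : G, cls g = p → ⁅g, x⁆ ≠ 1 → (commR hc g).range = zpowers ⁅g, x⁆ := by
      intro g hg hgx
      refine (Subgroup.eq_of_le_of_card_ge (zpowers_le.2 (show ⁅g, x⁆ ∈ (commR hc g).range from MonoidHom.mem_range.2 ⟨x, rfl⟩)) ?_).symm
      rw [← cls_eq_range hc, hg, Nat.card_zpowers]
      exact minFac_le_of_dvd (orderOf_dvd_natCard _) (fun e => hgx (orderOf_eq_one_iff.1 e))
    have hle : (commR hc x).range ≤ zpowers ⁅h, x⁆ := by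
      rintro _ ⟨k, rfl⟩
      rw [commR_apply, ← mul_inv_cancel_right ⁅x, k⁆ ⁅h, k⁆, ← comm_mul_left hc]
      refine mul_mem ?_ (inv_mem ?_)
      · rw [← hxhx, ← hr (x * h) h2 (hxhx.symm ▸ hhx)]; exact ⟨k, rfl⟩
      · rw [← hr h h1 hhx]; exact ⟨k, rfl⟩
    apply hxc
    refine le_antisymm ?_ (minFac_le_cls hx)
    rw [cls_eq_range hc]
    refine (Subgroup.card_le_of_le hle).trans ?_
    rw [← hr h h1 hhx, ← cls_eq_range hc, h1]
  have hwz : w ∉ center G := fun hz => hwx (by rw [← commutatorElement_inv, comm_of_central x w hz, inv_one])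
  have hpow : ∀ j : ℕ, 0 < j → j < p → x ^ j ∉ center G := by
    intro j hj hjp hz
    apply hxh
    have e : ⁅x, h⁆ ^ j = 1 := by
      rw [← comm_pow_left hc, ← commutatorElement_inv, comm_of_central h _ hz, inv_one]
    by_contra hne
    obtain ⟨q, hq, hqd⟩ := Nat.exists_prime_and_dvd (n := orderOf ⁅x, h⁆) (fun e' => hne (orderOf_eq_one_iff.1 e'))
    have := hall x h q hq hqd
    have := Nat.le_of_dvd hj (hqd.trans (orderOf_dvd_of_pow_eq_one e))
    omega
  set T := insert ((w : G) : G ⧸ center G) ((Finset.Icc 1 (p - 1)).image (fun j : ℕ => ((x ^ j : G) : G ⧸ center G))) with hTdef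
  have hinjT : Set.InjOn (fun j : ℕ => ((x ^ j : G) : G ⧸ center G)) (Finset.Icc 1 (p - 1) : Finset ℕ) := by
    intro i hi j hj hij
    simp only [Finset.coe_Icc, Set.mem_Icc] at hi hj
    simp only [QuotientGroup.mk_pow] at hij
    rcases le_total i j with hle | hle
    · by_contra hne
      exact hpow (j - i) (by omega) (by omega) ((QuotientGroup.eq_one_iff _).1
        (by rw [QuotientGroup.mk_pow]; exact pow_sub_eq_one hle hij))
    · by_contra hne
      exact hpow (i - j) (by omega) (by omega) ((QuotientGroup.eq_one_iff _).1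
        (by rw [QuotientGroup.mk_pow]; exact pow_sub_eq_one hle hij.symm))
  have hTcard : T.card = p := by
    rw [hTdef, Finset.card_insert_of_notMem, Finset.card_image_of_injOn hinjT, Nat.card_Icc]
    · have := hpp.two_le; omega
    intro hmem
    obtain ⟨j, -, hj⟩ := Finset.mem_image.1 hmem
    apply hwx
    rw [← mul_inv_cancel_left (x ^ j) w, comm_mul_left hc (x ^ j) ((x ^ j)⁻¹ * w), comm_pow_left hc,
      commutatorElement_self, one_pow, one_mul, commutatorElement_eq_one_iff_commute]
    exact (mem_center_iff.1 (QuotientGroup.eq.1 hj) x).symm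
  refine bound_of_cosets hc T (p * p) (Nat.le_mul_self p) ?_ ?_
  · intro g hg
    have key : ∀ a : G, a ∉ center G → cls a ≠ p → (a : G ⧸ center G) = g → g ∉ center G ∧ p * p ≤ Nat.card (MulAction.orbit (MulAut G) g) := by
      intro a ha hane he
      have hz := QuotientGroup.eq.1 he
      have hcl : cls g = cls a := by
        rw [cls_eq_range hc, cls_eq_range hc]
        have : commR hc g = commR hc a := by
          refine MonoidHom.ext fun v => ?_
          rw [commR_apply, commR_apply, ← mul_inv_cancel_left a g, comm_mul_left hc a (a⁻¹ * g),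
            commutatorElement_eq_one_iff_commute.2 (mem_center_iff.1 hz v).symm, mul_one]
        rw [this]
      have hgz : g ∉ center G := fun hgz => ha ((cls_eq_one_iff a).1 (hcl ▸ (cls_eq_one_iff g).2 hgz))
      exact ⟨hgz, (hcl ▸ hbig a ha hane).trans (cls_le_orbit g)⟩
    rcases Finset.mem_insert.1 hg with he | hg
    · exact key w hwz hw he.symm
    · obtain ⟨j, hj, he⟩ := Finset.mem_image.1 hg
      simp only [Finset.mem_Icc] at hj
      refine key (x ^ j) (hpow j hj.1 (by omega)) ?_ he
      have hcl : cls (x ^ j) = cls x := by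
        rw [cls, cls]
        congr 1
        ext v
        rw [mem_centralizer_singleton_iff, mem_centralizer_singleton_iff]
        constructor
        · intro hv
          by_contra hne
          have h1 : ⁅x, v⁆ ^ j = 1 := by
            rw [← comm_pow_left hc, commutatorElement_eq_one_iff_commute]; exact hv.symm
          obtain ⟨q, hq, hqd⟩ := Nat.exists_prime_and_dvd (n := orderOf ⁅x, v⁆) (fun e' =>
            hne (commutatorElement_eq_one_iff_commute.1 (orderOf_eq_one_iff.1 e')).eq.symm)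
          have := hall x v q hq hqd
          have := Nat.le_of_dvd (by omega) (hqd.trans (orderOf_dvd_of_pow_eq_one h1))
          omega
        · intro hv
          exact (Commute.pow_right (show Commute v x from hv) j).eq
      rwa [hcl]
  · rw [hTcard]
    obtain ⟨r, hr⟩ : ∃ r, p = r + 1 := ⟨p - 1, by have := hpp.two_le; omega⟩
    rw [show p * p - p = p * (p - 1) by rw [Nat.mul_sub, mul_one]]
    exact le_of_eq (by ring)

end CfsgLib.FGS73.AutOrbits
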