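import Mathlib
import Cfsg.Agent.Lib.FGS73.AutOrbitClassTwo
import Cfsg.Agent.Lib.FGS73.Conj

/-!
An automorphism moving a coset of the centre when the derived subgroup has prime order.
-/

set_option autoImplicit false
set_option linter.style.haveILetI false

namespace CfsgLib.FGS73.AutOrbits

open Subgroup
open scoped commutatorElement

variable {G : Type*} [Group G]

theorem mul_pow_of_central_commutator (hc : ∀ a b : G, ⁅a, b⁆ ∈ center G) (x y : G) :
    ∀ n : ℕ, (x * y) ^ n = x ^ n * y ^ n * ⁅y, x⁆ ^ Nat.choose n 2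
  | 0 => by simp
  | n + 1 => by
    have hz : ∀ i : ℕ, ∀ g : G, g * ⁅y, x⁆ ^ i = ⁅y, x⁆ ^ i * g := fun i g =>
      mem_center_iff.1 (pow_mem (hc y x) i) g
    have e : y ^ n * x = ⁅y, x⁆ ^ n * (x * y ^ n) := by
      rw [← comm_pow_left hc]; simp only [commutatorElement_def]; group
    calc (x * y) ^ (n + 1) = x ^ n * y ^ n * (⁅y, x⁆ ^ Nat.choose n 2 * (x * y)) := by
          rw [pow_succ, mul_pow_of_central_commutator hc x y n, mul_assoc]
      _ = x ^ n * (y ^ n * x) * y * ⁅y, x⁆ ^ Nat.choose n 2 := by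
          rw [← hz]; simp only [mul_assoc]
      _ = (x ^ n * ⁅y, x⁆ ^ n) * (x * y ^ n) * y * ⁅y, x⁆ ^ Nat.choose n 2 := by
          rw [e]; simp only [mul_assoc]
      _ = ⁅y, x⁆ ^ n * (x ^ (n + 1) * y ^ (n + 1) * ⁅y, x⁆ ^ Nat.choose n 2) := by
          rw [hz n]; simp only [pow_succ, mul_assoc]
      _ = x ^ (n + 1) * y ^ (n + 1) * (⁅y, x⁆ ^ n * ⁅y, x⁆ ^ Nat.choose n 2) := by
          rw [← mul_assoc (⁅y, x⁆ ^ n), ← hz n (x ^ (n + 1) * y ^ (n + 1))]; simp only [mul_assoc]
      _ = x ^ (n + 1) * y ^ (n + 1) * ⁅y, x⁆ ^ Nat.choose (n + 1) 2 := by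
          rw [← pow_add, Nat.choose_succ_succ, Nat.choose_one_right]

theorem choose_add_two : ∀ m n : ℕ, (m + n).choose 2 = m.choose 2 + n.choose 2 + m * n
  | m, 0 => by simp
  | m, n + 1 => by
    rw [← add_assoc, Nat.choose_succ_succ, Nat.choose_one_right, choose_add_two m n, Nat.choose_succ_succ n,
      Nat.choose_one_right, Nat.mul_succ]
    ring

theorem dvd_choose_two_of_sq_dvd {p N : ℕ} (hp : p.Prime) (hd : p * p ∣ N) : p ∣ N.choose 2 := by
  obtain ⟨k, rfl⟩ := hd
  rw [Nat.choose_two_right]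
  rcases hp.eq_two_or_odd' with rfl | hodd
  · rw [show 2 * 2 * k * (2 * 2 * k - 1) = 2 * (2 * (k * (2 * 2 * k - 1))) by ring, Nat.mul_div_cancel_left _ two_pos]
    exact dvd_mul_right 2 _
  · rcases Nat.even_or_odd (p * p * k) with he | ho
    · obtain ⟨r, hr⟩ := he
      have hpr : p ∣ r := by
        have : p ∣ 2 * r := ⟨p * k, by rw [← mul_assoc, hr, two_mul]⟩
        exact ((Nat.coprime_two_right.2 hodd).dvd_of_dvd_mul_left this)
      rw [hr, show (r + r) * (r + r - 1) = 2 * (r * (r + r - 1)) by ring, Nat.mul_div_cancel_left _ two_pos]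
      exact hpr.mul_right _
    · obtain ⟨r, hr⟩ := ho
      rw [hr, show 2 * r + 1 - 1 = 2 * r by omega, show (2 * r + 1) * (2 * r) = 2 * ((2 * r + 1) * r) by ring,
        Nat.mul_div_cancel_left _ two_pos, ← hr]
      exact ((dvd_mul_right p p).trans (dvd_mul_right _ k)).mul_right _

/-- In a finite abelian group a homomorphism into `ZMod N` defined on the image of a power map extends. -/
theorem exists_root_hom {A : Type*} [CommGroup A] [Finite A] {p E : ℕ} (hE : 0 < E) [NeZero (p ^ E)]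
    (k : A →* Multiplicative (ZMod (p ^ E))) (hkp : ∀ a, k a ^ p = 1) (hker : ∀ a, a ^ p ^ (E - 1) = 1 → k a = 1) :
    ∃ i : A →* Multiplicative (ZMod (p ^ E)), ∀ a, i a ^ p ^ (E - 1) = k a := by
  set f : A →* A := powMonoidHom (p ^ (E - 1)) with hf
  let g : f.range →* Multiplicative (ZMod (p ^ E)) :=
    (QuotientGroup.lift f.ker k (fun a ha => MonoidHom.mem_ker.2 (hker a ha))).comp
      (QuotientGroup.quotientKerEquivRange f).symm.toMonoidHom
  have hg : ∀ a, g ⟨f a, a, rfl⟩ = k a := fun a => by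
    simp only [g, MonoidHom.comp_apply, MulEquiv.coe_toMonoidHom]
    rw [show (QuotientGroup.quotientKerEquivRange f).symm ⟨f a, a, rfl⟩ = (a : A ⧸ f.ker) from
      (MulEquiv.symm_apply_eq _).2 rfl]
    rfl
  have hcard : Nat.card (rootsOfUnity (p ^ E) ℂ) = Nat.card (Multiplicative (ZMod (p ^ E))) := by
    rw [Nat.card_congr Multiplicative.toAdd, Nat.card_zmod, HasEnoughRootsOfUnity.natCard_rootsOfUnity]
  let e : rootsOfUnity (p ^ E) ℂ ≃* Multiplicative (ZMod (p ^ E)) := mulEquivOfCyclicCardEq hcard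
  obtain ⟨χ, hχ⟩ := MonoidHom.domRestrict_surjective (M := ℂ) f.range
    ((Subgroup.subtype _).comp (e.symm.toMonoidHom.comp g))
  have hχ' : ∀ a, χ (f a) = ((e.symm (k a) : rootsOfUnity (p ^ E) ℂ) : ℂˣ) := fun a => by
    have := DFunLike.congr_fun hχ ⟨f a, a, rfl⟩
    rw [← hg a]
    exact this
  have hroot : ∀ a, χ a ∈ rootsOfUnity (p ^ E) ℂ := fun a => by
    rw [mem_rootsOfUnity, ← map_pow, show p ^ E = p * p ^ (E - 1) by rw [← pow_succ', Nat.sub_add_cancel hE], pow_mul]
    rw [show (a ^ p) ^ p ^ (E - 1) = f (a ^ p) from rfl, hχ', map_pow, hkp, map_one, OneMemClass.coe_one]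
  refine ⟨e.toMonoidHom.comp (χ.codRestrict _ hroot), fun a => ?_⟩
  rw [← map_pow]
  show e (χ.codRestrict _ hroot (a ^ p ^ (E - 1))) = k a
  rw [show χ.codRestrict _ hroot (a ^ p ^ (E - 1)) = e.symm (k a) from Subtype.ext (hχ' a), MulEquiv.apply_symm_apply]

/-- The automorphism moving a coset of the centre. -/
theorem exists_moving_automorphism [Finite G] {p : ℕ} (hp : p.Prime) (C : Subgroup G) (hCc : C ≤ center G)
    (hCcard : Nat.card C = p) (hcomm : ∀ a b : G, ⁅a, b⁆ ∈ C) (hne : ∃ a b : G, ⁅a, b⁆ ≠ 1) :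
    ∃ (α : MulAut G) (a : G), a⁻¹ * α a ∉ center G := by
  haveI := Fact.mk hp
  have hc : ∀ a b : G, ⁅a, b⁆ ∈ center G := fun a b => hCc (hcomm a b)
  haveI hCn : C.Normal := ⟨fun n hn g => by rwa [mem_center_iff.1 (hCc hn) g, mul_inv_cancel_right]⟩
  haveI : IsCyclic C := isCyclic_of_prime_card (p := p) hCcard
  let κ : Multiplicative (ZMod p) ≃* C :=
    mulEquivOfCyclicCardEq (by rw [Nat.card_congr Multiplicative.toAdd, Nat.card_zmod, hCcard])
  set c : C := κ (Multiplicative.ofAdd 1) with hcdef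
  have hcp : (c : G) ^ p = 1 := by rw [← hCcard]; exact congrArg Subtype.val (pow_card_eq_one' (x := c))
  have hlog : ∀ z ∈ C, ∃ v : ℕ, z = (c : G) ^ v := by
    intro z hz
    refine ⟨(κ.symm ⟨z, hz⟩).toAdd.val, ?_⟩
    have h1 : c ^ (κ.symm ⟨z, hz⟩).toAdd.val = ⟨z, hz⟩ := by
      rw [hcdef, ← map_pow, ← ofAdd_nsmul, nsmul_one, ZMod.natCast_zmod_val, ofAdd_toAdd, MulEquiv.apply_symm_apply]
    exact (congrArg Subtype.val h1).symm
  have hc1 : (c : G) ≠ 1 := by
    intro h
    have h2 : κ.symm c = κ.symm 1 := by rw [show c = 1 from Subtype.ext h]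
    rw [hcdef, MulEquiv.symm_apply_apply, map_one κ.symm] at h2
    exact one_ne_zero (α := ZMod p) (Multiplicative.ofAdd.injective (h2.trans ofAdd_zero.symm))
  have hordc : orderOf (c : G) = p := orderOf_eq_prime hcp hc1
  -- noncentral elements of finite order modulo C in the p-part
  have hex : ∃ e, ∃ x : G, x ∉ center G ∧ x ^ p ^ e ∈ C := by
    obtain ⟨a, b, hab⟩ := hne
    obtain ⟨k, m, hm, hkm⟩ := Nat.exists_eq_pow_mul_and_not_dvd (orderOf_pos a).ne' p hp.ne_one
    refine ⟨k, a ^ m, fun hz => hab ?_, ?_⟩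
    · obtain ⟨v, hv⟩ := hlog _ (hcomm a b)
      have h1 : ⁅a, b⁆ ^ m = 1 := by rw [← comm_pow_left hc, ← commutatorElement_inv, comm_of_central b _ hz, inv_one]
      have h2 : ⁅a, b⁆ ^ p = 1 := by rw [hv, ← pow_mul, mul_comm, pow_mul, hcp, one_pow]
      rw [← Subgroup.mem_bot]
      exact CfsgLib.FGS73.mem_of_pow_mem_coprime ((hp.coprime_iff_not_dvd).2 hm) (by rw [h2]; exact one_mem _) (by rw [h1]; exact one_mem _)
    · rw [← pow_mul, mul_comm, ← hkm, pow_orderOf_eq_one]; exact one_mem _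
  classical
  set e0 := Nat.find hex with he0
  have hmin : ∀ j < e0, ∀ x : G, x ^ p ^ j ∈ C → x ∈ center G := fun j hj x hx => by
    by_contra hxz; exact Nat.find_min hex hj ⟨x, hxz, hx⟩
  obtain ⟨x0, hx0, hx0C⟩ := Nat.find_spec hex
  have he0pos : 0 < e0 := Nat.pos_of_ne_zero fun h => hx0 (hCc (by
    have := hx0C; rwa [← he0, h, pow_zero, pow_one] at this))
  set γ := (p ^ e0).choose 2 with hγ
  -- choice of the direction and of the modulus
  obtain ⟨b, E, hE, hb, hper, hcond⟩ : ∃ (b : G) (E : ℕ), 0 < E ∧ b ∉ center G ∧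
      b ^ p ^ E * (c : G) ^ (p ^ E).choose 2 = 1 ∧ ∀ x : G, x ^ p ^ (E - 1) ∈ C → ⁅b, x⁆ = 1 := by
    by_cases h1 : ∃ b : G, b ∉ center G ∧ b ^ p ^ e0 * (c : G) ^ γ = 1
    · obtain ⟨b, hb, hb'⟩ := h1
      exact ⟨b, e0, he0pos, hb, hb', fun x hx => comm_of_central b x (hmin _ (by omega) x hx)⟩
    refine ⟨x0, e0 + 1, Nat.succ_pos _, hx0, ?_, ?_⟩
    · obtain ⟨v, hv⟩ := hlog _ hx0C
      obtain ⟨w, hw⟩ := dvd_choose_two_of_sq_dvd hp (show p * p ∣ p ^ (e0 + 1) by
        rw [← pow_two]; exact pow_dvd_pow p (by omega))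
      rw [hw, pow_mul (c : G), hcp, one_pow, mul_one, pow_succ, pow_mul, hv, ← pow_mul, mul_comm, pow_mul, hcp, one_pow]
    intro x hx
    rw [Nat.add_sub_cancel] at hx
    by_contra hxb
    apply h1
    obtain ⟨u, hu⟩ := hlog _ hx0C
    obtain ⟨v, hv⟩ := hlog _ hx
    obtain ⟨a, ha⟩ := hlog _ (hcomm x0 x)
    -- the powers of x * x0 ^ i
    have hpw : ∀ i : ℕ, (x * x0 ^ i) ^ p ^ e0 * (c : G) ^ γ = (c : G) ^ (v + i * (u + γ * a) + γ) := by
      intro i
      rw [mul_pow_of_central_commutator hc, comm_pow_left hc, ha, hv, ← pow_mul x0, mul_comm i (p ^ e0), pow_mul x0, hu,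
        ← hγ, ← pow_mul, ← pow_mul, ← pow_mul, ← pow_add, ← pow_add, ← pow_add]
      congr 1; ring
    have hnc : ∀ i : ℕ, x * x0 ^ i ∉ center G := fun i hz => hxb (by
      have := comm_of_central x0 _ hz
      rwa [comm_mul_right hc, comm_pow_right hc, commutatorElement_self, one_pow, mul_one] at this)
    by_cases hs : ((u + γ * a : ℕ) : ZMod p) = 0
    · rw [ZMod.natCast_eq_zero_iff] at hs
      by_cases hγp : p ∣ γ
      · refine ⟨x0, hx0, ?_⟩
        obtain ⟨w, hw⟩ := hγp
        have hpu : p ∣ u := by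
          rw [hw] at hs
          exact (Nat.dvd_add_left (by rw [mul_assoc]; exact dvd_mul_right p _)).1 hs
        obtain ⟨u', rfl⟩ := hpu
        rw [hu, hw, pow_mul, pow_mul, hcp, one_pow, one_pow, mul_one]
      · -- here p = 2
        have hp2 : p = 2 := by
          rcases hp.eq_two_or_odd' with h | hodd
          · exact h
          exfalso
          apply hγp
          obtain ⟨r, hr⟩ := hodd.pow (n := e0)
          rw [hγ, Nat.choose_two_right, hr, show 2 * r + 1 - 1 = 2 * r by omega,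
            show (2 * r + 1) * (2 * r) = 2 * ((2 * r + 1) * r) by ring, Nat.mul_div_cancel_left _ two_pos, ← hr]
          exact (dvd_pow_self p he0pos.ne').mul_right _
        have hodda : ¬ p ∣ a := fun ⟨a', ha'⟩ => hxb (by rw [ha, ha', pow_mul, hcp, one_pow])
        refine ⟨x0, hx0, ?_⟩
        rw [hu, ← pow_add, ← orderOf_dvd_iff_pow_eq_one, hordc]
        subst hp2
        rw [Nat.two_dvd_ne_zero] at hodda hγp
        have h2 : (u + γ * a) % 2 = 0 := Nat.mod_eq_zero_of_dvd hs
        rw [Nat.add_mod, Nat.mul_mod, hodda, hγp] at h2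
        omega
    · refine ⟨x * x0 ^ (-((v + γ : ℕ) : ZMod p) / ((u + γ * a : ℕ) : ZMod p)).val, hnc _, ?_⟩
      rw [hpw, ← orderOf_dvd_iff_pow_eq_one, hordc, ← ZMod.natCast_eq_zero_iff]
      push_cast [ZMod.natCast_zmod_val]
      push_cast at hs
      rw [div_mul_cancel₀ _ hs]
      ring
  have hker : ∀ x : G, x ^ p ^ (E - 1) ∈ C → ⁅b, x⁆ = 1 := hcond
  haveI : NeZero (p ^ E) := ⟨pow_ne_zero _ hp.ne_zero⟩
  -- the commutator with b as a map to ZMod (p ^ E)
  let ι : ZMod p →+ ZMod (p ^ E) := ZMod.lift p ⟨zmultiplesHom _ ((p ^ (E - 1) : ℕ) : ZMod (p ^ E)), by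
    rw [zmultiplesHom_apply, natCast_zsmul, nsmul_eq_mul, ← Nat.cast_mul, ← pow_succ', Nat.sub_add_cancel hE, ZMod.natCast_self]⟩
  let A := G ⧸ C
  letI : CommGroup A := { (inferInstance : Group A) with
    mul_comm := by
      intro x y
      induction x using QuotientGroup.induction_on with
      | H x =>
        induction y using QuotientGroup.induction_on with
        | H y =>
          rw [← QuotientGroup.mk_mul, ← QuotientGroup.mk_mul, QuotientGroup.eq]
          have : (x * y)⁻¹ * (y * x) = ⁅y⁻¹, x⁻¹⁆ := by simp only [commutatorElement_def, inv_inv]; group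
          rw [this]; exact hcomm _ _ }
  let ψ : G →* C := MonoidHom.mk' (fun x => ⟨⁅b, x⁆, hcomm b x⟩) fun x y => Subtype.ext (comm_mul_right hc b x y)
  let k : A →* Multiplicative (ZMod (p ^ E)) :=
    (ι.toMultiplicative.comp κ.symm.toMonoidHom).comp (QuotientGroup.lift C ψ fun z hz =>
      MonoidHom.mem_ker.2 (Subtype.ext (comm_of_central b z (hCc hz))))
  obtain ⟨i0, hi0⟩ := exists_root_hom hE k (fun a => by
      induction a using QuotientGroup.induction_on with
      | H a =>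
        rw [← map_pow, ← QuotientGroup.mk_pow]
        show (ι.toMultiplicative.comp κ.symm.toMonoidHom) (ψ (a ^ p)) = 1
        rw [map_pow ψ, show ψ a ^ p = 1 by rw [← hCcard]; exact pow_card_eq_one', map_one])
    (fun a ha => by
      induction a using QuotientGroup.induction_on with
      | H a =>
        rw [← QuotientGroup.mk_pow, QuotientGroup.eq_one_iff] at ha
        show (ι.toMultiplicative.comp κ.symm.toMonoidHom) (ψ a) = 1
        rw [show ψ a = 1 from Subtype.ext (hker a ha), map_one])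
  let i : G → ZMod (p ^ E) := fun g => (i0 (g : A)).toAdd
  have hiadd : ∀ g h, i (g * h) = i g + i h := fun g h => by simp [i]
  have hival : ∀ g, ⁅b, g⁆ = (c : G) ^ (i g).val := by
    intro g
    have h1 := hi0 (g : A)
    have hk : k (g : A) = Multiplicative.ofAdd (ι (κ.symm (ψ g)).toAdd) := rfl
    rw [hk] at h1
    set v := (κ.symm (ψ g)).toAdd with hv
    have h2 : ι v = ((p ^ (E - 1) * v.val : ℕ) : ZMod (p ^ E)) := by
      conv_lhs => rw [← ZMod.natCast_zmod_val v]
      rw [← Int.cast_natCast v.val, ZMod.lift_coe, zmultiplesHom_apply, natCast_zsmul, nsmul_eq_mul, Nat.cast_mul, mul_comm]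
    have h3 : ((p ^ (E - 1) * (i g).val : ℕ) : ZMod (p ^ E)) = ((p ^ (E - 1) * v.val : ℕ) : ZMod (p ^ E)) := by
      rw [← h2, Nat.cast_mul, ZMod.natCast_zmod_val]
      have := congrArg Multiplicative.toAdd h1
      rw [toAdd_pow, toAdd_ofAdd, nsmul_eq_mul] at this
      exact this
    rw [ZMod.natCast_eq_natCast_iff'] at h3
    have hpe : p ^ (E - 1) * p = p ^ E := by rw [← pow_succ, Nat.sub_add_cancel hE]
    have h3' : p ^ (E - 1) * (i g).val ≡ p ^ (E - 1) * v.val [MOD p ^ (E - 1) * p] := by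
      unfold Nat.ModEq; rw [hpe]; exact h3
    have h4 : (i g).val % p = v.val % p := Nat.ModEq.mul_left_cancel' (pow_pos hp.pos _).ne' h3'
    have h5 : (ψ g : G) = (c : G) ^ v.val := by
      rw [← SubmonoidClass.coe_pow, hcdef, ← map_pow, ← ofAdd_nsmul, nsmul_one, ZMod.natCast_zmod_val, hv, ofAdd_toAdd,
        MulEquiv.apply_symm_apply]
    show (ψ g : G) = _
    rw [h5, ← pow_mod_orderOf, ← pow_mod_orderOf (c : G) (i g).val, hordc, h4]
  -- the periodic map
  let F : ℕ → G := fun m => b ^ m * (c : G) ^ m.choose 2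
  have hcz : ∀ (m : ℕ) (g : G), g * (c : G) ^ m = (c : G) ^ m * g := fun m g => mem_center_iff.1 (pow_mem (hCc c.2) m) g
  have hFadd : ∀ m n, F (m + n) = F m * F n * (c : G) ^ (m * n) := by
    intro m n
    simp only [F, choose_add_two, pow_add]
    calc b ^ m * b ^ n * ((c : G) ^ m.choose 2 * (c : G) ^ n.choose 2 * (c : G) ^ (m * n))
        = b ^ m * (b ^ n * (c : G) ^ m.choose 2) * ((c : G) ^ n.choose 2 * (c : G) ^ (m * n)) := by simp only [mul_assoc]
      _ = _ := by rw [hcz]; simp only [mul_assoc]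
  have hcN : ∀ m, (c : G) ^ (m * p ^ E) = 1 := fun m => by
    rw [show p ^ E = p * p ^ (E - 1) by rw [← pow_succ', Nat.sub_add_cancel hE], ← mul_assoc, mul_comm m p,
      mul_assoc, pow_mul, hcp, one_pow]
  have hFper : ∀ m r, F (m + r * p ^ E) = F m := by
    intro m r
    induction r with
    | zero => simp
    | succ r ih => rw [Nat.succ_mul, ← add_assoc, hFadd, ih, hcN, mul_one, show F (p ^ E) = 1 from hper, mul_one]
  have hFmod : ∀ m, F m = F (m % p ^ E) := fun m => by
    conv_lhs => rw [← Nat.mod_add_div m (p ^ E), mul_comm (p ^ E)]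
    exact hFper _ _
  let q : ZMod (p ^ E) → G := fun j => F j.val
  have hqadd : ∀ j l, q (j + l) = q j * q l * (c : G) ^ (j.val * l.val) := fun j l => by
    show F (j + l).val = _
    rw [ZMod.val_add, ← hFmod, hFadd]
  let φ : G →* G := MonoidHom.mk' (fun g => g * q (i g)) (fun g h => by
    show g * h * q (i (g * h)) = g * q (i g) * (h * q (i h))
    rw [hiadd, hqadd]
    have hqh : q (i g) * h = (c : G) ^ ((i h).val * (i g).val) * (h * q (i g)) := by
      show b ^ (i g).val * (c : G) ^ (i g).val.choose 2 * h = _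
      have h1 : b ^ (i g).val * h = ⁅b ^ (i g).val, h⁆ * (h * b ^ (i g).val) := by
        simp only [commutatorElement_def]; group
      rw [comm_pow_left hc, hival h, ← pow_mul] at h1
      rw [mul_assoc, ← hcz _ h, ← mul_assoc, h1]
      simp only [q, F, mul_assoc]
    calc g * h * (q (i g) * q (i h) * (c : G) ^ ((i g).val * (i h).val))
        = g * ((c : G) ^ ((i h).val * (i g).val) * (h * q (i g))) * q (i h) := by
          generalize hA : q (i g) = A
          generalize hB : q (i h) = B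
          rw [mul_comm (i g).val, hcz _ (A * B)]
          simp only [← mul_assoc]
          rw [mul_assoc g h, hcz _ h, ← mul_assoc]
      _ = _ := by rw [← hqh]; simp only [mul_assoc])
  have hinj : Function.Injective φ := by
    rw [← MonoidHom.ker_eq_bot_iff, Subgroup.eq_bot_iff_forall]
    intro g hg
    have hg' : g * q (i g) = 1 := hg
    have hgm : g = (b ^ (i g).val * (c : G) ^ (i g).val.choose 2)⁻¹ := eq_inv_of_mul_eq_one_left hg'
    have hbg : ⁅b, g⁆ = 1 := by
      rw [commutatorElement_eq_one_iff_commute, hgm]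
      exact (((Commute.refl b).pow_right _).mul_right (hcz _ b)).inv_right
    -- i g is killed by p, and i vanishes on C
    have hiC : ∀ z ∈ C, i z = 0 := fun z hz => by
      show (i0 ((z : G) : A)).toAdd = 0
      rw [(QuotientGroup.eq_one_iff z).2 hz, map_one, toAdd_one]
    have hpval : p ∣ (i g).val := by
      rw [hival, ← orderOf_dvd_iff_pow_eq_one, hordc] at hbg; exact hbg
    have hib : p ∣ (i b).val := by
      have h1 := hival b
      rw [commutatorElement_self] at h1
      have h2 := orderOf_dvd_iff_pow_eq_one.2 h1.symm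
      rwa [hordc] at h2
    have hipow : ∀ (m : ℕ) (g : G), i (g ^ m) = m • i g := fun m g => by
      show (i0 ((g ^ m : G) : A)).toAdd = m • (i0 (g : A)).toAdd
      rw [QuotientGroup.mk_pow, map_pow, toAdd_pow]
    have hinv : ∀ g : G, i g⁻¹ = - i g := fun g => by
      show (i0 ((g⁻¹ : G) : A)).toAdd = - (i0 (g : A)).toAdd
      rw [QuotientGroup.mk_inv, map_inv, toAdd_inv]
    have h6 : i g = -((i g).val • i b) := by
      conv_lhs => rw [hgm]
      rw [hinv, hiadd, hipow, hiC _ (pow_mem c.2 _), add_zero]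
    have h7 : i g * (1 + i b) = 0 := by
      rw [nsmul_eq_mul, ZMod.natCast_zmod_val] at h6
      linear_combination h6
    have hu : IsUnit (1 + i b) := by
      have : 1 + i b = ((1 + (i b).val : ℕ) : ZMod (p ^ E)) := by push_cast [ZMod.natCast_zmod_val]; rfl
      rw [this, ZMod.isUnit_iff_coprime]
      refine Nat.Coprime.pow_right E ((hp.coprime_iff_not_dvd).2 fun hd => ?_).symm
      exact hp.ne_one (Nat.dvd_one.1 ((Nat.dvd_add_left hib).1 hd))
    have h8 : i g = 0 := hu.mul_left_eq_zero.1 h7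
    rw [hgm, h8]; simp
  refine ⟨MulEquiv.ofBijective φ ((Finite.injective_iff_bijective).1 hinj), ?_⟩
  obtain ⟨a, ha⟩ : ∃ a : G, ⁅b, a⁆ ≠ 1 := by
    by_contra hno; push Not at hno
    exact hb (mem_center_iff.2 fun g => (commutatorElement_eq_one_iff_commute.1 (hno g)).eq.symm)
  refine ⟨a, fun hz => ?_⟩
  have hz' : q (i a) ∈ center G := by
    have e : a⁻¹ * (MulEquiv.ofBijective φ ((Finite.injective_iff_bijective).1 hinj)) a = q (i a) := by
      show a⁻¹ * (a * q (i a)) = q (i a); simp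
    rwa [e] at hz
  have hbm : b ^ (i a).val ∈ center G := by
    have := mul_mem hz' (inv_mem (hCc (pow_mem c.2 ((i a).val.choose 2))))
    simpa [q, F, mul_assoc] using this
  have h9 : ⁅b, a⁆ ^ (i a).val = 1 := by
    rw [← comm_pow_left hc, ← commutatorElement_inv, comm_of_central a _ hbm, inv_one]
  rw [hival, ← pow_mul, ← orderOf_dvd_iff_pow_eq_one, hordc] at h9
  rw [hival, Ne, ← orderOf_dvd_iff_pow_eq_one, hordc] at ha
  exact ha ((Nat.Prime.dvd_mul hp).1 h9 |>.elim id id)

end CfsgLib.FGS73.AutOrbits
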