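import Mathlib
import Cfsg.Prelude.Def_LieExceptional
import Cfsg.Agent.Lib.CN.Final
import Cfsg.Agent.Lib.Solvable.CoprimeGeneration

/-!
Finite groups in which every nonidentity element has prime order.
-/

set_option autoImplicit false
set_option linter.style.haveILetI false

open Subgroup

namespace CfsgLib.FGS73.PrimeOrders

universe u

variable {G : Type u} [Group G]

/-- Every nonidentity element has prime order. -/
def AllPrime (G : Type u) [Group G] : Prop := ∀ x : G, x ≠ 1 → (orderOf x).Prime

theorem ne_one_of_orderOf {x : G} {p : ℕ} (hp : p.Prime) (hx : orderOf x = p) : x ≠ 1 := fun h =>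
  hp.ne_one (by rw [← hx, h, orderOf_one])

theorem orderOf_eq_of_commute (h : AllPrime G) {x y : G} (hx : x ≠ 1) (hy : y ≠ 1) (hc : Commute x y) :
    orderOf x = orderOf y := by
  by_contra hne
  have hxy := hc.orderOf_mul_eq_mul_orderOf_of_coprime ((Nat.coprime_primes (h x hx) (h y hy)).2 hne)
  have hne1 : x * y ≠ 1 := fun e => by
    rw [e, orderOf_one] at hxy
    exact (h x hx).ne_one (Nat.eq_one_of_mul_eq_one_right hxy.symm)
  have := h _ hne1
  rw [hxy] at this
  exact Nat.not_prime_mul (h x hx).ne_one (h y hy).ne_one this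

theorem subgroup (h : AllPrime G) (H : Subgroup G) : AllPrime H := fun x hx => by
  rw [← Subgroup.orderOf_coe]
  exact h _ (fun e => hx (Subtype.ext e))

theorem quotient (h : AllPrime G) (N : Subgroup G) [N.Normal] : AllPrime (G ⧸ N) := by
  intro q hq
  obtain ⟨x, rfl⟩ := QuotientGroup.mk'_surjective N q
  have hx : x ≠ 1 := fun e => hq (by rw [e, map_one])
  rcases (h x hx).eq_one_or_self_of_dvd _ (orderOf_map_dvd (QuotientGroup.mk' N) x) with h1 | h1
  · exact absurd (orderOf_eq_one_iff.1 h1) hq
  · rw [h1]; exact h x hx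

theorem orderOf_eq_of_pow (h : AllPrime G) {p k : ℕ} (hp : p.Prime) {x : G} (hx1 : x ≠ 1)
    (hx : x ^ p ^ k = 1) : orderOf x = p :=
  (Nat.prime_dvd_prime_iff_eq (h x hx1) hp).1 ((h x hx1).dvd_of_dvd_pow (orderOf_dvd_of_pow_eq_one hx))

theorem orderOf_of_mem_pGroup (h : AllPrime G) {p : ℕ} (hp : p.Prime) {P : Subgroup G} (hP : IsPGroup p P)
    {x : G} (hx : x ∈ P) (hx1 : x ≠ 1) : orderOf x = p := by
  obtain ⟨k, hk⟩ := hP ⟨x, hx⟩
  exact orderOf_eq_of_pow h hp hx1 (congrArg Subtype.val hk)

theorem pow_eq_one_of_mem_pGroup (h : AllPrime G) {p : ℕ} (hp : p.Prime) {P : Subgroup G}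
    (hP : IsPGroup p P) {x : G} (hx : x ∈ P) : x ^ p = 1 := by
  by_cases hx1 : x = 1
  · rw [hx1, one_pow]
  · exact orderOf_of_mem_pGroup h hp hP hx hx1 ▸ pow_orderOf_eq_one x

theorem isPGroup_centralizer (h : AllPrime G) {p : ℕ} (hp : p.Prime) {x : G} (hx : orderOf x = p) :
    IsPGroup p (centralizer ({x} : Set G)) := by
  intro y
  refine ⟨1, Subtype.ext ?_⟩
  rw [pow_one, SubmonoidClass.coe_pow, OneMemClass.coe_one]
  by_cases hy : (y : G) = 1
  · rw [hy, one_pow]
  · have hxy : orderOf x = orderOf (y : G) :=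
      orderOf_eq_of_commute h (ne_one_of_orderOf hp hx) hy (mem_centralizer_singleton_iff.1 y.2).symm
    rw [← hx, hxy, pow_orderOf_eq_one]

theorem isCN [Finite G] (h : AllPrime G) : Cfsg.IsCNGroup G := fun x hx => by
  haveI := Fact.mk (h x hx)
  exact (isPGroup_centralizer h (h x hx) rfl).isNilpotent

theorem isSolvable_of_odd [Finite G] (h : AllPrime G) (hodd : Odd (Nat.card G)) : Group.IsSolvable G :=
  CfsgLib.CN.isSolvable_of_cn hodd (isCN h)

theorem two_dvd_card [Finite G] (h : AllPrime G) (hns : ¬ Group.IsSolvable G) : 2 ∣ Nat.card G := by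
  by_contra h2
  exact hns (isSolvable_of_odd h (Nat.odd_iff.2 (by omega)))

/-- An `a`-group normalising a nontrivial subgroup of order prime to `a` has order at most `a`. -/
theorem card_le_of_acts [Finite G] (h : AllPrime G) {a : ℕ} [ha : Fact a.Prime] {V P : Subgroup G}
    (hP : IsPGroup a P) (hV : V ≠ ⊥) (hcop : ¬ a ∣ Nat.card V) (hn : P ≤ normalizer (V : Set G)) :
    Nat.card P ≤ a := by
  by_contra hlt
  push Not at hlt
  haveI : Nontrivial P := Finite.one_lt_card_iff_nontrivial.1 (ha.out.one_lt.trans hlt)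
  haveI := hP.center_nontrivial
  obtain ⟨z, hz⟩ := exists_ne (1 : Subgroup.center P)
  have hz1 : ((z : P) : G) ≠ 1 := fun e => hz (Subtype.ext (Subtype.ext e))
  have hzo := orderOf_of_mem_pGroup h ha.out hP (z : P).2 hz1
  have hzc : ∀ y ∈ P, Commute ((z : P) : G) y := fun y hy =>
    (congrArg Subtype.val (Subgroup.mem_center_iff.1 z.2 ⟨y, hy⟩)).symm
  obtain ⟨y, hy, hyz⟩ : ∃ y ∈ P, y ∉ zpowers ((z : P) : G) := by
    by_contra hno
    push Not at hno
    have := card_le_of_le (H := P) (K := zpowers ((z : P) : G)) hno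
    rw [Nat.card_zpowers, hzo] at this
    omega
  set A := zpowers ((z : P) : G) ⊔ zpowers y with hA
  have hAP : A ≤ P := sup_le (zpowers_le.2 (z : P).2) (zpowers_le.2 hy)
  have hAcent : A ≤ centralizer (A : Set G) := by
    have h1 : ∀ w : G, Commute w ((z : P) : G) → Commute w y → A ≤ centralizer ({w} : Set G) :=
      fun w hw1 hw2 => sup_le (zpowers_le.2 (mem_centralizer_singleton_iff.2 hw1.symm.eq))
        (zpowers_le.2 (mem_centralizer_singleton_iff.2 hw2.symm.eq))
    refine sup_le (zpowers_le.2 ?_) (zpowers_le.2 ?_)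
    · intro w hw
      exact mem_centralizer_singleton_iff.1 (h1 _ (Commute.refl _) (hzc y hy) hw)
    · intro w hw
      exact mem_centralizer_singleton_iff.1 (h1 _ (hzc y hy).symm (Commute.refl _) hw)
  haveI : IsMulCommutative A :=
    ⟨⟨fun u v => Subtype.ext ((mem_centralizer_iff.1 (hAcent v.2)) u u.2)⟩⟩
  have hAnc : ¬ IsCyclic A := by
    intro hc
    obtain ⟨g, hg⟩ := hc.exists_generator
    have h1 : Nat.card A ≤ a := by
      rw [← orderOf_eq_card_of_forall_mem_zpowers hg, ← Subgroup.orderOf_coe]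
      by_cases hg1 : (g : G) = 1
      · rw [hg1, orderOf_one]; exact ha.out.one_lt.le
      · exact (orderOf_of_mem_pGroup h ha.out hP (hAP g.2) hg1).le
    have h2 : zpowers ((z : P) : G) = A := eq_of_le_of_card_ge le_sup_left (by
      rw [Nat.card_zpowers, hzo]; exact h1)
    exact hyz (h2.ge (mem_sup_right (mem_zpowers y)))
  refine hV (le_bot_iff.1 (CfsgLib.Solvable.le_of_centralizer_le hAnc (hAP.trans hn) ?_ ?_))
  · obtain ⟨m, hm⟩ := (IsPGroup.iff_card (p := a)).1 (hP.to_le hAP)
    rw [hm]
    exact Nat.Coprime.pow_left m (ha.out.coprime_iff_not_dvd.2 hcop)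
  · intro w hw hw1 v hv
    obtain ⟨hvV, hvw⟩ := mem_inf.1 hv
    rw [mem_bot]
    by_contra hv1
    have := orderOf_eq_of_commute h hv1 hw1 (mem_centralizer_singleton_iff.1 hvw)
    rw [orderOf_of_mem_pGroup h ha.out hP (hAP hw) hw1] at this
    exact hcop (this ▸ Subgroup.orderOf_dvd_natCard V hvV)

/-- No group `V ⋊ (C_q ⋊ C_r)` with `V` an abelian `r`-group inside `G`. -/
theorem no_frobenius_pair [Finite G] (h : AllPrime G) {q r : ℕ} (hq : q.Prime) (hr : r.Prime)
    (hqr : q ≠ r) {V : Subgroup G} (hV : IsPGroup r V) (hV1 : V ≠ ⊥) [IsMulCommutative V]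
    {x u : G} (hx : orderOf x = q) (hu : orderOf u = r) (hux : u ∈ normalizer (zpowers x : Set G))
    (hxV : x ∈ normalizer (V : Set G)) (huV : u ∈ normalizer (V : Set G)) : False := by
  haveI := Fact.mk hr
  haveI := Fact.mk hq
  letI : CommGroup V := { (inferInstance : Group V) with mul_comm := fun a b => mul_comm' a b }
  let θ := V.normalizerMonoidHom
  let X : normalizer (V : Set G) := ⟨x, hxV⟩
  let U : normalizer (V : Set G) := ⟨u, huV⟩
  have hθ : ∀ (g : normalizer (V : Set G)) (v : V), ((θ g v : V) : G) = g * v * (g : G)⁻¹ := fun g v => rfl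
  have hfixfree : ∀ c : normalizer (V : Set G), (c : G) ∈ zpowers x → (c : G) ≠ 1 → ∀ v : V, θ c v = v → v = 1 := by
    intro c hc hc1 v hv
    by_contra hv1
    have hcv : Commute (c : G) (v : G) := by
      have := congrArg Subtype.val hv
      rw [hθ] at this
      exact mul_inv_eq_iff_eq_mul.1 this
    have hcq : orderOf (c : G) = q := by
      refine orderOf_of_mem_pGroup h hq (P := zpowers x) (IsPGroup.of_card (n := 1) ?_) hc hc1
      rw [Nat.card_zpowers, hx, pow_one]
    have := orderOf_eq_of_commute h hc1 (fun e => hv1 (Subtype.ext e)) hcv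
    rw [hcq, orderOf_of_mem_pGroup h hr hV v.2 (fun e => hv1 (Subtype.ext e))] at this
    exact hqr this
  -- the norm of an element of order `r` is trivial
  have hnorm : ∀ w : normalizer (V : Set G), orderOf (w : G) = r → ∀ v : V,
      ∏ i ∈ Finset.range r, θ (w ^ i) v = 1 := by
    intro w hw v
    have key : ∀ m : ℕ, ((v : G) * (w : G)) ^ m = ((∏ i ∈ Finset.range m, θ (w ^ i) v : V) : G) * (w : G) ^ m := by
      intro m
      induction m with
      | zero => simp
      | succ m ih =>
        rw [pow_succ, ih, Finset.prod_range_succ, Subgroup.coe_mul, hθ, SubmonoidClass.coe_pow, pow_succ]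
        group
    have hW : IsPGroup r (V ⊔ zpowers (w : G) : Subgroup G) :=
      IsPGroup.to_sup_of_normal_left' hV (IsPGroup.of_card (n := 1) (by rw [Nat.card_zpowers, hw, pow_one]))
        (zpowers_le.2 w.2)
    have h1 := pow_eq_one_of_mem_pGroup h hr hW (x := (v : G) * (w : G))
      (mul_mem (mem_sup_left v.2) (mem_sup_right (mem_zpowers _)))
    have h2 : (w : G) ^ r = 1 := by rw [← hw, pow_orderOf_eq_one]
    rw [key, h2, mul_one] at h1
    exact Subtype.ext h1
  have hXq : X ^ q = 1 := Subtype.ext (by rw [SubmonoidClass.coe_pow, ← hx]; exact pow_orderOf_eq_one x)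
  have key : ∀ v : V, v ^ q = 1 := by
    intro v
    have hA : ∏ k ∈ Finset.range q, ∏ i ∈ Finset.range r, θ (X ^ k * U ^ i * (X ^ k)⁻¹) v = 1 := by
      refine Finset.prod_eq_one fun k _ => ?_
      rw [← hnorm (X ^ k * U * (X ^ k)⁻¹) ?_ v]
      · refine Finset.prod_congr rfl fun i _ => ?_
        rw [conj_pow]
      · show orderOf ((X ^ k * U * (X ^ k)⁻¹ : normalizer (V : Set G)) : G) = r
        push_cast
        rw [show (X : G) ^ k * u * ((X : G) ^ k)⁻¹ = MulAut.conj ((X : G) ^ k) u from rfl,
          MulEquiv.orderOf_eq, hu]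
    rw [Finset.prod_comm, ← Nat.succ_pred_eq_of_pos hr.pos, Finset.prod_range_succ'] at hA
    have hrest : ∀ i ∈ Finset.range r.pred,
        ∏ k ∈ Finset.range q, θ (X ^ k * U ^ (i + 1) * (X ^ k)⁻¹) v = 1 := by
      intro i hi
      rw [Finset.mem_range] at hi
      set W := U ^ (i + 1) with hWdef
      set c := X * (W * X⁻¹ * W⁻¹) with hcdef
      have hWx : ((W * X⁻¹ * W⁻¹ : normalizer (V : Set G)) : G) ∈ zpowers x := by
        push_cast
        exact (Subgroup.mem_normalizer_iff.1 (by rw [hWdef]; push_cast; exact pow_mem hux (i + 1)) _).1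
          (inv_mem (mem_zpowers x))
      have hcx : (c : G) ∈ zpowers x := by
        rw [hcdef, Subgroup.coe_mul]
        exact mul_mem (mem_zpowers x) hWx
      have hcomm : Commute X (W * X⁻¹ * W⁻¹) := by
        obtain ⟨m, hm⟩ := mem_zpowers_iff.1 hWx
        refine Subtype.ext ?_
        show x * _ = _ * x
        rw [← hm]
        exact ((Commute.refl x).zpow_right m).eq
      have hc1 : (c : G) ≠ 1 := by
        intro e
        have hWord : orderOf (W : G) = r := by
          rw [hWdef, SubmonoidClass.coe_pow]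
          show orderOf (u ^ (i + 1)) = r
          rw [orderOf_pow, hu, Nat.Coprime.gcd_eq_one, Nat.div_one]
          exact hr.coprime_iff_not_dvd.2 fun hd => by
            have := Nat.le_of_dvd (by omega) hd
            have := Nat.succ_pred_eq_of_pos hr.pos
            omega
        have hcm : Commute x (W : G) := by
          rw [hcdef] at e
          push_cast at e
          change x * ((W : G) * x⁻¹ * (W : G)⁻¹) = 1 at e
          have e2 : x * (W : G) * (x⁻¹ * (W : G)⁻¹) = 1 := by rw [← e]; group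
          rw [← mul_inv_rev, mul_inv_eq_one] at e2
          exact e2
        have := orderOf_eq_of_commute h (ne_one_of_orderOf hq hx) (ne_one_of_orderOf hr hWord) hcm
        exact hqr (hx ▸ hWord ▸ this)
      have hck : ∀ k : ℕ, X ^ k * W * (X ^ k)⁻¹ = c ^ k * W := by
        intro k
        rw [hcdef, hcomm.mul_pow, conj_pow, inv_pow]
        group
      have hcq : c ^ q = 1 := by
        rw [hcdef, hcomm.mul_pow, hXq, conj_pow, inv_pow, hXq]
        group
      refine hfixfree c hcx hc1 _ ?_
      rw [map_prod]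
      have hterm : ∀ k, θ c (θ (X ^ k * W * (X ^ k)⁻¹) v) = θ (X ^ (k + 1) * W * (X ^ (k + 1))⁻¹) v := by
        intro k
        rw [← MulAut.mul_apply, ← map_mul, hck, hck, pow_succ', ← mul_assoc]
      simp only [hterm]
      obtain ⟨q', hq'⟩ : ∃ q', q = q' + 1 := ⟨q - 1, by have := hq.pos; omega⟩
      conv_lhs => rw [hq', Finset.prod_range_succ, ← hq', hXq]
      conv_rhs => rw [hq', Finset.prod_range_succ']
      rw [pow_zero]
    rw [Finset.prod_eq_one hrest, one_mul] at hA
    simpa using hA
  obtain ⟨v, hv, hv1⟩ := V.bot_or_exists_ne_one.resolve_left hV1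
  have h1 : v ^ q = 1 := by simpa using congrArg Subtype.val (key ⟨v, hv⟩)
  exact hqr ((Nat.prime_dvd_prime_iff_eq hr hq).1
    (orderOf_of_mem_pGroup h hr hV hv hv1 ▸ orderOf_dvd_of_pow_eq_one h1)).symm

/-- A nonsolvable group with elements of prime order only has no nontrivial normal abelian subgroup. -/
theorem no_abelian_normal [Finite G] (h : AllPrime G) (hns : ¬ Group.IsSolvable G) (K : Subgroup G)
    [K.Normal] [IsMulCommutative K] : K = ⊥ := by
  by_contra hK
  obtain ⟨k, hk, hk1⟩ := K.bot_or_exists_ne_one.resolve_left hK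
  set p := orderOf k with hpdef
  have hp : p.Prime := h k hk1
  haveI := Fact.mk hp
  have hKp : IsPGroup p K := by
    intro y
    refine ⟨1, Subtype.ext ?_⟩
    rw [pow_one, SubmonoidClass.coe_pow, OneMemClass.coe_one]
    by_cases hy : (y : G) = 1
    · rw [hy, one_pow]
    · rw [hpdef, orderOf_eq_of_commute h hk1 hy (setLike_mul_comm hk y.2), pow_orderOf_eq_one]
  obtain ⟨S⟩ : Nonempty (Sylow 2 G) := inferInstance
  by_cases hp2 : p = 2
  · -- the centralizer of `K` is a normal Sylow 2-subgroup
    have hk2 : orderOf k = 2 := hp2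
    obtain ⟨S', hKS⟩ := (hp2 ▸ hKp : IsPGroup 2 K).exists_le_sylow
    have hexp : ∀ y ∈ (S' : Subgroup G), y ^ 2 = 1 := fun y hy =>
      pow_eq_one_of_mem_pGroup h Nat.prime_two S'.isPGroup' hy
    set C := centralizer (K : Set G) with hC
    have hSC : (S' : Subgroup G) ≤ C := fun y hy z hz => by
      have hz' := hKS hz
      have h1 := hexp _ (mul_mem hz' hy)
      have h2 := hexp z hz'
      have h3 := hexp y hy
      rw [sq] at h1 h2 h3
      calc z * y = (z * y)⁻¹ := eq_inv_of_mul_eq_one_left h1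
        _ = y⁻¹ * z⁻¹ := mul_inv_rev z y
        _ = y * z := by rw [inv_eq_of_mul_eq_one_left h2, inv_eq_of_mul_eq_one_left h3]
    have hC2 : IsPGroup 2 C :=
      (isPGroup_centralizer h Nat.prime_two hk2).to_le fun y hy =>
        mem_centralizer_singleton_iff.2 (hy k hk).symm
    have hCS : C = S' := S'.is_maximal' hC2 hSC
    haveI : C.Normal := inferInstance
    have hodd : Odd (Nat.card (G ⧸ C)) := by
      have h2 : ¬ 2 ∣ C.index := hCS ▸ S'.not_dvd_index
      rw [← Subgroup.index_eq_card]
      exact Nat.odd_iff.2 (by omega)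
    haveI := isSolvable_of_odd (quotient h C) hodd
    haveI : Group.IsNilpotent C := hC2.isNilpotent
    exact hns (Group.isSolvable_of_ker_le_range C.subtype (QuotientGroup.mk' C)
      (by rw [range_subtype, QuotientGroup.ker_mk']))
  · -- the Sylow 2-subgroups have order two
    have hS : Nat.card S ≤ 2 := by
      refine card_le_of_acts h S.isPGroup' hK ?_ le_normalizer_of_normal
      obtain ⟨m, hm⟩ := (IsPGroup.iff_card (p := p)).1 hKp
      rw [hm]
      exact fun hd => hp2 ((Nat.prime_dvd_prime_iff_eq Nat.prime_two hp).1 (Nat.prime_two.dvd_of_dvd_pow hd)).symm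
    haveI : IsCyclic S := by
      rcases (show Nat.card S = 1 ∨ Nat.card S = 2 by have := Nat.card_pos (α := S); omega) with e | e
      · haveI := (Nat.card_eq_one_iff_unique.1 e).1
        infer_instance
      · exact isCyclic_of_prime_card e
    have hmin : (Nat.card G).minFac = 2 := (Nat.minFac_eq_two_iff _).2 (two_dvd_card h hns)
    have hc := IsCyclic.isComplement' (P := S) hmin ‹IsCyclic S›
    set N := (MonoidHom.transferSylow S (IsCyclic.normalizer_le_centralizer hmin ‹IsCyclic S›)).ker
    have hNodd : Odd (Nat.card N) := by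
      have h2 : ¬ 2 ∣ (S : Subgroup G).index := S.not_dvd_index
      rw [← hc.index_eq_card] at *
      exact Nat.odd_iff.2 (by omega)
    haveI := isSolvable_of_odd (subgroup h N) hNodd
    haveI : Group.IsSolvable (G ⧸ N) := by
      haveI : Group.IsNilpotent S := S.isPGroup'.isNilpotent
      exact Group.isSolvable_of_surjective (f := (QuotientGroup.mk' N).comp (S : Subgroup G).subtype) fun q => by
        obtain ⟨g, rfl⟩ := QuotientGroup.mk'_surjective N q
        obtain ⟨⟨n, s⟩, hns'⟩ := hc.2 g
        refine ⟨s, ?_⟩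
        show QuotientGroup.mk' N (s : G) = _
        simp only at hns'
        rw [← hns', map_mul, show QuotientGroup.mk' N (n : G) = 1 from (QuotientGroup.eq_one_iff (n : G)).2 n.2, one_mul]
    exact hns (Group.isSolvable_of_ker_le_range N.subtype (QuotientGroup.mk' N)
      (by rw [range_subtype, QuotientGroup.ker_mk']))

/-- An involution normalising a group of odd prime exponent inverts it. -/
theorem inverts_of_normalizes [Finite G] (h : AllPrime G) {r : ℕ} (hr : r.Prime) (hr2 : r ≠ 2)
    {H : Subgroup G} (hH : IsPGroup r H) {t : G} (ht : orderOf t = 2) (htH : t ∈ normalizer (H : Set G)) :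
    ∀ x ∈ H, t * x * t⁻¹ = x⁻¹ := by
  let φ : H ≃* H := H.normalizerMonoidHom ⟨t, htH⟩
  have hφ : ∀ y : H, ((φ y : H) : G) = t * y * t⁻¹ := fun y => rfl
  have hfpf : MonoidHom.FixedPointFree φ := by
    intro y hy
    by_contra hy1
    have hy1' : (y : G) ≠ 1 := fun e => hy1 (Subtype.ext e)
    have hc : Commute t (y : G) := mul_inv_eq_iff_eq_mul.1 ((hφ y).symm.trans (congrArg Subtype.val hy))
    have := orderOf_eq_of_commute h (ne_one_of_orderOf Nat.prime_two ht) hy1' hc
    rw [ht, orderOf_of_mem_pGroup h hr hH y.2 hy1'] at this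
    exact hr2 this.symm
  have hinv : Function.Involutive φ := fun y => Subtype.ext (by
    rw [hφ, hφ]
    have h2 : t * t = 1 := by rw [← sq, ← ht]; exact pow_orderOf_eq_one t
    rw [show t * (t * (y : G) * t⁻¹) * t⁻¹ = (t * t) * y * (t * t)⁻¹ by group, h2]
    group)
  intro x hx
  exact congrArg Subtype.val (congrFun (hfpf.coe_eq_inv_of_involutive hinv) ⟨x, hx⟩)

theorem commute_of_inverts {H : Subgroup G} {t : G} (hinv : ∀ x ∈ H, t * x * t⁻¹ = x⁻¹) {a b : G}
    (ha : a ∈ H) (hb : b ∈ H) : a * b = b * a := by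
  have h := hinv _ (mul_mem ha hb)
  rw [show t * (a * b) * t⁻¹ = (t * a * t⁻¹) * (t * b * t⁻¹) by group, hinv a ha, hinv b hb,
    mul_inv_rev] at h
  have h' := congrArg Inv.inv h
  rw [mul_inv_rev, mul_inv_rev, inv_inv, inv_inv] at h'
  exact h'.symm

end CfsgLib.FGS73.PrimeOrders
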