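import Mathlib
import Cfsg.Agent.Lib.FGS73.PrimeOrders
import Cfsg.Agent.Lib.Char.Burnside
import Cfsg.Agent.Lib.Fusion.GlaubermanThompson
import Cfsg.Agent.Lib.Invol.Dihedral
import Cfsg.Agent.Lib.Invol.Counting
import Cfsg.Agent.Lib.Perm.Basic
import Cfsg.Agent.Lib.Solvable.Core

/-!
Nonsolvable groups whose nonidentity elements all have prime order, with one
automorphism class for each order.
-/

set_option autoImplicit false
set_option linter.style.haveILetI false

open Subgroup

namespace CfsgLib.FGS73.FourOrbits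

open CfsgLib.FGS73.PrimeOrders

universe u

variable {G : Type u} [Group G] [Finite G]

theorem exists_prime_not_mem (hns : ¬ Group.IsSolvable G) {p q : ℕ} (hp : p.Prime) (hq : q.Prime) :
    ∃ r : ℕ, r.Prime ∧ r ∣ Nat.card G ∧ r ≠ p ∧ r ≠ q := by
  by_contra hc
  push Not at hc
  exact hns (CfsgLib.Char.isSolvable_of_two_primes p q hp hq _ G rfl fun r hr hd => by
    by_cases h : r = p
    · exact Or.inl h
    · exact Or.inr (hc r hr hd h))

theorem orders_of_orbits (h4 : Nat.card (MulAction.orbitRel.Quotient (MulAut G) G) = 4) {a b c : ℕ}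
    (ha : a.Prime) (hb : b.Prime) (hc : c.Prime) (hab : a ≠ b) (hac : a ≠ c) (hbc : b ≠ c)
    (hda : a ∣ Nat.card G) (hdb : b ∣ Nat.card G) (hdc : c ∣ Nat.card G) :
    (∀ x : G, x ≠ 1 → orderOf x = a ∨ orderOf x = b ∨ orderOf x = c) ∧
      ∀ x y : G, orderOf x = orderOf y → ∃ φ : MulAut G, φ x = y := by
  classical
  let f : MulAction.orbitRel.Quotient (MulAut G) G → ℕ := Quotient.lift orderOf (by
    rintro x y ⟨φ, rfl⟩
    exact φ.orderOf_eq y)
  haveI := Fintype.ofFinite (MulAction.orbitRel.Quotient (MulAut G) G)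
  have hmem : ∀ x : G, orderOf x ∈ Finset.univ.image f := fun x =>
    Finset.mem_image.2 ⟨Quotient.mk'' x, Finset.mem_univ _, rfl⟩
  have hsub : ({1, a, b, c} : Finset ℕ) ⊆ Finset.univ.image f := by
    intro n hn
    simp only [Finset.mem_insert, Finset.mem_singleton] at hn
    have : ∀ p : ℕ, p.Prime → p ∣ Nat.card G → p ∈ Finset.univ.image f := fun p hp hd => by
      haveI := Fact.mk hp
      obtain ⟨x, hx⟩ := exists_prime_orderOf_dvd_card' (G := G) p hd
      exact hx ▸ hmem x
    rcases hn with rfl | rfl | rfl | rfl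
    · exact orderOf_one (G := G) ▸ hmem 1
    · exact this _ ha hda
    · exact this _ hb hdb
    · exact this _ hc hdc
  have hcard : ({1, a, b, c} : Finset ℕ).card = 4 := by
    have := ha.ne_one.symm
    have := hb.ne_one.symm
    have := hc.ne_one.symm
    simp [*]
  have hle : (Finset.univ.image f).card ≤ 4 := by
    rw [← h4, Nat.card_eq_fintype_card]
    exact Finset.card_image_le
  have heq : ({1, a, b, c} : Finset ℕ) = Finset.univ.image f :=
    Finset.eq_of_subset_of_card_le hsub (by omega)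
  refine ⟨fun x hx => ?_, fun x y hxy => ?_⟩
  · have := hmem x
    rw [← heq] at this
    simp only [Finset.mem_insert, Finset.mem_singleton] at this
    exact this.resolve_left (fun e => hx (orderOf_eq_one_iff.1 e))
  · have hinj : Set.InjOn f (Finset.univ : Finset (MulAction.orbitRel.Quotient (MulAut G) G)) := by
      rw [← Finset.card_image_iff, ← heq, hcard, ← h4, Nat.card_eq_fintype_card, Finset.card_univ]
    have h1 : (Quotient.mk'' y : MulAction.orbitRel.Quotient (MulAut G) G) = Quotient.mk'' x :=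
      hinj (Finset.mem_coe.2 (Finset.mem_univ _)) (Finset.mem_coe.2 (Finset.mem_univ _)) hxy.symm
    exact Quotient.eq''.1 h1

/-- The standing hypotheses. -/
structure Setup (G : Type u) [Group G] [Finite G] (q r : ℕ) : Prop where
  ns : ¬ Group.IsSolvable G
  q_prime : q.Prime
  r_prime : r.Prime
  q_ne : q ≠ 2
  r_ne : r ≠ 2
  qr : q ≠ r
  q_dvd : q ∣ Nat.card G
  r_dvd : r ∣ Nat.card G
  two_dvd : 2 ∣ Nat.card G
  orders : ∀ x : G, x ≠ 1 → orderOf x = 2 ∨ orderOf x = q ∨ orderOf x = r
  conj : ∀ x y : G, orderOf x = orderOf y → ∃ φ : MulAut G, φ x = y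

theorem exists_setup (hns : ¬ Group.IsSolvable G)
    (h4 : Nat.card (MulAction.orbitRel.Quotient (MulAut G) G) = 4) : ∃ q r, Setup G q r := by
  obtain ⟨a, ha, hda, -, -⟩ := exists_prime_not_mem hns Nat.prime_two Nat.prime_two
  obtain ⟨b, hb, hdb, hba, -⟩ := exists_prime_not_mem hns ha ha
  obtain ⟨c, hc, hdc, hca, hcb⟩ := exists_prime_not_mem hns ha hb
  obtain ⟨ho, -⟩ := orders_of_orbits h4 ha hb hc hba.symm hca.symm hcb.symm hda hdb hdc
  have hap : AllPrime G := fun x hx => by
    rcases ho x hx with e | e | e <;> rw [e] <;> assumption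
  have h2 := two_dvd_card hap hns
  obtain ⟨q, hq, hdq, hq2, -⟩ := exists_prime_not_mem hns Nat.prime_two Nat.prime_two
  obtain ⟨r, hr, hdr, hr2, hrq⟩ := exists_prime_not_mem hns Nat.prime_two hq
  obtain ⟨h, hconj⟩ := orders_of_orbits h4 Nat.prime_two hq hr hq2.symm hr2.symm hrq.symm h2 hdq hdr
  exact ⟨q, r, hns, hq, hr, hq2, hr2, hrq.symm, hdq, hdr, h2, h, hconj⟩

variable {q r : ℕ}

theorem Setup.symm (S : Setup G q r) : Setup G r q :=
  ⟨S.ns, S.r_prime, S.q_prime, S.r_ne, S.q_ne, S.qr.symm, S.r_dvd, S.q_dvd, S.two_dvd,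
    fun x hx => by rcases S.orders x hx with e | e | e <;> simp [e], S.conj⟩

theorem Setup.allPrime (S : Setup G q r) : AllPrime G := fun x hx => by
  rcases S.orders x hx with e | e | e <;> rw [e]
  exacts [Nat.prime_two, S.q_prime, S.r_prime]

theorem Setup.eq_of_prime (S : Setup G q r) {p : ℕ} (hp : p.Prime) (hd : p ∣ Nat.card G) :
    p = 2 ∨ p = q ∨ p = r := by
  haveI := Fact.mk hp
  obtain ⟨x, hx⟩ := exists_prime_orderOf_dvd_card' (G := G) p hd
  rw [← hx]
  exact S.orders x (ne_one_of_orderOf hp hx)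

theorem Setup.prime_dvd_of_normal (S : Setup G q r) {M : Subgroup G} [M.Normal] (hM : M ≠ ⊥)
    (hmin : ∀ K : Subgroup G, K.Normal → K ≤ M → K = ⊥ ∨ K = M) {p : ℕ} (hp : p.Prime)
    (hd : p ∣ Nat.card G) : p ∣ Nat.card M := by
  have hMns : ¬ Group.IsSolvable M := by
    intro hsol
    obtain ⟨A, hA, hAM, hA1, hc⟩ : ∃ A : Subgroup G, A.Normal ∧ A ≤ M ∧ A ≠ ⊥ ∧ IsMulCommutative A := by
      rcases hmin ⁅M, M⁆ inferInstance (Subgroup.commutator_le_right M M) with h | h
      · refine ⟨M, inferInstance, le_rfl, hM, ⟨⟨fun a b => Subtype.ext ?_⟩⟩⟩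
        have := (Subgroup.commutator_eq_bot_iff_le_centralizer.1 h) a.2
        exact (mem_centralizer_iff.1 this b b.2).symm
      · exfalso
        haveI : Nontrivial M := (Subgroup.nontrivial_iff_ne_bot M).2 hM
        have h1 : commutator M = ⊤ := by
          apply Subgroup.map_injective M.subtype_injective
          rw [Subgroup.map_subtype_commutator, h, ← MonoidHom.range_eq_map, range_subtype]
        exact (Group.IsSolvable.commutator_lt_top_of_nontrivial M).ne h1
    exact hA1 (no_abelian_normal S.allPrime S.ns A)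
  obtain ⟨a, ha, hda, ha2, -⟩ := exists_prime_not_mem hMns Nat.prime_two Nat.prime_two
  obtain ⟨b, hb, hdb, hb2, hba⟩ := exists_prime_not_mem hMns Nat.prime_two ha
  have h2 := two_dvd_card (subgroup S.allPrime M) hMns
  rcases S.eq_of_prime hp hd with rfl | hpe
  · exact h2
  · have hA := S.eq_of_prime ha (hda.trans (Subgroup.card_subgroup_dvd_card M))
    have hB := S.eq_of_prime hb (hdb.trans (Subgroup.card_subgroup_dvd_card M))
    rcases hpe with rfl | rfl <;> rcases hA with rfl | rfl | rfl <;> rcases hB with rfl | rfl | rfl <;>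
      first | assumption | (exfalso; simp_all)

theorem Setup.isSimple (S : Setup G q r) : IsSimpleGroup G := by
  haveI : Nontrivial G := by
    by_contra h
    rw [not_nontrivial_iff_subsingleton] at h
    exact S.ns inferInstance
  obtain ⟨N, hN, hN1, -, hNmin⟩ :=
    CfsgLib.Solvable.exists_minimal_normal_le (⊤ : Subgroup G) top_ne_bot
  haveI := hN
  have hle : ∀ K : Subgroup G, K.Normal → K ≠ ⊥ → N ≤ K := by
    intro K hK hK1
    obtain ⟨M, hM, hM1, hMK, hMmin⟩ := CfsgLib.Solvable.exists_minimal_normal_le K hK1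
    haveI := hM
    refine le_trans ?_ hMK
    by_contra hNM
    haveI := Fact.mk S.q_prime
    obtain ⟨n, hn⟩ := exists_prime_orderOf_dvd_card' (G := N) 2
      (S.prime_dvd_of_normal hN1 hNmin Nat.prime_two S.two_dvd)
    obtain ⟨m, hm⟩ := exists_prime_orderOf_dvd_card' (G := M) q
      (S.prime_dvd_of_normal hM1 hMmin S.q_prime S.q_dvd)
    rw [← Subgroup.orderOf_coe] at hn hm
    have := orderOf_eq_of_commute S.allPrime (ne_one_of_orderOf Nat.prime_two hn)
      (ne_one_of_orderOf S.q_prime hm)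
      (CfsgLib.Perm.commute_of_minimal_normal hNmin hNM n n.2 m m.2)
    rw [hn, hm] at this
    exact S.q_ne this.symm
  have htop : N = ⊤ := by
    rw [Subgroup.eq_top_iff']
    intro x
    by_cases hx : x = 1
    · exact hx ▸ N.one_mem
    haveI := Fact.mk (S.allPrime x hx)
    obtain ⟨y, hy⟩ := exists_prime_orderOf_dvd_card' (G := N) (orderOf x)
      (S.prime_dvd_of_normal hN1 hNmin (S.allPrime x hx) (orderOf_dvd_natCard x))
    rw [← Subgroup.orderOf_coe] at hy
    obtain ⟨φ, rfl⟩ := S.conj _ _ hy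
    have hmap : (N.map φ.toMonoidHom).Normal := hN.map _ φ.surjective
    have h1 : N ≤ N.map φ.toMonoidHom := hle _ hmap fun e =>
      hN1 ((Subgroup.map_eq_bot_iff_of_injective _ φ.injective).1 e)
    have h2 : N = N.map φ.toMonoidHom :=
      Subgroup.eq_of_le_of_card_ge h1 (Subgroup.card_map_of_injective φ.injective).le
    exact h2.ge (Subgroup.mem_map_of_mem _ y.2)
  exact ⟨fun K hK => or_iff_not_imp_left.2 fun hK1 => top_le_iff.1 (htop ▸ hle K hK hK1)⟩

theorem centralizer_comm (S : Setup G q r) {t : G} (ht : orderOf t = 2) {a b : G}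
    (ha : Commute a t) (hb : Commute b t) : Commute a b := by
  have hP := isPGroup_centralizer S.allPrime Nat.prime_two ht
  have hsq : ∀ z : G, Commute z t → z * z = 1 := fun z hz => by
    rw [← sq]
    exact pow_eq_one_of_mem_pGroup S.allPrime Nat.prime_two hP (mem_centralizer_singleton_iff.2 hz.eq)
  have h1 := hsq a ha
  have h2 := hsq b hb
  have h3 := hsq _ (ha.mul_left hb)
  show a * b = b * a
  calc a * b = (a * b)⁻¹ := eq_inv_of_mul_eq_one_left h3
    _ = b⁻¹ * a⁻¹ := mul_inv_rev a b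
    _ = b * a := by rw [inv_eq_of_mul_eq_one_left h1, inv_eq_of_mul_eq_one_left h2]

theorem not_class_commute (S : Setup G q r) {t u : G} (ht : orderOf t = 2) (hu : orderOf u = 2)
    (hall : ∀ v : G, IsConj u v → Commute v t) : False := by
  haveI := S.isSimple
  have hle : normalClosure ({u} : Set G) ≤ centralizer ({t} : Set G) := by
    rw [normalClosure, closure_le]
    intro v hv
    obtain ⟨w, hw, hwv⟩ := Group.mem_conjugatesOfSet_iff.1 hv
    rw [Set.mem_singleton_iff] at hw
    exact mem_centralizer_singleton_iff.2 (hall v (hw ▸ hwv)).eq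
  haveI : IsMulCommutative (normalClosure ({u} : Set G)) :=
    ⟨⟨fun a b => Subtype.ext (centralizer_comm S ht (mem_centralizer_singleton_iff.1 (hle a.2))
      (mem_centralizer_singleton_iff.1 (hle b.2))).eq⟩⟩
  have h0 := no_abelian_normal S.allPrime S.ns (normalClosure ({u} : Set G))
  have h1 : u ∈ normalClosure ({u} : Set G) := subset_normalClosure rfl
  rw [h0, mem_bot] at h1
  exact ne_one_of_orderOf Nat.prime_two hu h1

theorem mul_self_of_two {t : G} (ht : orderOf t = 2) : t * t = 1 := by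
  rw [← sq, ← ht, pow_orderOf_eq_one]

theorem prod_of_invol {t u : G} (ht : orderOf t = 2) (hu : orderOf u = 2) :
    t * (t * u) * t⁻¹ = (t * u)⁻¹ := by
  rw [mul_inv_rev, inv_eq_of_mul_eq_one_left (mul_self_of_two ht),
    inv_eq_of_mul_eq_one_left (mul_self_of_two hu), ← mul_assoc, mul_self_of_two ht, one_mul]

theorem isConj_of_not_commute (S : Setup G q r) {t u : G} (ht : orderOf t = 2) (hu : orderOf u = 2)
    (h : ¬ Commute t u) : IsConj t u ∧ orderOf (t * u) ≠ 2 ∧ t * u ≠ 1 := by
  have h1 : t * u ≠ 1 := fun e => h (by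
    rw [eq_inv_of_mul_eq_one_left e]
    exact (Commute.refl u).inv_left)
  have h2 : orderOf (t * u) ≠ 2 := fun e => h (by
    have he := mul_self_of_two e
    show t * u = u * t
    calc t * u = (t * u)⁻¹ := eq_inv_of_mul_eq_one_left he
      _ = u⁻¹ * t⁻¹ := mul_inv_rev t u
      _ = u * t := by
        rw [inv_eq_of_mul_eq_one_left (mul_self_of_two ht), inv_eq_of_mul_eq_one_left (mul_self_of_two hu)])
  refine ⟨?_, h2, h1⟩
  exact CfsgLib.Invol.isConj_of_odd (mul_self_of_two ht) (mul_self_of_two hu)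
    ((S.allPrime _ h1).odd_of_ne_two h2)

theorem isConj_invol (S : Setup G q r) {t u : G} (ht : orderOf t = 2) (hu : orderOf u = 2) : IsConj t u := by
  by_contra hne
  refine not_class_commute S ht hu fun v hv => ?_
  by_contra hvt
  have hvo : orderOf v = 2 := by
    obtain ⟨c, rfl⟩ := isConj_iff.1 hv
    rw [← MulAut.conj_apply, MulEquiv.orderOf_eq, hu]
  exact hne ((isConj_of_not_commute S ht hvo fun e => hvt e.symm).1.trans hv.symm)

theorem exists_not_commute (S : Setup G q r) : ∃ t u : G, orderOf t = 2 ∧ orderOf u = 2 ∧ ¬ Commute t u := by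
  obtain ⟨t, ht⟩ := exists_prime_orderOf_dvd_card' (G := G) 2 S.two_dvd
  by_contra hc
  push Not at hc
  refine not_class_commute S ht ht fun v hv => hc v t ?_ ht
  obtain ⟨c, rfl⟩ := isConj_iff.1 hv
  rw [← MulAut.conj_apply, MulEquiv.orderOf_eq, ht]

/-- A prime `a` is real if some element of order `a` is inverted by an involution. -/
def Real' (G : Type u) [Group G] (a : ℕ) : Prop :=
  ∃ t x : G, orderOf t = 2 ∧ orderOf x = a ∧ t * x * t⁻¹ = x⁻¹

theorem exists_real (S : Setup G q r) : Real' G q ∨ Real' G r := by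
  obtain ⟨t, u, ht, hu, h⟩ := exists_not_commute S
  obtain ⟨-, h2, h1⟩ := isConj_of_not_commute S ht hu h
  rcases S.orders _ h1 with e | e | e
  · exact absurd e h2
  · exact Or.inl ⟨t, _, ht, e, prod_of_invol ht hu⟩
  · exact Or.inr ⟨t, _, ht, e, prod_of_invol ht hu⟩

theorem centralizer_comm_of_real (S : Setup G q r) (hR : Real' G q) {x : G} (hx : orderOf x = q) :
    ∃ t : G, orderOf t = 2 ∧ t ∈ normalizer (centralizer ({x} : Set G) : Set G) ∧
      ∀ a b : G, Commute a x → Commute b x → Commute a b := by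
  obtain ⟨t₀, x₀, ht₀, hx₀, h₀⟩ := hR
  obtain ⟨φ, rfl⟩ := S.conj x₀ x (hx₀.trans hx.symm)
  have ht : orderOf (φ t₀) = 2 := by rw [MulEquiv.orderOf_eq, ht₀]
  have hxt : φ t₀ * φ x₀ * (φ t₀)⁻¹ = (φ x₀)⁻¹ := by
    rw [← map_inv, ← map_mul, ← map_mul, h₀, map_inv]
  have hnorm : φ t₀ ∈ normalizer (centralizer ({φ x₀} : Set G) : Set G) := by
    rw [Subgroup.mem_normalizer_iff]
    intro z
    simp only [mem_centralizer_singleton_iff]
    refine (Commute.conj_iff (a := z) (b := φ x₀) (φ t₀)).symm.trans ?_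
    rw [hxt]
    exact Commute.inv_right_iff
  refine ⟨φ t₀, ht, hnorm, fun a b ha hb => ?_⟩
  have hinv := inverts_of_normalizes S.allPrime S.q_prime S.q_ne
    (isPGroup_centralizer S.allPrime S.q_prime hx) ht hnorm
  exact commute_of_inverts hinv (mem_centralizer_singleton_iff.2 ha.eq) (mem_centralizer_singleton_iff.2 hb.eq)

theorem not_hasNormalPComplement (S : Setup G q r) {p : ℕ} [Fact p.Prime] (hp : p ∣ Nat.card G) :
    ¬ Cfsg.HasNormalPComplement p G := by
  haveI := S.isSimple
  rintro ⟨P, N, hN, hc⟩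
  rcases IsSimpleGroup.eq_bot_or_eq_top_of_normal N hN with rfl | rfl
  · have hP : (P : Subgroup G) = ⊤ := Subgroup.isComplement'_bot_left.1 hc
    have := P.isPGroup'
    rw [hP] at this
    haveI : Group.IsNilpotent G := (this.of_equiv Subgroup.topEquiv).isNilpotent
    exact S.ns inferInstance
  · exact P.ne_bot_of_dvd_card hp (Subgroup.isComplement'_top_left.1 hc)

/-- Elements of order `a`, counted by their Sylow subgroups. -/
theorem card_order_le {a : ℕ} [ha : Fact a.Prime] (P : Sylow a G) :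
    Nat.card {x : G // orderOf x = a} * Nat.card (normalizer ((P : Subgroup G) : Set G)) ≤
      Nat.card G * (Nat.card P - 1) := by
  classical
  haveI := Fintype.ofFinite G
  haveI := Fintype.ofFinite (Sylow a G)
  have hsub : Finset.univ.filter (fun x : G => orderOf x = a) ⊆
      Finset.univ.biUnion (fun Q : Sylow a G => Finset.univ.filter (fun x : G => x ∈ Q ∧ x ≠ 1)) := by
    intro x hx
    simp only [Finset.mem_filter, Finset.mem_univ, true_and] at hx
    obtain ⟨Q, hQ⟩ := (IsPGroup.of_card (n := 1) (G := zpowers x)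
      (by rw [Nat.card_zpowers, hx, pow_one])).exists_le_sylow
    simp only [Finset.mem_biUnion, Finset.mem_filter, Finset.mem_univ, true_and]
    exact ⟨Q, hQ (mem_zpowers x), ne_one_of_orderOf ha.out hx⟩
  have h1 : ∀ Q : Sylow a G,
      (Finset.univ.filter (fun x : G => x ∈ Q ∧ x ≠ 1)).card = Nat.card P - 1 := by
    intro Q
    have e : Finset.univ.filter (fun x : G => x ∈ Q ∧ x ≠ 1) =
        (Finset.univ.filter (fun x : G => x ∈ Q)).erase 1 := by
      ext x; simp [and_comm]
    rw [e, Finset.card_erase_of_mem (by simp [(Q : Subgroup G).one_mem]), Nat.card_congr (P.equiv Q).toEquiv,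
      Nat.card_eq_fintype_card, Fintype.card_subtype]
    rfl
  have h2 := (Finset.card_le_card hsub).trans Finset.card_biUnion_le
  simp only [h1, Finset.sum_const, Finset.card_univ, smul_eq_mul] at h2
  rw [← Fintype.card_subtype, ← Nat.card_eq_fintype_card, ← Nat.card_eq_fintype_card] at h2
  refine (Nat.mul_le_mul_right _ h2).trans_eq ?_
  rw [P.card_eq_index_normalizer, mul_right_comm]
  exact congrArg (· * (Nat.card P - 1)) (Subgroup.index_mul_card _)

theorem card_invol (S : Setup G q r) (P : Sylow 2 G) :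
    Nat.card {x : G // orderOf x = 2} * Nat.card P = Nat.card G ∧ 4 ≤ Nat.card P := by
  haveI := S.isSimple
  haveI : Nontrivial P := (Subgroup.nontrivial_iff_ne_bot _).2 (P.ne_bot_of_dvd_card S.two_dvd)
  obtain ⟨k, hk⟩ := (IsPGroup.iff_card (p := 2)).1 P.isPGroup'
  obtain ⟨t, htc⟩ := exists_ne (1 : P)
  have ht : orderOf (t : G) = 2 :=
    orderOf_of_mem_pGroup S.allPrime Nat.prime_two P.isPGroup' t.2 fun e => htc (Subtype.ext e)
  have hP : (P : Subgroup G) ≤ centralizer ({(t : G)} : Set G) := fun y hy => by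
    refine mem_centralizer_singleton_iff.2 ?_
    have hsq : ∀ z ∈ (P : Subgroup G), z * z = 1 := fun z hz => by
      rw [← sq]; exact pow_eq_one_of_mem_pGroup S.allPrime Nat.prime_two P.isPGroup' hz
    calc y * (t : G) = (y * t)⁻¹ := eq_inv_of_mul_eq_one_left (hsq _ (mul_mem hy t.2))
      _ = (t : G)⁻¹ * y⁻¹ := mul_inv_rev _ _
      _ = t * y := by rw [inv_eq_of_mul_eq_one_left (hsq _ t.2), inv_eq_of_mul_eq_one_left (hsq _ hy)]
  have hC : centralizer ({(t : G)} : Set G) = P :=
    P.is_maximal' (isPGroup_centralizer S.allPrime Nat.prime_two ht) hP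
  refine ⟨?_, ?_⟩
  · have e : Nat.card {x : G // orderOf x = 2} = Nat.card {x : G // IsConj (t : G) x} :=
      Nat.card_congr (Equiv.subtypeEquivRight fun x => ⟨fun h => isConj_invol S ht h, fun h => by
        obtain ⟨c, rfl⟩ := isConj_iff.1 h
        rw [← MulAut.conj_apply, MulEquiv.orderOf_eq, ht]⟩)
    rw [e, CfsgLib.Invol.card_isConj_eq_index, hC, mul_comm]
    exact Subgroup.card_mul_index _
  · by_contra hlt
    have h1 := Finite.one_lt_card (α := P)
    have h2 : Nat.card P = 2 := by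
      rcases k with _ | _ | k
      · have : Nat.card P = 1 := by simpa using hk
        omega
      · simpa using hk
      · exfalso
        have : Nat.card P = 2 ^ (k + 2) := hk
        have : 4 ≤ 2 ^ (k + 2) := by
          rw [pow_add]; have := Nat.one_le_two_pow (n := k); omega
        omega
    haveI : IsCyclic P := isCyclic_of_prime_card h2
    have hmin : (Nat.card G).minFac = 2 := (Nat.minFac_eq_two_iff _).2 S.two_dvd
    exact not_hasNormalPComplement S S.two_dvd
      ⟨P, _, inferInstance, IsCyclic.isComplement' (P := P) hmin inferInstance⟩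

theorem sylow_real (S : Setup G q r) (hR : Real' G q) [Fact q.Prime] (Q : Sylow q G) :
    2 * Nat.card Q ≤ Nat.card (normalizer ((Q : Subgroup G) : Set G)) ∧
      ∃ x : G, orderOf x = q ∧ centralizer ({x} : Set G) = Q := by
  haveI : Nontrivial Q := (Subgroup.nontrivial_iff_ne_bot _).2 (Q.ne_bot_of_dvd_card S.q_dvd)
  haveI := Q.isPGroup'.center_nontrivial
  obtain ⟨z, hz⟩ := exists_ne (1 : Subgroup.center Q)
  have hz1 : ((z : Q) : G) ≠ 1 := fun e => hz (Subtype.ext (Subtype.ext e))
  have hzo := orderOf_of_mem_pGroup S.allPrime S.q_prime Q.isPGroup' (z : Q).2 hz1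
  have hC : centralizer ({((z : Q) : G)} : Set G) = Q :=
    Q.is_maximal' (isPGroup_centralizer S.allPrime S.q_prime hzo) fun y hy =>
      mem_centralizer_singleton_iff.2 (congrArg Subtype.val (Subgroup.mem_center_iff.1 z.2 ⟨y, hy⟩))
  obtain ⟨t, ht, htn, -⟩ := centralizer_comm_of_real S hR hzo
  rw [hC] at htn
  refine ⟨?_, _, hzo, hC⟩
  have hd1 : Nat.card Q ∣ Nat.card (normalizer ((Q : Subgroup G) : Set G)) :=
    Subgroup.card_dvd_of_le le_normalizer
  have hd2 : 2 ∣ Nat.card (normalizer ((Q : Subgroup G) : Set G)) :=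
    ht ▸ Subgroup.orderOf_dvd_natCard _ htn
  obtain ⟨k, hk⟩ := (IsPGroup.iff_card (p := q)).1 Q.isPGroup'
  refine Nat.le_of_dvd Nat.card_pos (Nat.Coprime.mul_dvd_of_dvd_of_dvd ?_ hd2 hd1)
  rw [hk]
  exact Nat.Coprime.pow_right k ((Nat.coprime_primes Nat.prime_two S.q_prime).2 S.q_ne.symm)

end CfsgLib.FGS73.FourOrbits
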