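import Mathlib
import Cfsg.Agent.Lib.FGS73.FourOrbits

/-!
In a nonsolvable group with four automorphism orbits every element of odd prime order is real,
and all centralizers of nonidentity elements are abelian.
-/

set_option autoImplicit false
set_option linter.style.haveILetI false

open Subgroup

namespace CfsgLib.FGS73.FourOrbits

open CfsgLib.FGS73.PrimeOrders

universe u

variable {G : Type u} [Group G] [Finite G] {q r : ℕ}

theorem normalizer_le_normalizer_map_char (K : Subgroup G) (C : Subgroup K) [hC : C.Characteristic] :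
    normalizer (K : Set G) ≤ normalizer ((C.map K.subtype : Subgroup G) : Set G) := by
  have key : ∀ g ∈ normalizer (K : Set G), ∀ y ∈ C.map K.subtype, g * y * g⁻¹ ∈ C.map K.subtype := by
    rintro g hg y ⟨c, hc, rfl⟩
    refine ⟨K.normalizerMonoidHom ⟨g, hg⟩ c, ?_, rfl⟩
    have hc' := hc
    rw [← hC.fixed (K.normalizerMonoidHom ⟨g, hg⟩)] at hc'
    exact hc'
  intro g hg
  rw [Subgroup.mem_normalizer_iff]
  refine fun y => ⟨key g hg y, fun hy => ?_⟩
  have := key g⁻¹ (inv_mem hg) _ hy
  simpa [mul_assoc] using this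

theorem two_not_dvd_normalizer (S : Setup G q r) (hR : ¬ Real' G r) {V : Subgroup G} (hV : IsPGroup r V)
    (hV1 : V ≠ ⊥) : ¬ 2 ∣ Nat.card (normalizer (V : Set G)) := by
  intro hd
  obtain ⟨t, ht⟩ := exists_prime_orderOf_dvd_card' (G := normalizer (V : Set G)) 2 hd
  rw [← Subgroup.orderOf_coe] at ht
  obtain ⟨x, hx, hx1⟩ := V.bot_or_exists_ne_one.resolve_left hV1
  exact hR ⟨t, x, ht, orderOf_of_mem_pGroup S.allPrime S.r_prime hV hx hx1,
    inverts_of_normalizes S.allPrime S.r_prime S.r_ne hV ht t.2 x hx⟩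

set_option maxHeartbeats 1000000 in
theorem q_dvd_normalizer (S : Setup G q r) (hR : ¬ Real' G r) [Fact r.Prime] (R : Sylow r G) :
    q ∣ Nat.card (normalizer ((R : Subgroup G) : Set G)) := by
  have hR1 : (R : Subgroup G) ≠ ⊥ := R.ne_bot_of_dvd_card S.r_dvd
  have hh := S.allPrime
  have hq := S.q_prime
  haveI := Fact.mk hq
  set Z := CfsgLib.ZJCenter.zj 0 (R : Subgroup G) with hZdef
  have hZR : Z ≤ R := CfsgLib.ZJCenter.zj_le 0 _
  have hZ1 : Z ≠ ⊥ := CfsgLib.ZJCenter.zj_ne_bot (p := r) (Or.inl rfl) R.isPGroup' hR1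
  set M := normalizer (Z : Set G) with hMdef
  have hRM : (R : Subgroup G) ≤ M :=
    le_normalizer.trans (CfsgLib.ZJCenter.normalizer_le_normalizer_zj 0 _)
  have h2M : ¬ 2 ∣ Nat.card M := two_not_dvd_normalizer S hR (R.isPGroup'.to_le hZR) hZ1
  have hprimes : ∀ p : ℕ, p.Prime → p ∣ Nat.card M → p = q ∨ p = r := fun p hp hd =>
    (S.eq_of_prime hp (hd.trans (Subgroup.card_subgroup_dvd_card M))).resolve_left
      fun e => h2M (e ▸ hd)
  haveI hsol : Group.IsSolvable M :=
    CfsgLib.Char.isSolvable_of_two_primes q r hq S.r_prime _ M rfl hprimes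
  by_cases hqM : q ∣ Nat.card M
  swap
  · exfalso
    refine not_hasNormalPComplement S S.r_dvd
      (CfsgLib.GlaubermanThompson.hasNormalPComplement_of_normalizer_zj S.r_ne (Or.inl rfl) R ?_)
    have hMR : IsPGroup r M := by
      refine IsPGroup.of_card (n := (Nat.card M).primeFactorsList.length)
        (Nat.eq_prime_pow_of_unique_prime_dvd Nat.card_pos.ne' fun {d} hd hdd => ?_)
      exact (hprimes d hd hdd).resolve_left fun e => hqM (e ▸ hdd)
    obtain ⟨P⟩ : Nonempty (Sylow r M) := inferInstance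
    refine ⟨P, ⊥, inferInstance, Subgroup.isComplement'_bot_left.2 ?_⟩
    exact (P.is_maximal' (hMR.to_subgroup ⊤) le_top).symm
  set P := (R : Subgroup G).subgroupOf M with hPdef
  have hP : IsPGroup r P := R.isPGroup'.comap_subtype
  have hPi : ¬ r ∣ P.index := fun hd =>
    R.not_dvd_index (hd.trans (Dvd.intro _ (Subgroup.relIndex_mul_index hRM)))
  by_cases hPn : P.Normal
  · exact hqM.trans (Subgroup.card_dvd_of_le (normal_subgroupOf_iff_le_normalizer hRM |>.1 hPn))
  exfalso
  set D := P.normalCore with hDdef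
  haveI hDn : D.Normal := Subgroup.normalCore_normal P
  have hDP : D ≤ P := Subgroup.normalCore_le P
  have hDP' : D ≠ P := fun e => hPn (e ▸ hDn)
  have hD1 : D ≠ ⊥ := by
    intro e
    have h1 : Z.subgroupOf M ≤ D := by
      haveI : (Z.subgroupOf M).Normal := Subgroup.normal_in_normalizer
      rw [hDdef, Subgroup.normal_le_normalCore]
      exact fun x hx => hZR hx
    rw [e, le_bot_iff, Subgroup.subgroupOf_eq_bot] at h1
    exact hZ1 (le_bot_iff.1 (h1 le_rfl le_normalizer))
  have hDp : IsPGroup r D := hP.to_le hDP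
  haveI : Nontrivial (M ⧸ D) := by
    rw [← Finite.one_lt_card_iff_nontrivial, ← Subgroup.index_eq_card]
    refine Subgroup.one_lt_index_of_ne_top fun e => hPn ?_
    have : P = ⊤ := top_le_iff.1 (e ▸ hDP)
    rw [this]; infer_instance
  obtain ⟨K₀, hK₀, hK₀1, -, hK₀min⟩ :=
    CfsgLib.Solvable.exists_minimal_normal_le (⊤ : Subgroup (M ⧸ D)) top_ne_bot
  haveI := hK₀
  haveI : Group.IsSolvable (M ⧸ D) :=
    Group.isSolvable_of_surjective (f := QuotientGroup.mk' D) (QuotientGroup.mk'_surjective D)
  obtain ⟨-, p, hp, hpK⟩ := CfsgLib.Solvable.minimal_normal_elementary_abelian K₀ hK₀1 hK₀min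
  haveI := Fact.mk hp
  have hK₀p : IsPGroup p K₀ := fun x => ⟨1, Subtype.ext (by simpa using hpK x x.2)⟩
  set K := K₀.comap (QuotientGroup.mk' D) with hKdef
  haveI hKn : K.Normal := hK₀.comap _
  have hDK : D ≤ K := by
    intro x hx
    rw [hKdef, mem_comap, show QuotientGroup.mk' D x = 1 from (QuotientGroup.eq_one_iff x).2 hx]
    exact one_mem _
  have hKmap : K.map (QuotientGroup.mk' D) = K₀ :=
    Subgroup.map_comap_eq_self_of_surjective (QuotientGroup.mk'_surjective D) K₀
  have hKne : ¬ K ≤ D := fun hle => hK₀1 (by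
    rw [← hKmap, eq_bot_iff, Subgroup.map_le_iff_le_comap]
    intro x hx
    rw [mem_comap, mem_bot]
    exact (QuotientGroup.eq_one_iff x).2 (hle hx))
  have hKcard : Nat.card K = Nat.card D * Nat.card K₀ := by
    have h1 : K.index = K₀.index :=
      K₀.index_comap_of_surjective (QuotientGroup.mk'_surjective D)
    have h2 := Subgroup.card_mul_index K
    rw [h1, ← Subgroup.card_mul_index D, Subgroup.index_eq_card D, ← Subgroup.card_mul_index K₀,
      ← mul_assoc] at h2
    exact Nat.eq_of_mul_eq_mul_right (Nat.pos_of_ne_zero K₀.index_ne_zero_of_finite) h2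
  have hpr : p ≠ r := by
    rintro rfl
    refine hKne ?_
    rw [hDdef, Subgroup.normal_le_normalCore]
    obtain ⟨a, ha⟩ := (IsPGroup.iff_card (p := p)).1 hDp
    obtain ⟨b, hb⟩ := (IsPGroup.iff_card (p := p)).1 hK₀p
    have hKp : IsPGroup p K := IsPGroup.of_card (n := a + b) (by rw [hKcard, ha, hb, pow_add])
    have hsup : IsPGroup p (K ⊔ P : Subgroup M) := hKp.to_sup_of_normal_left hP
    exact le_sup_left.trans ((hP.toSylow hPi).is_maximal' hsup le_sup_right).le
  have hpq : p = q := by
    refine (hprimes p hp ?_).resolve_right hpr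
    obtain ⟨b, hb⟩ := (IsPGroup.iff_card (p := p)).1 hK₀p
    have hb0 : b ≠ 0 := fun e => hK₀1 (Subgroup.card_eq_one.1 (by rw [hb, e, pow_zero]))
    exact ((dvd_pow_self p hb0).trans (hb ▸ Dvd.intro_left _ hKcard.symm)).trans
      (Subgroup.card_subgroup_dvd_card K)
  subst p
  -- the subgroup on which everything acts
  let W : Subgroup G := D.map M.subtype
  have hWr : IsPGroup r W := hDp.map _
  have hW1 : W ≠ ⊥ := fun e => hD1 ((Subgroup.map_eq_bot_iff_of_injective _ M.subtype_injective).1 e)
  let V : Subgroup G := (Subgroup.center W).map W.subtype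
  haveI : Nontrivial W := (Subgroup.nontrivial_iff_ne_bot W).2 hW1
  haveI := Fact.mk S.r_prime
  haveI := hWr.center_nontrivial
  have hV1 : V ≠ ⊥ := fun e => (Subgroup.nontrivial_iff_ne_bot (Subgroup.center W)).1 inferInstance
    ((Subgroup.map_eq_bot_iff_of_injective _ W.subtype_injective).1 e)
  haveI : IsMulCommutative V := Subgroup.map_isMulCommutative _ _
  have hVr : IsPGroup r V := (hWr.to_subgroup _).map _
  have hMW : M ≤ normalizer (W : Set G) := by
    intro g hg
    refine Subgroup.le_normalizer_map M.subtype ⟨⟨g, hg⟩, ?_, rfl⟩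
    exact le_normalizer_of_normal (H := D) (K := ⊤) (mem_top _)
  have hMV : M ≤ normalizer (V : Set G) := hMW.trans (normalizer_le_normalizer_map_char W _)
  obtain ⟨Q⟩ : Nonempty (Sylow q K) := inferInstance
  have hQq : Nat.card Q = q := by
    let Q' : Subgroup G := ((Q : Subgroup K).map K.subtype).map M.subtype
    have hcQ : Nat.card Q' = Nat.card Q := by
      rw [Subgroup.card_map_of_injective M.subtype_injective,
        Subgroup.card_map_of_injective K.subtype_injective]
    have hQ'q : IsPGroup q Q' := (Q.isPGroup'.map _).map _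
    have hle : Nat.card Q' ≤ q := by
      refine card_le_of_acts hh hQ'q hV1 ?_ ((Subgroup.map_subtype_le _).trans hMV)
      obtain ⟨a, ha⟩ := (IsPGroup.iff_card (p := r)).1 hVr
      rw [ha]
      exact fun hd => hpr ((Nat.prime_dvd_prime_iff_eq hq S.r_prime).1 (hq.dvd_of_dvd_pow hd))
    have hge : q ≤ Nat.card Q := by
      obtain ⟨b, hb⟩ := (IsPGroup.iff_card (p := q)).1 hK₀p
      have hb0 : b ≠ 0 := fun e => hK₀1 (Subgroup.card_eq_one.1 (by rw [hb, e, pow_zero]))
      refine Nat.le_of_dvd Nat.card_pos ?_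
      refine (dvd_of_eq (pow_one q).symm).trans (Q.pow_dvd_card_of_pow_dvd_card ?_)
      rw [pow_one, hKcard, hb]
      exact (dvd_pow_self q hb0).mul_left _
    omega
  obtain ⟨x, hx⟩ := exists_prime_orderOf_dvd_card' (G := Q) q hQq.symm.dvd
  have hzx : zpowers ((x : Q) : K) = (Q : Subgroup K) :=
    Subgroup.eq_of_le_of_card_ge (zpowers_le.2 (x : Q).2) (by
      rw [Nat.card_zpowers, Subgroup.orderOf_coe, hx, hQq])
  let N := normalizer (((Q : Subgroup K).map K.subtype : Subgroup M) : Set M)
  have hNtop : N ⊔ K = ⊤ := Sylow.normalizer_sup_eq_top Q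
  have hrN : r ∣ Nat.card N := by
    have hmul : Nat.card M ∣ Nat.card N * Nat.card K := by
      refine Dvd.intro (Nat.card (K.subgroupOf N)) ?_
      have h1 := Subgroup.relIndex_sup_right (H := N) (K := K)
      rw [hNtop, Subgroup.relIndex_top_right] at h1
      have h2 := Subgroup.card_mul_index (K.subgroupOf N)
      rw [← h2, show (K.subgroupOf N).index = K.index from h1.symm,
        ← Subgroup.card_mul_index K]
      ring
    have hprod : Nat.card P * 1 ∣ Nat.card M := by
      rw [mul_one]; exact Subgroup.card_subgroup_dvd_card P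
    by_contra hrN
    obtain ⟨a, ha⟩ := (IsPGroup.iff_card (p := r)).1 hP
    have h1 : Nat.card P ∣ Nat.card K := by
      refine Nat.Coprime.dvd_of_dvd_mul_left ?_ ((mul_one (Nat.card P) ▸ hprod).trans hmul)
      rw [ha]
      exact Nat.Coprime.pow_left a (S.r_prime.coprime_iff_not_dvd.2 hrN)
    have h2 : Nat.card P ∣ Nat.card D := by
      rw [hKcard] at h1
      refine Nat.Coprime.dvd_of_dvd_mul_right ?_ h1
      obtain ⟨b, hb⟩ := (IsPGroup.iff_card (p := q)).1 hK₀p
      rw [ha, hb]
      exact Nat.Coprime.pow _ _ ((Nat.coprime_primes S.r_prime hq).2 hpr.symm)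
    exact hDP' (Subgroup.eq_of_le_of_card_ge hDP (Nat.le_of_dvd Nat.card_pos h2))
  obtain ⟨u, hu⟩ := exists_prime_orderOf_dvd_card' (G := N) r hrN
  refine no_frobenius_pair hh hq S.r_prime hpr hVr hV1 (x := ((((x : Q) : K) : M) : G))
    (u := ((u : M) : G)) ?_ ?_ ?_ (hMV ((((x : Q) : K) : M)).2) (hMV (u : M).2)
  · rw [Subgroup.orderOf_coe, Subgroup.orderOf_coe, Subgroup.orderOf_coe, hx]
  · rw [Subgroup.orderOf_coe, Subgroup.orderOf_coe, hu]
  · have h1 := Subgroup.le_normalizer_map (H := (Q : Subgroup K).map K.subtype) M.subtype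
      (Subgroup.mem_map_of_mem M.subtype u.2)
    rwa [← hzx, MonoidHom.map_zpowers, MonoidHom.map_zpowers] at h1

end CfsgLib.FGS73.FourOrbits

namespace CfsgLib.FGS73.FourOrbits

open CfsgLib.FGS73.PrimeOrders

universe v

variable {G : Type v} [Group G] [Finite G] {q r : ℕ}

theorem card_eq_orders (S : Setup G q r) :
    Nat.card G = 1 + Nat.card {x : G // orderOf x = 2} + Nat.card {x : G // orderOf x = q} +
      Nat.card {x : G // orderOf x = r} := by
  classical
  haveI := Fintype.ofFinite G
  simp only [Nat.card_eq_fintype_card, Fintype.card_subtype]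
  have h : (Finset.univ : Finset G) = insert 1 (((Finset.univ.filter fun x : G => orderOf x = 2) ∪
      Finset.univ.filter fun x : G => orderOf x = q) ∪ Finset.univ.filter fun x : G => orderOf x = r) := by
    ext x
    by_cases hx : x = 1
    · simp [hx]
    · simpa [hx, or_assoc] using S.orders x hx
  have h1 : ∀ a b : ℕ, a ≠ b → Disjoint (Finset.univ.filter fun x : G => orderOf x = a)
      (Finset.univ.filter fun x : G => orderOf x = b) := fun a b hab =>
    Finset.disjoint_filter.2 fun x _ ha hb => hab (ha.symm.trans hb)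
  rw [← Finset.card_univ]
  conv_lhs => rw [h]
  rw [Finset.card_insert_of_notMem (by
      simp [S.q_prime.ne_one.symm, S.r_prime.ne_one.symm]),
    Finset.card_union_of_disjoint (Finset.disjoint_union_left.2
      ⟨h1 2 r S.r_ne.symm, h1 q r S.qr⟩),
    Finset.card_union_of_disjoint (h1 2 q S.q_ne.symm)]
  ring

theorem prime_mul_card (S : Setup G q r) [Fact q.Prime] [Fact r.Prime] (P : Sylow 2 G) (Q : Sylow q G)
    (R : Sylow r G) : Nat.card P * (Nat.card Q * Nat.card R) ∣ Nat.card G := by
  obtain ⟨a, ha⟩ := (IsPGroup.iff_card (p := 2)).1 P.isPGroup'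
  obtain ⟨b, hb⟩ := (IsPGroup.iff_card (p := q)).1 Q.isPGroup'
  obtain ⟨c, hc⟩ := (IsPGroup.iff_card (p := r)).1 R.isPGroup'
  have hQR : Nat.card Q * Nat.card R ∣ Nat.card G := by
    refine Nat.Coprime.mul_dvd_of_dvd_of_dvd ?_ (Subgroup.card_subgroup_dvd_card _)
      (Subgroup.card_subgroup_dvd_card _)
    rw [hb, hc]
    exact Nat.Coprime.pow _ _ ((Nat.coprime_primes S.q_prime S.r_prime).2 S.qr)
  refine Nat.Coprime.mul_dvd_of_dvd_of_dvd ?_ (Subgroup.card_subgroup_dvd_card _) hQR
  rw [ha, hb, hc]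
  exact (Nat.Coprime.pow _ _ ((Nat.coprime_primes Nat.prime_two S.q_prime).2 S.q_ne.symm)).mul_right
    (Nat.Coprime.pow _ _ ((Nat.coprime_primes Nat.prime_two S.r_prime).2 S.r_ne.symm))

/-- Ordered pairs of noncommuting involutions, with product of order `q`. -/
theorem invol_pairs (S : Setup G q r) (hR : ¬ Real' G r) [Fact q.Prime] (P : Sylow 2 G) (Q : Sylow q G)
    (hP : Nat.card P = 4) :
    Nat.card {x : G // orderOf x = 2} * (Nat.card {x : G // orderOf x = 2} - 3) ≤
      Nat.card {x : G // orderOf x = q} * Nat.card Q := by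
  classical
  haveI := Fintype.ofFinite G
  simp only [Nat.card_eq_fintype_card, Fintype.card_subtype]
  set I := Finset.univ.filter fun x : G => orderOf x = 2 with hI
  set A := (I ×ˢ I).filter fun p : G × G => ¬ Commute p.1 p.2 with hA
  have hlow : I.card * (I.card - 3) ≤ A.card := by
    have hcom : ∀ t ∈ I, (I.filter fun u => Commute t u).card ≤ 3 := by
      intro t ht
      have ht' : orderOf t = 2 := by simpa [hI] using ht
      obtain ⟨P', hP'⟩ := (isPGroup_centralizer S.allPrime Nat.prime_two ht').exists_le_sylow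
      have hsub : (I.filter fun u => Commute t u) ⊆
          (Finset.univ.filter fun u : G => u ∈ P').erase 1 := by
        intro u hu
        simp only [hI, Finset.mem_filter, Finset.mem_univ, true_and] at hu
        simp only [Finset.mem_erase, Finset.mem_filter, Finset.mem_univ, true_and]
        exact ⟨ne_one_of_orderOf Nat.prime_two hu.1, hP' (mem_centralizer_singleton_iff.2 hu.2.symm.eq)⟩
      refine (Finset.card_le_card hsub).trans ?_
      rw [Finset.card_erase_of_mem (by simp [(P' : Subgroup G).one_mem])]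
      have h1 : Nat.card P' = 4 := by rw [← hP]; exact Nat.card_congr (P'.equiv P).toEquiv
      rw [Nat.card_eq_fintype_card, Fintype.card_subtype] at h1
      exact Nat.sub_le_sub_right h1.le 1
    have hsum : A.card = ∑ t ∈ I, (I.filter fun u => ¬ Commute t u).card := by
      rw [Finset.card_eq_sum_card_fiberwise (s := A) (t := I) (f := Prod.fst) ?_]
      · refine Finset.sum_congr rfl fun t ht => ?_
        refine Finset.card_nbij' (fun p => p.2) (fun u => (t, u)) ?_ ?_ ?_ ?_
        · intro p hp; simp [hA, hI] at hp ⊢; obtain ⟨⟨⟨_, h2⟩, h3⟩, rfl⟩ := hp; exact ⟨h2, h3⟩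
        · intro u hu; simp [hA, hI] at hu ht ⊢; exact ⟨⟨ht, hu.1⟩, hu.2⟩
        · intro p hp; simp [hA] at hp; obtain ⟨_, rfl⟩ := hp; rfl
        · intro u _; rfl
      · intro p hp
        simp only [Finset.coe_filter, hA, Finset.mem_product, Set.mem_setOf_eq] at hp
        exact hp.1.1
    rw [hsum, ← smul_eq_mul]
    refine Finset.card_nsmul_le_sum _ _ _ fun t ht => ?_
    have := Finset.card_filter_add_card_filter_not (s := I) (fun u => Commute t u)
    have := hcom t ht
    omega
  refine hlow.trans (Finset.card_le_mul_card_image_of_maps_to (f := fun p : G × G => p.1 * p.2)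
    (t := Finset.univ.filter fun x : G => orderOf x = q) ?_ (Nat.card Q) ?_ |>.trans_eq ?_)
  · intro p hp
    simp only [hA, hI, Finset.mem_filter, Finset.mem_product, Finset.mem_univ, true_and] at hp ⊢
    obtain ⟨-, h2, h1⟩ := isConj_of_not_commute S hp.1.1 hp.1.2 hp.2
    rcases S.orders _ h1 with e | e | e
    · exact absurd e h2
    · exact e
    · exact absurd ⟨p.1, _, hp.1.1, e, prod_of_invol hp.1.1 hp.1.2⟩ hR
  · intro x hx
    simp only [Finset.mem_filter, Finset.mem_univ, true_and] at hx
    obtain ⟨Q', hQ'⟩ := (isPGroup_centralizer S.allPrime S.q_prime hx).exists_le_sylow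
    have hcQ : (Finset.univ.filter fun y : G => y ∈ Q').card = Nat.card Q := by
      rw [← Nat.card_congr (Q'.equiv Q).toEquiv, Nat.card_eq_fintype_card, Fintype.card_subtype]
      rfl
    rcases (A.filter fun p => p.1 * p.2 = x).eq_empty_or_nonempty with h0 | ⟨p₀, hp₀⟩
    · simp [h0]
    rw [← hcQ]
    refine Finset.card_le_card_of_injOn (fun p => p.1 * p₀.1) ?_ ?_
    · intro p hp
      simp only [Finset.coe_filter, Set.mem_setOf_eq, hA, hI, Finset.mem_filter, Finset.mem_product,
        Finset.mem_univ, true_and] at hp hp₀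
      simp only [Finset.coe_filter, Set.mem_setOf_eq, Finset.mem_univ, true_and]
      refine hQ' (mem_centralizer_singleton_iff.2 ?_)
      have e1 := prod_of_invol hp.1.1.1 hp.1.1.2
      have e0 := prod_of_invol hp₀.1.1.1 hp₀.1.1.2
      rw [hp.2] at e1
      rw [hp₀.2] at e0
      have e0' : p₀.1 * x = x⁻¹ * p₀.1 := by rw [← e0]; group
      have e1' : p.1 * x⁻¹ = x * p.1 := by
        have := congrArg Inv.inv e1
        rw [mul_inv_rev, mul_inv_rev, inv_inv, inv_inv] at this
        rw [← mul_inv_eq_iff_eq_mul, mul_assoc]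
        exact this
      rw [mul_assoc, e0', ← mul_assoc, e1', mul_assoc]
    · intro p hp p' hp' he
      simp only [Finset.coe_filter, Set.mem_setOf_eq] at hp hp'
      have h1 : p.1 = p'.1 := mul_right_cancel he
      have h2 := hp.2.trans hp'.2.symm
      rw [h1] at h2
      exact Prod.ext h1 (mul_left_cancel h2)
  · rw [Nat.card_eq_fintype_card, Fintype.card_subtype]
    exact mul_comm _ _

theorem real_of_real (S : Setup G q r) (hQ : Real' G q) : Real' G r := by
  by_contra hR
  haveI := Fact.mk S.q_prime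
  haveI := Fact.mk S.r_prime
  obtain ⟨P⟩ : Nonempty (Sylow 2 G) := inferInstance
  obtain ⟨Q⟩ : Nonempty (Sylow q G) := inferInstance
  obtain ⟨R⟩ : Nonempty (Sylow r G) := inferInstance
  obtain ⟨hI, hs⟩ := card_invol S P
  have hqNQ := (sylow_real S hQ Q).1
  have hqc := card_order_le (G := G) Q
  have hrc := card_order_le (G := G) R
  have hqR : q * Nat.card R ≤ Nat.card (normalizer ((R : Subgroup G) : Set G)) := by
    obtain ⟨c, hc⟩ := (IsPGroup.iff_card (p := r)).1 R.isPGroup'
    refine Nat.le_of_dvd Nat.card_pos (Nat.Coprime.mul_dvd_of_dvd_of_dvd ?_ (q_dvd_normalizer S hR R)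
      (Subgroup.card_dvd_of_le le_normalizer))
    rw [hc]
    exact Nat.Coprime.pow_right c ((Nat.coprime_primes S.q_prime S.r_prime).2 S.qr)
  have hsum := card_eq_orders S
  have hg := Nat.le_of_dvd Nat.card_pos (prime_mul_card S P Q R)
  have hpairs := invol_pairs S hR P Q
  set g := Nat.card G
  set s := Nat.card P
  set Qc := Nat.card Q
  set Rc := Nat.card R
  set I := Nat.card {x : G // orderOf x = 2}
  set A := Nat.card {x : G // orderOf x = q}
  set B := Nat.card {x : G // orderOf x = r}
  have hQ1 : 1 < Qc := Finite.one_lt_card_iff_nontrivial.2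
    ((Subgroup.nontrivial_iff_ne_bot _).2 (Q.ne_bot_of_dvd_card S.q_dvd))
  have hR5 : r ≤ Rc := Nat.le_of_dvd Nat.card_pos
    (by simpa using R.pow_dvd_card_of_pow_dvd_card (n := 1) (by simpa using S.r_dvd))
  have hAle : A * (2 * Qc) + g ≤ g * Qc := by
    have h1 := (Nat.mul_le_mul_left A hqNQ).trans hqc
    have h2 : g * (Qc - 1) + g = g * Qc := by
      rw [Nat.mul_sub, mul_one]
      exact Nat.sub_add_cancel (Nat.le_mul_of_pos_right g (by omega))
    omega
  have hBle : B * q ≤ g := by
    have h1 : B * (q * Rc) ≤ g * (Rc - 1) := (Nat.mul_le_mul_left B hqR).trans hrc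
    have h2 : g * (Rc - 1) ≤ g * Rc := Nat.mul_le_mul_left g (Nat.sub_le _ _)
    have hRpos : 0 < Rc := lt_of_lt_of_le S.r_prime.pos hR5
    exact Nat.le_of_mul_le_mul_right (by rw [mul_assoc]; exact h1.trans h2) hRpos
  have hq3 : 3 ≤ q := by
    have := S.q_prime.two_le
    have := S.q_ne
    omega
  have hr3 : 3 ≤ r := by
    have := S.r_prime.two_le
    have := S.r_ne
    omega
  obtain ⟨a, ha⟩ : ∃ a, s = 2 ^ a := (IsPGroup.iff_card (p := 2)).1 P.isPGroup'
  by_cases hbig : 2 * q + 2 * s ≤ s * q
  · have key : g * Qc * (s * q) + g * (s * q) ≤ 2 * Qc * (s * q) + g * Qc * (2 * q + 2 * s) := by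
      have e : g * (2 * Qc) * (s * q) =
          2 * Qc * (s * q) + (I * s) * (2 * Qc * q) + A * (2 * Qc) * (s * q) + (B * q) * (2 * Qc * s) := by
        rw [hsum]; ring
      have h1 := Nat.mul_le_mul_right (s * q) hAle
      have h2 := Nat.mul_le_mul_right (2 * Qc * s) hBle
      rw [hI] at e
      nlinarith
    have h3 := Nat.mul_le_mul_left (g * Qc) hbig
    have hg2 : g * (s * q) ≤ 2 * Qc * (s * q) := by omega
    have hg3 : g ≤ 2 * Qc := Nat.le_of_mul_le_mul_right hg2 (by positivity)
    have h4 : 4 * (Qc * 3) ≤ s * (Qc * Rc) :=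
      Nat.mul_le_mul hs (Nat.mul_le_mul_left Qc (hr3.trans hR5))
    omega
  · have hqs : q = 3 ∧ s = 4 := by
      have h8 : s = 4 ∨ 8 ≤ s := by
        rcases a with _ | _ | _ | a
        · simp at ha; omega
        · simp at ha; omega
        · left; simpa using ha
        · right; rw [ha, pow_succ, pow_succ, pow_succ]
          have := Nat.one_le_two_pow (n := a); omega
      rcases h8 with h8 | h8
      · refine ⟨?_, h8⟩
        subst_vars
        rcases Nat.lt_or_ge q 4 with h | h
        · omega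
        · exfalso
          rw [h8] at hbig
          omega
      · exfalso; nlinarith
    obtain ⟨hq3', hs4⟩ := hqs
    have hr5 : 5 ≤ r := by
      rcases Nat.lt_or_ge r 5 with h | h
      · exfalso
        rcases (show r = 3 ∨ r = 4 by omega) with e | e
        · exact S.qr (hq3'.trans e.symm)
        · have hrp := S.r_prime
          rw [e] at hrp
          norm_num at hrp
      · exact h
    have hp := hpairs hs4
    rw [hs4] at hI hg
    have hIQR : Qc * Rc ≤ I := by omega
    have hA2 : A * (2 * Qc) + 4 * I ≤ 4 * I * Qc := by rw [mul_comm 4 I, hI]; linarith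
    have h5 : Qc * 5 ≤ Qc * Rc := Nat.mul_le_mul_left Qc (hr5.trans hR5)
    have h6 : I * (I - 3) * 2 + 4 * I ≤ I * (4 * Qc) := by nlinarith
    have h7 : I * ((I - 3) * 2 + 4) ≤ I * (4 * Qc) := by linarith
    have h8 := Nat.le_of_mul_le_mul_left h7 (by omega)
    omega

theorem all_real (S : Setup G q r) : Real' G q ∧ Real' G r := by
  rcases exists_real S with h | h
  · exact ⟨h, real_of_real S h⟩
  · exact ⟨real_of_real S.symm h, h⟩

theorem commute_trans (S : Setup G q r) {a b c : G} (hb : b ≠ 1) (hab : Commute a b) (hbc : Commute b c) :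
    Commute a c := by
  obtain ⟨hq, hr⟩ := all_real S
  rcases S.orders b hb with e | e | e
  · exact centralizer_comm S e hab hbc.symm
  · obtain ⟨-, -, -, h⟩ := centralizer_comm_of_real S hq e
    exact h a c hab hbc.symm
  · obtain ⟨-, -, -, h⟩ := centralizer_comm_of_real S.symm hr e
    exact h a c hab hbc.symm

end CfsgLib.FGS73.FourOrbits
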