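import Mathlib
import Cfsg.Agent.Lib.PGroup.Basic

set_option autoImplicit false

namespace CfsgLib.FGS73

variable {G : Type*} [Group G] [Finite G]

theorem frattiniQuot_comm {p : ℕ} [Fact p.Prime] (hG : IsPGroup p G) (a b : G ⧸ frattini G) :
    a * b = b * a := by
  induction a using QuotientGroup.induction_on with
  | H a =>
    induction b using QuotientGroup.induction_on with
    | H b =>
      rw [← QuotientGroup.mk_mul, ← QuotientGroup.mk_mul, eq_comm, QuotientGroup.eq]
      apply CfsgLib.PGroup.commutator_le_frattini hG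
      rw [commutator_def]
      have h := Subgroup.commutator_mem_commutator (Subgroup.mem_top (a⁻¹ : G)) (Subgroup.mem_top (b⁻¹ : G))
      simpa [commutatorElement_def, mul_assoc] using h

theorem frattiniQuot_sq (hG : IsPGroup 2 G) (a : G ⧸ frattini G) : a ^ 2 = 1 := by
  haveI : Fact (Nat.Prime 2) := ⟨Nat.prime_two⟩
  induction a using QuotientGroup.induction_on with
  | H a =>
    rw [← QuotientGroup.mk_pow, QuotientGroup.eq_one_iff]
    exact CfsgLib.PGroup.pow_mem_frattini hG a

/-- There are as many homomorphisms `G ⧸ Φ(G) → ℂˣ` as elements of `G ⧸ Φ(G)`. -/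
theorem card_frattiniDual {p : ℕ} [Fact p.Prime] (hG : IsPGroup p G) :
    Nat.card (G ⧸ frattini G →* ℂˣ) = Nat.card (G ⧸ frattini G) := by
  letI : CommGroup (G ⧸ frattini G) :=
    { (inferInstance : Group (G ⧸ frattini G)) with mul_comm := frattiniQuot_comm hG }
  haveI : NeZero (Monoid.exponent (G ⧸ frattini G) : ℂ) :=
    ⟨Nat.cast_ne_zero.2 Monoid.exponent_ne_zero_of_finite⟩
  exact CommGroup.card_monoidHom_of_hasEnoughRootsOfUnity (G ⧸ frattini G) ℂ

theorem frattiniDual_val (hG : IsPGroup 2 G) (f : G ⧸ frattini G →* ℂˣ) (g : G ⧸ frattini G) :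
    ((f g : ℂˣ) : ℂ) * (f g : ℂˣ) = 1 := by
  rw [← Units.val_mul, ← map_mul, ← pow_two, frattiniQuot_sq hG g, map_one, Units.val_one]

end CfsgLib.FGS73
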