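import Mathlib

/-!
Involutions of a group with the commutator relations of the positive unipotent group of `G₂` in
characteristic two, up to conjugation.
-/

set_option autoImplicit false

namespace CfsgLib.FGS73.G2Invol

universe u v

variable {F : Type u} [Field F] [CharP F 2] {G : Type v} [Group G]

/-- The relations between the root elements `A, B, C, D, E, H` (roots `6, …, 11`) and `M` (root `4`). -/
structure Rel (K : Subgroup G) (A B C D E H M : F → G) : Prop where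
  addA : ∀ s t, A s * A t = A (s + t)
  addB : ∀ s t, B s * B t = B (s + t)
  addC : ∀ s t, C s * C t = C (s + t)
  addD : ∀ s t, D s * D t = D (s + t)
  addE : ∀ s t, E s * E t = E (s + t)
  addH : ∀ s t, H s * H t = H (s + t)
  addM : ∀ s t, M s * M t = M (s + t)
  zero : A 0 = 1 ∧ B 0 = 1 ∧ C 0 = 1 ∧ D 0 = 1 ∧ E 0 = 1 ∧ H 0 = 1 ∧ M 0 = 1
  BA : ∀ b a, B b * A a = A a * (B b * (C (a * b) * (D (a * b ^ 2) * E (a * b ^ 3))))
  CA : ∀ c a, C c * A a = A a * C c
  DA : ∀ d a, D d * A a = A a * D d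
  EA : ∀ e a, E e * A a = A a * (E e * H (a * e))
  HA : ∀ f a, H f * A a = A a * H f
  CB : ∀ c b, C c * B b = B b * (C c * (E (b ^ 2 * c) * H (b * c ^ 2)))
  DB : ∀ d b, D d * B b = B b * (D d * E (b * d))
  EB : ∀ e b, E e * B b = B b * E e
  HB : ∀ f b, H f * B b = B b * H f
  DC : ∀ d c, D d * C c = C c * (D d * H (c * d))
  EC : ∀ e c, E e * C c = C c * E e
  HC : ∀ f c, H f * C c = C c * H f
  ED : ∀ e d, E e * D d = D d * E e
  HD : ∀ f d, H f * D d = D d * H f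
  HE : ∀ f e, H f * E e = E e * H f
  MA : ∀ t a, M t * A a * (M t)⁻¹ = A a
  MD : ∀ t d, M t * D d * (M t)⁻¹ = D d * (A (t ^ 2 * d) * H (t * d ^ 2))
  inj : ∀ a b c d e f a' b' c' d' e' f', A a * (B b * (C c * (D d * (E e * H f)))) =
    A a' * (B b' * (C c' * (D d' * (E e' * H f')))) → a = a' ∧ b = b' ∧ c = c' ∧ d = d' ∧ e = e' ∧ f = f'
  memA : ∀ t, A t ∈ K
  memB : ∀ t, B t ∈ K
  memC : ∀ t, C t ∈ K
  memD : ∀ t, D t ∈ K
  memE : ∀ t, E t ∈ K
  memH : ∀ t, H t ∈ K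
  memM : ∀ t, M t ∈ K
  weylA : ∃ n ∈ K, (∀ t, n * A t * n⁻¹ = E t) ∧ ∀ t, n * C t * n⁻¹ = D t
  weylB : ∃ n ∈ K, (∀ t, n * B t * n⁻¹ = C t) ∧ (∀ t, n * C t * n⁻¹ = B t) ∧
    (∀ t, n * E t * n⁻¹ = H t) ∧ ∀ t, n * H t * n⁻¹ = E t
  scaleD : ∀ t, t ≠ 0 → ∃ h ∈ K, h * D t * h⁻¹ = D 1
  scaleH : ∀ t, t ≠ 0 → ∃ h ∈ K, h * H t * h⁻¹ = H 1
  sqrt : ∀ x : F, ∃ t, t ^ 2 = x

/-- conjugate under `K` -/
def Cj (K : Subgroup G) (g g' : G) : Prop := ∃ h ∈ K, h * g * h⁻¹ = g'

theorem Cj.trans {K : Subgroup G} {g g' g'' : G} (h₁ : Cj K g g') (h₂ : Cj K g' g'') : Cj K g g'' := by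
  obtain ⟨h, hh, rfl⟩ := h₁
  obtain ⟨k, hk, rfl⟩ := h₂
  exact ⟨k * h, mul_mem hk hh, by group⟩

variable {K : Subgroup G} {A B C D E H M : F → G} (R : Rel K A B C D E H M)
include R

/-- the normal form -/
def nf (_R : Rel K A B C D E H M) (a b c d e f : F) : G := A a * (B b * (C c * (D d * (E e * H f))))

theorem nf_mul (a b c d e f a' b' c' d' e' f' : F) :
    nf R a b c d e f * nf R a' b' c' d' e' f' = nf R (a + a') (b + b') (c + a' * b + c') (d + a' * b ^ 2 + d')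
      (e + a' * b ^ 3 + b' ^ 2 * (c + a' * b) + b' * (d + a' * b ^ 2) + e')
      (f + a' * e + a' * b ^ 2 * c + b' * (c + a' * b) ^ 2 + c' * (d + a' * b ^ 2) + f') := by
  have AA : ∀ s t x, A s * (A t * x) = A (s + t) * x := fun s t x => by rw [← mul_assoc, R.addA]
  have BB : ∀ s t x, B s * (B t * x) = B (s + t) * x := fun s t x => by rw [← mul_assoc, R.addB]
  have CC : ∀ s t x, C s * (C t * x) = C (s + t) * x := fun s t x => by rw [← mul_assoc, R.addC]
  have DD : ∀ s t x, D s * (D t * x) = D (s + t) * x := fun s t x => by rw [← mul_assoc, R.addD]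
  have EE : ∀ s t x, E s * (E t * x) = E (s + t) * x := fun s t x => by rw [← mul_assoc, R.addE]
  have HH : ∀ s t x, H s * (H t * x) = H (s + t) * x := fun s t x => by rw [← mul_assoc, R.addH]
  have BA : ∀ b a x, B b * (A a * x) = A a * (B b * (C (a * b) * (D (a * b ^ 2) * (E (a * b ^ 3) * x)))) :=
    fun b a x => by rw [← mul_assoc, R.BA]; simp only [mul_assoc]
  have CA : ∀ c a x, C c * (A a * x) = A a * (C c * x) := fun c a x => by rw [← mul_assoc, R.CA, mul_assoc]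
  have DA : ∀ c a x, D c * (A a * x) = A a * (D c * x) := fun c a x => by rw [← mul_assoc, R.DA, mul_assoc]
  have HA : ∀ c a x, H c * (A a * x) = A a * (H c * x) := fun c a x => by rw [← mul_assoc, R.HA, mul_assoc]
  have EA : ∀ e a x, E e * (A a * x) = A a * (E e * (H (a * e) * x)) :=
    fun e a x => by rw [← mul_assoc, R.EA]; simp only [mul_assoc]
  have CB : ∀ c b x, C c * (B b * x) = B b * (C c * (E (b ^ 2 * c) * (H (b * c ^ 2) * x))) :=
    fun c b x => by rw [← mul_assoc, R.CB]; simp only [mul_assoc]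
  have DB : ∀ d b x, D d * (B b * x) = B b * (D d * (E (b * d) * x)) :=
    fun d b x => by rw [← mul_assoc, R.DB]; simp only [mul_assoc]
  have EB : ∀ c a x, E c * (B a * x) = B a * (E c * x) := fun c a x => by rw [← mul_assoc, R.EB, mul_assoc]
  have HB : ∀ c a x, H c * (B a * x) = B a * (H c * x) := fun c a x => by rw [← mul_assoc, R.HB, mul_assoc]
  have DC : ∀ d c x, D d * (C c * x) = C c * (D d * (H (c * d) * x)) :=
    fun d c x => by rw [← mul_assoc, R.DC]; simp only [mul_assoc]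
  have EC : ∀ c a x, E c * (C a * x) = C a * (E c * x) := fun c a x => by rw [← mul_assoc, R.EC, mul_assoc]
  have HC : ∀ c a x, H c * (C a * x) = C a * (H c * x) := fun c a x => by rw [← mul_assoc, R.HC, mul_assoc]
  have ED : ∀ c a x, E c * (D a * x) = D a * (E c * x) := fun c a x => by rw [← mul_assoc, R.ED, mul_assoc]
  have HD : ∀ c a x, H c * (D a * x) = D a * (H c * x) := fun c a x => by rw [← mul_assoc, R.HD, mul_assoc]
  have HE : ∀ c a x, H c * (E a * x) = E a * (H c * x) := fun c a x => by rw [← mul_assoc, R.HE, mul_assoc]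
  simp only [nf, mul_assoc, AA, BB, CC, DD, EE, HH, BA, CA, DA, HA, EA, CB, DB, EB, HB, DC, EC, HC, ED, HD, HE,
    R.addH, R.HE]
  ring_nf
  simp [CharTwo.two_eq_zero]

theorem nf_zero : nf R 0 0 0 0 0 0 = 1 := by
  obtain ⟨h1, h2, h3, h4, h5, h6, -⟩ := R.zero
  simp [nf, h1, h2, h3, h4, h5, h6]

theorem nf_inv {a b c d e f : F} (h : nf R a b c d e f * nf R a b c d e f = 1) :
    a * b = 0 ∧ (a = 0 → b * (d + b * c) = 0 ∧ c * (d + b * c) = 0) ∧ (b = 0 → a * e + c * d = 0) := by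
  rw [nf_mul R, ← nf_zero R] at h
  obtain ⟨-, -, h3, -, h5, h6⟩ := R.inj _ _ _ _ _ _ _ _ _ _ _ _ h
  refine ⟨?_, ?_, ?_⟩
  · linear_combination h3 - CharTwo.add_self_eq_zero c
  · rintro rfl
    exact ⟨by linear_combination h5 - CharTwo.add_self_eq_zero e,
      by linear_combination h6 - CharTwo.add_self_eq_zero f⟩
  · rintro rfl
    linear_combination h6 - CharTwo.add_self_eq_zero f

theorem sq_eq_one {X : F → G} (add : ∀ s t, X s * X t = X (s + t)) (zero : X 0 = 1) (t : F) :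
    (X t)⁻¹ = X t := by
  rw [inv_eq_iff_mul_eq_one, add, CharTwo.add_self_eq_zero, zero]

theorem conj_B (t a b c d e f : F) :
    ∃ e' f', Cj K (nf R a b c d e f) (nf R a b (c + a * t) (d + a * t ^ 2) e' f') := by
  obtain ⟨h1, h2, h3, h4, h5, h6, -⟩ := R.zero
  have hX : B t = nf R 0 t 0 0 0 0 := by simp [nf, h1, h3, h4, h5, h6]
  refine ⟨a * t ^ 3 + b ^ 2 * (a * t) + b * (a * t ^ 2) + e + t ^ 2 * (a * t + c) + t * (a * t ^ 2 + d),
    b * (a * t) ^ 2 + c * (a * t ^ 2) + f + t * (a * t + c) ^ 2, B t, R.memB t, ?_⟩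
  rw [sq_eq_one R R.addB h2, hX, nf_mul R, nf_mul R]
  simp only [zero_mul, mul_zero, zero_add, add_zero, ne_eq, OfNat.ofNat_ne_zero, not_false_eq_true, zero_pow]
  rw [show t + b + t = b by linear_combination CharTwo.add_self_eq_zero t,
    show a * t + c = c + a * t by ring, show a * t ^ 2 + d = d + a * t ^ 2 by ring]

theorem conj_B_top (t d e f : F) : Cj K (nf R 0 0 0 d e f) (nf R 0 0 0 d (e + t * d) f) := by
  obtain ⟨h1, h2, h3, h4, h5, h6, -⟩ := R.zero
  have hX : B t = nf R 0 t 0 0 0 0 := by simp [nf, h1, h3, h4, h5, h6]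
  refine ⟨B t, R.memB t, ?_⟩
  rw [sq_eq_one R R.addB h2, hX, nf_mul R, nf_mul R]
  simp only [zero_mul, mul_zero, zero_add, add_zero, ne_eq, OfNat.ofNat_ne_zero, not_false_eq_true, zero_pow,
    CharTwo.add_self_eq_zero]

theorem conj_C_top (t d e f : F) : Cj K (nf R 0 0 0 d e f) (nf R 0 0 0 d e (f + t * d)) := by
  obtain ⟨h1, h2, h3, h4, h5, h6, -⟩ := R.zero
  have hX : C t = nf R 0 0 t 0 0 0 := by simp [nf, h1, h2, h4, h5, h6]
  refine ⟨C t, R.memC t, ?_⟩
  rw [sq_eq_one R R.addC h3, hX, nf_mul R, nf_mul R]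
  simp only [zero_mul, mul_zero, zero_add, add_zero, ne_eq, OfNat.ofNat_ne_zero, not_false_eq_true, zero_pow,
    CharTwo.add_self_eq_zero]

theorem case_D {d : F} (hd : d ≠ 0) (e f : F) : Cj K (nf R 0 0 0 d e f) (D 1) := by
  obtain ⟨h1, h2, h3, h4, h5, h6, -⟩ := R.zero
  refine (conj_B_top R (e / d) d e f).trans ?_
  rw [show e + e / d * d = 0 by rw [div_mul_cancel₀ e hd]; exact CharTwo.add_self_eq_zero e]
  refine (conj_C_top R (f / d) d 0 f).trans ?_
  rw [show f + f / d * d = 0 by rw [div_mul_cancel₀ f hd]; exact CharTwo.add_self_eq_zero f]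
  obtain ⟨h, hh, he⟩ := R.scaleD d hd
  exact ⟨h, hh, by simp [nf, h1, h2, h3, h5, h6, he]⟩

theorem case_H {e f : F} (hne : e ≠ 0 ∨ f ≠ 0) : Cj K (nf R 0 0 0 0 e f) (H 1) := by
  obtain ⟨h1, h2, h3, h4, h5, h6, -⟩ := R.zero
  by_cases he : e = 0
  · obtain ⟨h, hh, hH⟩ := R.scaleH f (hne.resolve_left (not_not.2 he))
    exact ⟨h, hh, by simp [nf, he, h1, h2, h3, h4, h5, hH]⟩
  have hX : A (f / e) = nf R (f / e) 0 0 0 0 0 := by simp [nf, h2, h3, h4, h5, h6]
  obtain ⟨n, hn, -, -, hnE, -⟩ := R.weylB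
  have step : Cj K (nf R 0 0 0 0 e f) (E e) := by
    refine ⟨A (f / e), R.memA _, ?_⟩
    rw [sq_eq_one R R.addA h1, hX, nf_mul R, nf_mul R]
    simp [nf, h1, h2, h3, h4, h6, CharTwo.add_self_eq_zero, div_mul_cancel₀ f he]
  obtain ⟨h, hh, hH⟩ := R.scaleH e he
  exact step.trans ((show Cj K (E e) (H e) from ⟨n, hn, hnE e⟩).trans ⟨h, hh, hH⟩)

theorem case_B {b : F} (hb : b ≠ 0) (e f : F) : Cj K (nf R 0 b 0 0 e f) (D 1) := by
  obtain ⟨h1, h2, h3, h4, h5, h6, -⟩ := R.zero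
  obtain ⟨s, hs⟩ := R.sqrt (f / b)
  have hX : C s = nf R 0 0 s 0 0 0 := by simp [nf, h1, h2, h4, h5, h6]
  have h1' : Cj K (nf R 0 b 0 0 e f) (nf R 0 b 0 0 (e + b ^ 2 * s) 0) := by
    refine ⟨C s, R.memC s, ?_⟩
    rw [sq_eq_one R R.addC h3, hX, nf_mul R, nf_mul R]
    simp only [zero_mul, mul_zero, zero_add, add_zero, ne_eq, OfNat.ofNat_ne_zero, not_false_eq_true, zero_pow,
      CharTwo.add_self_eq_zero, hs]
    rw [mul_div_cancel₀ f hb, CharTwo.add_self_eq_zero, add_comm (b ^ 2 * s) e]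
  have hY : D ((e + b ^ 2 * s) / b) = nf R 0 0 0 ((e + b ^ 2 * s) / b) 0 0 := by simp [nf, h1, h2, h3, h5, h6]
  have h2' : Cj K (nf R 0 b 0 0 (e + b ^ 2 * s) 0) (B b) := by
    refine ⟨D ((e + b ^ 2 * s) / b), R.memD _, ?_⟩
    rw [sq_eq_one R R.addD h4, hY, nf_mul R, nf_mul R]
    simp [nf, h1, h3, h4, h5, h6, CharTwo.add_self_eq_zero, mul_div_cancel₀ _ hb]
  obtain ⟨n, hn, hnB, -⟩ := R.weylB
  obtain ⟨m, hm, -, hmC⟩ := R.weylA
  obtain ⟨h, hh, hD⟩ := R.scaleD b hb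
  exact h1'.trans (h2'.trans ((show Cj K (B b) (C b) from ⟨n, hn, hnB b⟩).trans
    ((show Cj K (C b) (D b) from ⟨m, hm, hmC b⟩).trans ⟨h, hh, hD⟩)))

/-- every involution of the unipotent group is conjugate to `H 1` or to `D 1` -/
theorem classify {a b c d e f : F} (h : nf R a b c d e f * nf R a b c d e f = 1)
    (hne : nf R a b c d e f ≠ 1) :
    Cj K (nf R a b c d e f) (H 1) ∨ Cj K (nf R a b c d e f) (D 1) := by
  obtain ⟨h1, h2, h3, h4, h5, h6, -⟩ := R.zero
  obtain ⟨hab, hA, hB⟩ := nf_inv R h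
  by_cases ha : a = 0
  · subst ha
    obtain ⟨he, hf⟩ := hA rfl
    by_cases hb : b = 0
    · subst hb
      by_cases hc : c = 0
      · subst hc
        by_cases hd : d = 0
        · subst hd
          refine Or.inl (case_H R ?_)
          by_contra hh
          push Not at hh
          exact hne (by rw [hh.1, hh.2, nf_zero R])
        · exact Or.inr (case_D R hd e f)
      · have hd : d = 0 := by simpa [hc] using hf
        subst hd
        obtain ⟨n, hn, -, hnC, hnE, hnH⟩ := R.weylB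
        refine Or.inr (Cj.trans ⟨n, hn, ?_⟩ (case_B R hc f e))
        calc n * nf R 0 0 c 0 e f * n⁻¹ = (n * C c * n⁻¹) * ((n * E e * n⁻¹) * (n * H f * n⁻¹)) := by
              simp [nf, h1, h2, h4, mul_assoc]
          _ = B c * (H e * E f) := by rw [hnC, hnE, hnH]
          _ = nf R 0 c 0 0 f e := by rw [R.HE]; simp [nf, h1, h3, h4]
    · have hd : d + b * c = 0 := (mul_eq_zero.1 he).resolve_left hb
      have hX : A (c / b) = nf R (c / b) 0 0 0 0 0 := by simp [nf, h2, h3, h4, h5, h6]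
      have hstep : ∃ e' f', Cj K (nf R 0 b c d e f) (nf R 0 b 0 0 e' f') := by
        refine ⟨e + c / b * b ^ 3, f + c / b * e + c / b * b ^ 2 * c, A (c / b), R.memA _, ?_⟩
        rw [sq_eq_one R R.addA h1, hX, nf_mul R, nf_mul R]
        unfold nf
        simp only [zero_mul, mul_zero, zero_add, add_zero, ne_eq, OfNat.ofNat_ne_zero, not_false_eq_true, zero_pow,
          CharTwo.add_self_eq_zero]
        rw [div_mul_cancel₀ c hb, CharTwo.add_self_eq_zero c,
          show d + c / b * b ^ 2 = 0 by rw [show c / b * b ^ 2 = c / b * b * b by ring, div_mul_cancel₀ c hb, mul_comm c b, hd]]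
      obtain ⟨e', f', hs⟩ := hstep
      exact Or.inr (hs.trans (case_B R hb e' f'))
  · have hb : b = 0 := (mul_eq_zero.1 hab).resolve_left ha
    subst hb
    obtain ⟨e', f', hs⟩ := conj_B R (c / a) a 0 c d e f
    rw [show c + a * (c / a) = 0 by rw [mul_div_cancel₀ c ha]; exact CharTwo.add_self_eq_zero c] at hs
    have he' : e' = 0 := by
      obtain ⟨g, -, hg⟩ := hs
      have hinv : nf R a 0 0 (d + a * (c / a) ^ 2) e' f' * nf R a 0 0 (d + a * (c / a) ^ 2) e' f' = 1 := by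
        rw [← hg, conj_mul, h, mul_one, mul_inv_cancel]
      have := (nf_inv R hinv).2.2 rfl
      simpa [ha] using this
    subst he'
    generalize d + a * (c / a) ^ 2 = d' at hs
    have hX : E (f' / a) = nf R 0 0 0 0 (f' / a) 0 := by simp [nf, h1, h2, h3, h4, h6]
    have h1' : Cj K (nf R a 0 0 d' 0 f') (A a * D d') := by
      refine ⟨E (f' / a), R.memE _, ?_⟩
      rw [sq_eq_one R R.addE h5, hX, nf_mul R, nf_mul R]
      simp [nf, h2, h3, h5, h6, CharTwo.add_self_eq_zero, mul_div_cancel₀ f' ha]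
    replace hs := hs.trans h1'
    by_cases hd : d' = 0
    · subst hd
      obtain ⟨m, hm, hmA, -⟩ := R.weylA
      obtain ⟨n, hn, -, -, hnE, -⟩ := R.weylB
      obtain ⟨k, hk, hH⟩ := R.scaleH a ha
      rw [h4, mul_one] at hs
      exact Or.inl (hs.trans ((show Cj K (A a) (E a) from ⟨m, hm, hmA a⟩).trans
        ((show Cj K (E a) (H a) from ⟨n, hn, hnE a⟩).trans ⟨k, hk, hH⟩)))
    · obtain ⟨t, ht⟩ := R.sqrt (a / d')
      refine Or.inr (hs.trans (Cj.trans ⟨M t, R.memM t, ?_⟩ (case_D R hd 0 (t * d' ^ 2))))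
      calc M t * (A a * D d') * (M t)⁻¹ = (M t * A a * (M t)⁻¹) * (M t * D d' * (M t)⁻¹) := by group
        _ = A a * (D d' * (A (t ^ 2 * d') * H (t * d' ^ 2))) := by rw [R.MA, R.MD]
        _ = nf R 0 0 0 d' 0 (t * d' ^ 2) := by
          rw [← mul_assoc (D d'), R.DA, ht, div_mul_cancel₀ a hd, mul_assoc, ← mul_assoc (A a), R.addA,
            CharTwo.add_self_eq_zero]
          simp [nf, h1, h2, h3, h5]

/-- the two representatives are separated by right multiplication by long root elements -/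
theorem not_twist (a b c d e f : F) :
    (∀ t, D 1 * nf R a b c d e f ≠ nf R a b c d e f * A t) ∧
    (∀ t, D 1 * nf R a b c d e f ≠ nf R a b c d e f * E t) ∧
    (∀ t, D 1 * nf R a b c d e f ≠ nf R a b c d e f * H t) := by
  obtain ⟨h1, h2, h3, h4, h5, h6, -⟩ := R.zero
  have hD : D 1 = nf R 0 0 0 1 0 0 := by simp [nf, h1, h2, h3, h5, h6]
  have hA : ∀ t, A t = nf R t 0 0 0 0 0 := fun t => by simp [nf, h2, h3, h4, h5, h6]
  have hE : ∀ t, E t = nf R 0 0 0 0 t 0 := fun t => by simp [nf, h1, h2, h3, h4, h6]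
  have hH : ∀ t, H t = nf R 0 0 0 0 0 t := fun t => by simp [nf, h1, h2, h3, h4, h5]
  refine ⟨fun t ht => ?_, fun t ht => ?_, fun t ht => ?_⟩
  · rw [hD, hA, nf_mul R, nf_mul R] at ht
    obtain ⟨e1, -, -, e4, -⟩ := R.inj _ _ _ _ _ _ _ _ _ _ _ _ ht
    have ht0 : t = 0 := by linear_combination -e1
    subst ht0
    simp at e4
  · rw [hD, hE, nf_mul R, nf_mul R] at ht
    obtain ⟨-, -, -, e4, -⟩ := R.inj _ _ _ _ _ _ _ _ _ _ _ _ ht
    simp at e4
  · rw [hD, hH, nf_mul R, nf_mul R] at ht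
    obtain ⟨-, -, -, e4, -⟩ := R.inj _ _ _ _ _ _ _ _ _ _ _ _ ht
    simp at e4

end CfsgLib.FGS73.G2Invol
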