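import Cfsg.Agent.Lib.ChevCent.MixedG2
import Cfsg.Agent.Lib.ChevCent.FieldInv
import Cfsg.Agent.Lib.FGS73.G2InvolAbstract

/-!
The two classes of involutions of `G₂(2^n)`.
-/

set_option autoImplicit false
set_option linter.unusedSectionVars false
set_option maxHeartbeats 800000

namespace CfsgLib.FGS73.G2Invol

open Cfsg.Lie CfsgLib.Chev CfsgLib.ChevCent

variable {T : Tabs} {F : Type*} [Field F] [Fintype F] [CharP F 2]
variable (hc : Checked chevG2 T) (hcomm : CommOne chevG2 T)
include hc hcomm

local notation "X" => elX chevG2 F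

theorem roots_six : rootsFrom chevG2 (fun r => chevG2.nroots / 2 ≤ r) 6 = [6, 7, 8, 9, 10, 11] := by
  have hn : chevG2.nroots = 12 := rfl
  rw [rootsFrom_eq_cons (by omega) (by omega), rootsFrom_eq_cons (by omega) (by omega),
    rootsFrom_eq_cons (by omega) (by omega), rootsFrom_eq_cons (by omega) (by omega),
    rootsFrom_eq_cons (by omega) (by omega), rootsFrom_eq_cons (by omega) (by omega), rootsFrom_ge (by omega)]

theorem cm {r s : ℕ} (hr : r < 12) (hs : s < 12) (hne : s ≠ r) (hneg : s ≠ chevG2.neg r)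
    {L : List (ℕ × ℤ × ℕ × ℕ)} (hL : chevG2.commTerms r s = L) (t u : F) :
    X s u * X r t = X r t * (X s u * (L.map fun c => X c.1 ((c.2.1 : F) * t ^ c.2.2.1 * u ^ c.2.2.2)).prod) := by
  rw [elX_comm hc hcomm hr hs hne hneg, wordGL, ChevalleyDatum.commWord, hL, mul_assoc]
  simp [Function.comp_def, CharTwo.neg_eq]

theorem conj_root (i : Fin chevG2.rank) {s s' : ℕ} (hs : s < 12) (h : chevG2.reflectRoot i.val s = s') (t : F) :
    elN chevG2 F (chevG2.simple i.val) 1 * X s t * (elN chevG2 F (chevG2.simple i.val) 1)⁻¹ = X s' t := by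
  rw [nOne_conj_elX hc i hs, ← reflectRoot_eq' hc i hs, h]
  rcases eta_cast hc (F := F) i hs with e | e <;> simp [e, CharTwo.neg_eq]

theorem scale_root (i : Fin chevG2.rank) {r : ℕ} (hr : r < 12) (h : chevG2.cartan i.val r = 1) (t : F) (ht : t ≠ 0) :
    ∃ g ∈ chevG2.group F, g * X r t * g⁻¹ = X r 1 := by
  refine ⟨elH chevG2 F (chevG2.simple i.val) ((Units.mk0 t ht)⁻¹ : Fˣ),
    mul_mem (elN_mem_group hc (simple_lt hc i.2) _) (elN_mem_group hc (simple_lt hc i.2) _), ?_⟩
  rw [elH_eq_torus hc (simple_lt hc i.2), torus_conj_elX hc _ hr, chi_corChar_simple hc i hr, h]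
  simp [ht]

theorem rel : Rel (chevG2.group F) (X 6) (X 7) (X 8) (X 9) (X 10) (X 11) (X 4) := by
  have h3 : (3 : F) = 1 := by
    rw [show (3 : F) = 2 + 1 by norm_num, CharTwo.two_eq_zero, zero_add]
  have hz : ∀ r, r < 12 → X r (0 : F) = 1 := fun r hr => elX_zero hc F hr
  have plain : ∀ r s, r < 12 → s < 12 → s ≠ r → s ≠ chevG2.neg r → chevG2.commTerms r s = [] →
      ∀ u t : F, X s u * X r t = X r t * X s u := by
    intro r s hr hs hne hneg hL u t
    simpa using cm hc hcomm hr hs hne hneg hL t u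
  constructor
  · exact fun s t => elX_add hc F (by decide) s t
  · exact fun s t => elX_add hc F (by decide) s t
  · exact fun s t => elX_add hc F (by decide) s t
  · exact fun s t => elX_add hc F (by decide) s t
  · exact fun s t => elX_add hc F (by decide) s t
  · exact fun s t => elX_add hc F (by decide) s t
  · exact fun s t => elX_add hc F (by decide) s t
  · exact ⟨hz 6 (by omega), hz 7 (by omega), hz 8 (by omega), hz 9 (by omega), hz 10 (by omega),
      hz 11 (by omega), hz 4 (by omega)⟩
  · intro b a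
    rw [cm hc hcomm (L := [(8, 1, 1, 1), (9, 1, 1, 2), (10, -1, 1, 3), (11, -2, 2, 3)]) (by omega) (by omega)
      (by omega) (by decide +kernel) (by decide +kernel)]
    simp [CharTwo.neg_eq, CharTwo.two_eq_zero, hz]
  · exact fun c a => plain 6 8 (by omega) (by omega) (by omega) (by decide +kernel) (by decide +kernel) c a
  · exact fun c a => plain 6 9 (by omega) (by omega) (by omega) (by decide +kernel) (by decide +kernel) c a
  · intro e a
    rw [cm hc hcomm (L := [(11, 1, 1, 1)]) (by omega) (by omega) (by omega) (by decide +kernel) (by decide +kernel)]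
    simp
  · exact fun c a => plain 6 11 (by omega) (by omega) (by omega) (by decide +kernel) (by decide +kernel) c a
  · intro c b
    rw [cm hc hcomm (L := [(9, -2, 1, 1), (10, -3, 2, 1), (11, 3, 1, 2)]) (by omega) (by omega)
      (by omega) (by decide +kernel) (by decide +kernel)]
    simp [CharTwo.neg_eq, CharTwo.two_eq_zero, hz, h3]
  · intro d b
    rw [cm hc hcomm (L := [(10, 3, 1, 1)]) (by omega) (by omega) (by omega) (by decide +kernel) (by decide +kernel)]
    simp [h3]
  · exact fun c a => plain 7 10 (by omega) (by omega) (by omega) (by decide +kernel) (by decide +kernel) c a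
  · exact fun c a => plain 7 11 (by omega) (by omega) (by omega) (by decide +kernel) (by decide +kernel) c a
  · intro d c
    rw [cm hc hcomm (L := [(11, 3, 1, 1)]) (by omega) (by omega) (by omega) (by decide +kernel) (by decide +kernel)]
    simp [h3]
  · exact fun c a => plain 8 10 (by omega) (by omega) (by omega) (by decide +kernel) (by decide +kernel) c a
  · exact fun c a => plain 8 11 (by omega) (by omega) (by omega) (by decide +kernel) (by decide +kernel) c a
  · exact fun c a => plain 9 10 (by omega) (by omega) (by omega) (by decide +kernel) (by decide +kernel) c a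
  · exact fun c a => plain 9 11 (by omega) (by omega) (by omega) (by decide +kernel) (by decide +kernel) c a
  · exact fun c a => plain 10 11 (by omega) (by omega) (by omega) (by decide +kernel) (by decide +kernel) c a
  · intro t a
    rw [← plain 4 6 (by omega) (by omega) (by omega) (by decide +kernel) (by decide +kernel) a t, mul_inv_cancel_right]
  · intro t d
    rw [elX_conj_elX hc hcomm (show 4 < chevG2.nroots by decide) (show 9 < chevG2.nroots by decide) (by omega)
      (by decide +kernel), wordGL, ChevalleyDatum.commWord,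
      show chevG2.commTerms 4 9 = [(8, -2, 1, 1), (6, 3, 2, 1), (11, -3, 1, 2)] by decide +kernel]
    simp [CharTwo.neg_eq, CharTwo.two_eq_zero, hz, h3]
  · intro a b c d e f a' b' c' d' e' f' h
    set g : F → F → F → F → F → F → ℕ → F := fun a b c d e f r =>
      if r = 6 then a else if r = 7 then b else if r = 8 then c else if r = 9 then d else if r = 10 then e else f
    have key := uProd_inj hc (P := fun r => chevG2.nroots / 2 ≤ r) (fun _ _ h => h) 6
      (t := g a b c d e f) (t' := g a' b' c' d' e' f') (by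
        rw [roots_six hc hcomm]
        simpa [uProd, g, mul_assoc] using h)
    rw [roots_six hc hcomm] at key
    simpa [g] using key
  · exact fun t => elX_mem_group hc (by decide) t
  · exact fun t => elX_mem_group hc (by decide) t
  · exact fun t => elX_mem_group hc (by decide) t
  · exact fun t => elX_mem_group hc (by decide) t
  · exact fun t => elX_mem_group hc (by decide) t
  · exact fun t => elX_mem_group hc (by decide) t
  · exact fun t => elX_mem_group hc (by decide) t
  · exact ⟨_, elN_mem_group hc (simple_lt hc (show (0 : ℕ) < chevG2.rank by decide)) 1,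
      conj_root hc hcomm ⟨0, by decide⟩ (by omega) (by decide +kernel),
      conj_root hc hcomm ⟨0, by decide⟩ (by omega) (by decide +kernel)⟩
  · exact ⟨_, elN_mem_group hc (simple_lt hc (show (1 : ℕ) < chevG2.rank by decide)) 1,
      conj_root hc hcomm ⟨1, by decide⟩ (by omega) (by decide +kernel),
      conj_root hc hcomm ⟨1, by decide⟩ (by omega) (by decide +kernel),
      conj_root hc hcomm ⟨1, by decide⟩ (by omega) (by decide +kernel),
      conj_root hc hcomm ⟨1, by decide⟩ (by omega) (by decide +kernel)⟩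
  · exact scale_root hc hcomm ⟨0, by decide⟩ (by omega) (by decide +kernel)
  · exact scale_root hc hcomm ⟨1, by decide⟩ (by omega) (by decide +kernel)
  · intro x
    obtain ⟨t, ht⟩ := FiniteField.isSquare_of_char_two (ringChar.eq F 2) x
    exact ⟨t, by rw [ht, sq]⟩

theorem exists_nf {u : GL chevG2.Idx F} (hu : u ∈ uGen chevG2 F (fun r => chevG2.nroots / 2 ≤ r)) :
    ∃ a b c d e f, u = nf (rel hc hcomm) a b c d e f := by
  obtain ⟨t, rfl⟩ := uGen_normal_form hc hcomm (closedPos_pos hc) 6 (g := u)
    (uGen_mono (fun r _ h => ⟨h, h⟩) hu)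
  exact ⟨t 6, t 7, t 8, t 9, t 10, t 11, by
    rw [roots_six hc hcomm]; simp [uProd, nf]⟩

theorem classes {g : GL chevG2.Idx F} (hg : g ∈ chevG2.group F) (h2 : orderOf g = 2) :
    Cj (chevG2.group F) g (X 11 1) ∨ Cj (chevG2.group F) g (X 9 1) := by
  haveI := Fact.mk Nat.prime_two
  obtain ⟨P, hP⟩ := ChevCent.exists_sylow (F := F) hc hcomm
  have hz : IsPGroup 2 (Subgroup.zpowers (⟨g, hg⟩ : ↥(chevG2.group F))) :=
    IsPGroup.of_card (n := 1) (by rw [Nat.card_zpowers, ← Subgroup.orderOf_coe, pow_one]; exact h2)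
  obtain ⟨Q, hQ⟩ := hz.exists_le_sylow
  obtain ⟨k, hk⟩ := MulAction.exists_smul_eq ↥(chevG2.group F) Q P
  have hm : k * ⟨g, hg⟩ * k⁻¹ ∈ (P : Subgroup ↥(chevG2.group F)) := by
    rw [← hk]
    exact ⟨⟨g, hg⟩, hQ (Subgroup.mem_zpowers _), rfl⟩
  rw [hP, Subgroup.mem_subgroupOf] at hm
  simp only [Subgroup.coe_mul, InvMemClass.coe_inv] at hm
  obtain ⟨a, b, c, d, e, f, he⟩ := exists_nf hc hcomm hm
  have hgg : g * g = 1 := by rw [← sq, ← h2, pow_orderOf_eq_one]
  have hg1 : g ≠ 1 := fun h => by rw [h, orderOf_one] at h2; omega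
  have hcj : Cj (chevG2.group F) g (nf (rel hc hcomm) a b c d e f) := ⟨k, k.2, he⟩
  have hne : nf (rel hc hcomm) a b c d e f ≠ 1 := by
    rw [← he]; simpa [mul_inv_eq_one] using hg1
  have hsq : nf (rel hc hcomm) a b c d e f * nf (rel hc hcomm) a b c d e f = 1 := by
    rw [← he, conj_mul, hgg, mul_one, mul_inv_cancel]
  exact (classify (rel hc hcomm) hsq hne).imp hcj.trans hcj.trans

/-- the roots of maximal length of `G2` -/
def longG2 (s : ℕ) : Bool := [0, 1, 5, 6, 10, 11].contains s

theorem not_cj : ¬ Cj (chevG2.group F) (X 11 1) (X 9 1) := by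
  rintro ⟨h, hh, he⟩
  have o : OrbitOK chevG2 longG2 11 := by decide +kernel
  obtain ⟨u, hu, d, hd, L, v, hv, rfl⟩ := CfsgLib.Chev.exists_bruhat hc hcomm hh
  have hv' := uInv_le_pos hc L hv
  obtain ⟨a, b, c₀, d₀, e, f, rfl⟩ := exists_nf hc hcomm hv'
  have R := rel (F := F) hc hcomm
  have hvc : nf R a b c₀ d₀ e f * X 11 1 * (nf R a b c₀ d₀ e f)⁻¹ = X 11 1 := by
    obtain ⟨h1, h2, h3, h4, h5, -⟩ := R.zero
    have hX : X 11 (1 : F) = nf R 0 0 0 0 0 1 := by simp [nf, h1, h2, h3, h4, h5]
    rw [mul_inv_eq_iff_eq_mul, hX, nf_mul R, nf_mul R]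
    simp [add_comm]
  obtain ⟨c, -, hL⟩ := nProd_conj_elX hc (F := F) L (show 11 < chevG2.nroots by decide)
  have hw := sigs_lt hc L (show 11 < chevG2.nroots by decide) (T := T)
  obtain ⟨d', hd'⟩ := diagonal_conj_elX hc hd hw
  have hwS : longG2 (sigs chevG2 T L 11) = true :=
    sigs_orbit hc ⟨o.1, o.2.1, o.2.2.1, o.2.2.2⟩ L (by decide) (by decide)
  generalize sigs chevG2 T L 11 = w at hw hd' hwS hL
  set z : F := (d' : F) * ((c : F) * 1)
  have hz : z ≠ 0 := mul_ne_zero d'.ne_zero (mul_ne_zero c.ne_zero one_ne_zero)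
  have key : X 9 1 * u = u * X w z := by
    rw [← he]
    calc u * (d * nProd chevG2 F L) * nf R a b c₀ d₀ e f * X 11 1 *
        (u * (d * nProd chevG2 F L) * nf R a b c₀ d₀ e f)⁻¹ * u
        = u * (d * (nProd chevG2 F L * (nf R a b c₀ d₀ e f * X 11 1 * (nf R a b c₀ d₀ e f)⁻¹)
            * (nProd chevG2 F L)⁻¹) * d⁻¹) := by group
      _ = u * X w z := by rw [hvc, hL, hd']
  obtain ⟨a', b', c', d'', e', f', rfl⟩ := exists_nf hc hcomm hu
  obtain ⟨n6, n10, n11⟩ := not_twist R a' b' c' d'' e' f'
  have hcases : w < 6 ∨ w = 6 ∨ w = 10 ∨ w = 11 := by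
    have hall : ∀ s < 12, longG2 s = true → s < 6 ∨ s = 6 ∨ s = 10 ∨ s = 11 := by decide +kernel
    exact hall w hw hwS
  rcases hcases with h | h | h | h
  · refine elX_not_mem_borel hc hw (show w < chevG2.nroots / 2 from h) hz ?_
    rw [show X w z = (nf R a' b' c' d'' e' f')⁻¹ * (X 9 1 * nf R a' b' c' d'' e' f') by rw [key]; group]
    exact pos_le_borel hc (mul_mem (inv_mem hu)
      (mul_mem (elX_mem_uGen (show 9 < chevG2.nroots by decide) (show chevG2.nroots / 2 ≤ 9 by decide) 1) hu))
  · rw [h] at key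
    exact n6 z key
  · rw [h] at key
    exact n10 z key
  · rw [h] at key
    exact n11 z key

end CfsgLib.FGS73.G2Invol
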