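import Mathlib
import Cfsg.Agent.Lib.OddOrder.NormalRank

/-!
Maximal normal elementary abelian subgroups of odd p-groups and p-central groups.
-/

set_option autoImplicit false
set_option linter.style.haveILetI false

universe u

namespace CfsgLib.FGS73.NormEl

open Subgroup
open scoped commutatorElement

/-- Power of a product when the commutator commutes with both factors. -/
theorem mul_pow_collect {M : Type*} [Group M] {x y z : M} (h : y * x = z * (x * y)) (hx : Commute z x)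
    (hy : Commute z y) : ∀ n : ℕ, y ^ n * x = z ^ n * (x * y ^ n) ∧ (x * y) ^ n = z ^ n.choose 2 * (x ^ n * y ^ n)
  | 0 => by simp
  | n + 1 => by
    obtain ⟨h1, h2⟩ := mul_pow_collect h hx hy n
    constructor
    · calc y ^ (n + 1) * x = y ^ n * (y * x) := by rw [pow_succ, mul_assoc]
        _ = y ^ n * z * (x * y) := by rw [h, ← mul_assoc]
        _ = z * (y ^ n * x) * y := by rw [← (hy.pow_right n).eq]; simp only [mul_assoc]
        _ = z * (z ^ n * (x * y ^ n)) * y := by rw [h1]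
        _ = z ^ (n + 1) * (x * y ^ (n + 1)) := by rw [pow_succ', pow_succ]; simp only [mul_assoc]
    · have hxn : Commute (z ^ n) (x ^ n) := hx.pow_pow n n
      calc (x * y) ^ (n + 1) = z ^ n.choose 2 * (x ^ n * (y ^ n * x) * y) := by
            rw [pow_succ, h2]; simp only [mul_assoc]
        _ = z ^ n.choose 2 * ((x ^ n * z ^ n) * (x * y ^ n) * y) := by rw [h1]; simp only [mul_assoc]
        _ = z ^ n.choose 2 * z ^ n * (x ^ (n + 1) * y ^ (n + 1)) := by
            rw [← hxn.eq, pow_succ x, pow_succ y]; simp only [mul_assoc]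
        _ = _ := by rw [← pow_add, Nat.choose_succ_succ, Nat.choose_one_right, add_comm (n.choose 2)]

theorem dvd_choose_two {p : ℕ} (hp : p.Prime) (hp2 : p ≠ 2) : p ∣ p.choose 2 :=
  hp.dvd_choose_self two_ne_zero (lt_of_le_of_ne hp.two_le (Ne.symm hp2))

variable {P : Type*} [Group P] [Finite P] {p : ℕ} [hp : Fact p.Prime]

/-- Every element of order `p` centralising a maximal normal elementary abelian subgroup lies in it. -/
theorem mem_of_centralizes (hp2 : p ≠ 2) (hP : IsPGroup p P) {E : Subgroup P} [E.Normal]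
    (hEc : ∀ a ∈ E, ∀ b ∈ E, a * b = b * a) (hEp : ∀ a ∈ E, a ^ p = 1)
    (hmax : ∀ D : Subgroup P, D.Normal → E ≤ D → (∀ a ∈ D, ∀ b ∈ D, a * b = b * a) → (∀ a ∈ D, a ^ p = 1) → D = E)
    {x : P} (hx : x ∈ centralizer (E : Set P)) (hxp : x ^ p = 1) : x ∈ E := by
  haveI : Group.IsNilpotent P := hP.isNilpotent
  by_contra hxE
  haveI hCn : (centralizer (E : Set P)).Normal := inferInstance
  have hcomE : ∀ u ∈ centralizer (E : Set P), ∀ e ∈ E, Commute e u := fun u hu e he => mem_centralizer_iff.1 hu e he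
  -- a minimal normal subgroup with an exceptional element
  let Bad : Subgroup P → Prop := fun N =>
    N.Normal ∧ E ≤ N ∧ N ≤ centralizer (E : Set P) ∧ ∃ y ∈ N, y ^ p = 1 ∧ y ∉ E
  obtain ⟨N, -, hNmin⟩ := Finite.exists_le_minimal (p := Bad) (a := centralizer (E : Set P))
    ⟨hCn, fun a ha => mem_centralizer_iff.2 fun b hb => hEc b hb a ha, le_rfl, x, hx, hxp, hxE⟩
  obtain ⟨hNn, hEN, hNC, y, hyN, hyp, hyE⟩ := hNmin.prop
  clear hx hxp hxE x
  set M := ⁅N, (⊤ : Subgroup P)⁆ ⊔ E with hM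
  haveI : M.Normal := inferInstance
  have hMN : M ≤ N := sup_le (commutator_le_left _ _) hEN
  have hMlt : M ≠ N := by
    intro hMeq
    have hbar : ∀ k : ℕ, N.map (QuotientGroup.mk' E) ≤ (⊤ : Subgroup (P ⧸ E)).lowerCentralSeries k := by
      intro k
      induction k with
      | zero => simp
      | succ k ih =>
        have h1 : N.map (QuotientGroup.mk' E) = ⁅N.map (QuotientGroup.mk' E), (⊤ : Subgroup (P ⧸ E))⁆ := by
          conv_lhs => rw [← hMeq, hM, Subgroup.map_sup, map_commutator, QuotientGroup.map_mk'_self, sup_bot_eq,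
            map_top_of_surjective _ (QuotientGroup.mk'_surjective E)]
        rw [h1, Subgroup.lowerCentralSeries_succ]
        exact commutator_mono ih le_rfl
    obtain ⟨k, hk⟩ := (Subgroup.isNilpotent_iff_lowerCentralSeries (⊤ : Subgroup (P ⧸ E))).1 inferInstance
    have := hbar k
    rw [hk, le_bot_iff, Subgroup.map_eq_bot_iff, QuotientGroup.ker_mk'] at this
    exact hyE (this hyN)
  have hMgood : ∀ z ∈ M, z ^ p = 1 → z ∈ E := by
    intro z hz hzp
    by_contra hzE
    exact hMlt (le_antisymm hMN (hNmin.2 ⟨inferInstance, le_sup_right, hMN.trans hNC, z, hz, hzp, hzE⟩ hMN))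
  -- a self-centralising normal abelian subgroup of M
  obtain ⟨A, hEA, hAmax⟩ := Finite.exists_le_maximal
    (p := fun A : Subgroup P => A.Normal ∧ A ≤ M ∧ ∀ a ∈ A, ∀ b ∈ A, a * b = b * a) (a := E)
    ⟨inferInstance, le_sup_right, hEc⟩
  obtain ⟨hAn, hAM, hAc⟩ := hAmax.prop
  have hself : ∀ u ∈ M, (∀ a ∈ A, a * u = u * a) → u ∈ A := by
    intro u hu hua
    by_contra huA
    set D := (M ⊓ centralizer (A : Set P)).map (QuotientGroup.mk' A) with hD
    haveI : D.Normal := Subgroup.Normal.map inferInstance _ (QuotientGroup.mk'_surjective A)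
    have hDne : D ≠ ⊥ := by
      intro hb
      have hm : (u : P ⧸ A) ∈ D := mem_map_of_mem _ ⟨hu, mem_centralizer_iff.2 hua⟩
      rw [hb, mem_bot] at hm
      exact huA ((QuotientGroup.eq_one_iff u).1 hm)
    obtain ⟨zb, hzD, hzc, hzo⟩ := CfsgLib.PGroup.exists_central_orderOf_eq (hP.to_quotient A) D hDne
    obtain ⟨z, hz, rfl⟩ := hzD
    have hzA : z ∉ A := fun h => by
      rw [QuotientGroup.mk'_apply, (QuotientGroup.eq_one_iff z).2 h, orderOf_one] at hzo
      exact hp.out.ne_one hzo.symm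
    set B := A ⊔ zpowers z with hB
    have hBn : B.Normal := by
      have hBq : B = (B.map (QuotientGroup.mk' A)).comap (QuotientGroup.mk' A) := by
        rw [comap_map_eq, QuotientGroup.ker_mk', sup_eq_left.2 (le_sup_left : A ≤ B)]
      rw [hBq]
      haveI : (B.map (QuotientGroup.mk' A)).Normal := by
        refine ⟨fun n hn g => ?_⟩
        have hcen : B.map (QuotientGroup.mk' A) ≤ center (P ⧸ A) := by
          rw [hB, Subgroup.map_sup, QuotientGroup.map_mk'_self, bot_sup_eq, MonoidHom.map_zpowers, zpowers_le]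
          exact hzc
        rwa [mem_center_iff.1 (hcen hn) g, mul_inv_cancel_right]
      infer_instance
    have hBc : ∀ a ∈ B, ∀ b ∈ B, a * b = b * a := by
      have hle : B ≤ centralizer (B : Set P) := by
        have hzA' : z ∈ centralizer (A : Set P) := hz.2
        have h1 : A ≤ centralizer (B : Set P) := by
          rw [Subgroup.le_centralizer_iff, hB, sup_le_iff]
          exact ⟨fun a ha => mem_centralizer_iff.2 fun b hb => hAc b hb a ha, zpowers_le.2 hzA'⟩
        have h2 : zpowers z ≤ centralizer (B : Set P) := by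
          rw [Subgroup.le_centralizer_iff, hB, sup_le_iff]
          refine ⟨fun a ha => mem_centralizer_iff.2 fun b hb => ?_, fun a ha => mem_centralizer_iff.2 fun b hb => ?_⟩
          · obtain ⟨i, rfl⟩ := mem_zpowers_iff.1 hb
            exact ((show Commute a z from mem_centralizer_iff.1 hzA' a ha).zpow_right i).eq.symm
          · obtain ⟨i, rfl⟩ := mem_zpowers_iff.1 ha
            obtain ⟨j, rfl⟩ := mem_zpowers_iff.1 hb
            exact (Commute.zpow_zpow_self z j i).eq
        rw [hB]; exact sup_le h1 h2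
      intro a ha b hb
      exact mem_centralizer_iff.1 (hle hb) a ha
    exact hzA (hAmax.2 ⟨hBn, sup_le hAM (zpowers_le.2 hz.1), hBc⟩ le_sup_left (mem_sup_right (mem_zpowers z)))
  -- exceptional elements stabilise the chain A ≥ E
  have hstab : ∀ u ∈ N, u ^ p = 1 → ∀ a ∈ A, u * a * u⁻¹ * a⁻¹ ∈ E := fun u hu hup a ha =>
    hMgood _ (mul_mem (hAM (hAn.conj_mem a ha u)) (inv_mem (hAM ha)))
      (CfsgLib.OddOrder.pow_commutator_eq_one hp2 (hP.to_subgroup A) hAc (le_normalizer_of_normal (mem_top u)) hup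
        (fun b hb hbp => ((hcomE u (hNC hu) b (hMgood b (hAM hb) hbp))).eq.symm) a ha)
  -- it suffices that the image of y is central modulo E
  suffices hcen : ∀ g : P, y⁻¹ * (g * y * g⁻¹) ∈ E by
    set D := E ⊔ zpowers y with hD
    have hDN : D ≤ N := sup_le hEN (zpowers_le.2 hyN)
    have hdec : ∀ a ∈ D, ∃ e ∈ E, ∃ i : ℤ, a = e * y ^ i := by
      intro a ha
      rw [← SetLike.mem_coe, hD, Subgroup.normal_mul] at ha
      obtain ⟨e, he, w, hw, rfl⟩ := ha
      obtain ⟨i, rfl⟩ := mem_zpowers_iff.1 hw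
      exact ⟨e, he, i, rfl⟩
    have hcom : ∀ e ∈ E, ∀ i : ℤ, Commute e (y ^ i) := fun e he i => (hcomE y (hNC hyN) e he).zpow_right i
    have hDc : ∀ a ∈ D, ∀ b ∈ D, a * b = b * a := by
      intro a ha b hb
      obtain ⟨e, he, i, rfl⟩ := hdec a ha
      obtain ⟨e', he', j, rfl⟩ := hdec b hb
      exact (((show Commute e e' from hEc e he e' he').mul_right (hcom e he j)).mul_left
        ((hcom e' he' i).symm.mul_right (Commute.zpow_zpow_self y i j))).eq
    have hDp : ∀ a ∈ D, a ^ p = 1 := by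
      intro a ha
      obtain ⟨e, he, i, rfl⟩ := hdec a ha
      rw [(hcom e he i).mul_pow, hEp e he, one_mul, ← zpow_natCast, ← zpow_mul, mul_comm, zpow_mul, zpow_natCast, hyp, one_zpow]
    have hDn : D.Normal := by
      refine ⟨fun a ha g => ?_⟩
      obtain ⟨e, he, i, rfl⟩ := hdec a ha
      have : g * (e * y ^ i) * g⁻¹ = (g * e * g⁻¹) * (g * y * g⁻¹) ^ i := by rw [conj_zpow]; simp [mul_assoc]
      rw [this]
      refine mul_mem (mem_sup_left ((inferInstance : E.Normal).conj_mem e he g)) (zpow_mem ?_ i)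
      rw [← mul_inv_cancel_left y (g * y * g⁻¹)]
      exact mul_mem (mem_sup_right (mem_zpowers y)) (mem_sup_left (hcen g))
    exact hyE ((hmax D hDn le_sup_left hDc hDp) ▸ mem_sup_right (mem_zpowers y))
  intro g
  set c := y⁻¹ * (g * y * g⁻¹) with hcdef
  have hcM : c ∈ M := by
    refine mem_sup_left ?_
    have : c = ⁅y⁻¹, g⁆ := by rw [hcdef]; simp only [commutatorElement_def]; group
    rw [this]; exact commutator_mem_commutator (inv_mem hyN) (mem_top g)
  refine hMgood c hcM ?_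
  have hgy : g * y * g⁻¹ ∈ N := hNn.conj_mem y hyN g
  have hgyp : (g * y * g⁻¹) ^ p = 1 := by rw [conj_pow, hyp, mul_one, mul_inv_cancel]
  have hstabc : ∀ a ∈ A, c * a * c⁻¹ * a⁻¹ ∈ E := by
    intro a ha
    have h1 := hstab _ hgy hgyp a ha
    have h2 := hstab _ (inv_mem hyN) (by rw [inv_pow, hyp, inv_one]) a ha
    have h3 := hcomE _ (hNC (inv_mem hyN)) _ h1
    have e : c * a * c⁻¹ * a⁻¹ = (g * y * g⁻¹ * a * (g * y * g⁻¹)⁻¹ * a⁻¹) * (y⁻¹ * a * y⁻¹⁻¹ * a⁻¹) := by
      calc c * a * c⁻¹ * a⁻¹ = y⁻¹ * (g * y * g⁻¹ * a * (g * y * g⁻¹)⁻¹ * a⁻¹) * y * (y⁻¹ * a * y⁻¹⁻¹ * a⁻¹) := by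
            rw [hcdef]; group
        _ = _ := by rw [← h3.eq]; group
    rw [e]; exact mul_mem h1 h2
  set d := c * y * c⁻¹ * y⁻¹ with hd
  have hdA : d ∈ A := by
    refine hself d ?_ ?_
    · have e : d = c * ((y * c⁻¹ * y⁻¹)) := by rw [hd]; group
      rw [e]
      exact mul_mem hcM ((inferInstance : M.Normal).conj_mem _ (inv_mem hcM) y)
    · have h12 : ∀ a ∈ A, (c * y) * a * (c * y)⁻¹ = (y * c) * a * (y * c)⁻¹ := by
        intro a ha
        obtain ⟨e1, he1, hc1⟩ : ∃ e1 ∈ E, c * a * c⁻¹ = e1 * a := ⟨_, hstabc a ha, by group⟩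
        obtain ⟨e2, he2, hy1⟩ : ∃ e2 ∈ E, y * a * y⁻¹ = e2 * a := ⟨_, hstab y hyN hyp a ha, by group⟩
        have hce := hcomE c (hNC (hMN hcM))
        have hye := hcomE y (hNC hyN)
        calc (c * y) * a * (c * y)⁻¹ = c * (y * a * y⁻¹) * c⁻¹ := by group
          _ = c * (e2 * a) * c⁻¹ := by rw [hy1]
          _ = e2 * (c * a * c⁻¹) := by rw [← mul_assoc c, ← (hce e2 he2).eq]; group
          _ = e1 * (e2 * a) := by rw [hc1, ← mul_assoc, ← mul_assoc, hEc e2 he2 e1 he1]
          _ = e1 * (y * a * y⁻¹) := by rw [hy1]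
          _ = y * (e1 * a) * y⁻¹ := by rw [← mul_assoc y, ← (hye e1 he1).eq]; group
          _ = y * (c * a * c⁻¹) * y⁻¹ := by rw [hc1]
          _ = (y * c) * a * (y * c)⁻¹ := by group
      intro a ha
      have h13 := h12 ((y * c)⁻¹ * a * (y * c)) (by simpa using hAn.conj_mem a ha (y * c)⁻¹)
      have h14 : d * a * d⁻¹ = a := by
        calc d * a * d⁻¹ = (c * y) * ((y * c)⁻¹ * a * (y * c)) * (c * y)⁻¹ := by rw [hd]; group
          _ = (y * c) * ((y * c)⁻¹ * a * (y * c)) * (y * c)⁻¹ := h13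
          _ = a := by group
      exact (mul_inv_eq_iff_eq_mul.1 h14).symm
  have hcy : c * y = d * (y * c) := by rw [hd]; group
  clear_value d
  clear_value c
  have hcN : c ∈ N := hMN hcM
  obtain ⟨f, hfE, hfd⟩ : ∃ f ∈ E, c * d * c⁻¹ = f * d := ⟨_, hstabc d hdA, by group⟩
  obtain ⟨f2, hf2E, hf2d⟩ : ∃ f ∈ E, y * d * y⁻¹ = f * d := ⟨_, hstab y hyN hyp d hdA, by group⟩
  have hdN : d ∈ N := hMN (hAM hdA)
  have hyc : (y * c) ^ p = 1 := by rw [hcdef, mul_inv_cancel_left, hgyp]
  have hzy : Commute (d : P ⧸ E) (y : P ⧸ E) := by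
    show (d : P ⧸ E) * y = y * d
    have : y * d = f2 * (d * y) := by rw [← mul_assoc, ← hf2d]; group
    rw [← QuotientGroup.mk_mul E y d, this, QuotientGroup.mk_mul, (QuotientGroup.eq_one_iff f2).2 hf2E, one_mul,
      QuotientGroup.mk_mul]
  have hzc : Commute (d : P ⧸ E) (c : P ⧸ E) := by
    show (d : P ⧸ E) * c = c * d
    have : c * d = f * (d * c) := by rw [← mul_assoc, ← hfd]; group
    rw [← QuotientGroup.mk_mul E c d, this, QuotientGroup.mk_mul, (QuotientGroup.eq_one_iff f).2 hfE, one_mul,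
      QuotientGroup.mk_mul]
  have hq := (mul_pow_collect (x := (y : P ⧸ E)) (y := (c : P ⧸ E)) (z := (d : P ⧸ E))
    (congrArg (QuotientGroup.mk (s := E)) hcy) hzy hzc p).2
  rw [← QuotientGroup.mk_mul, ← QuotientGroup.mk_pow, hyc, ← QuotientGroup.mk_pow, ← QuotientGroup.mk_pow,
    ← QuotientGroup.mk_pow, hyp, QuotientGroup.mk_one, one_mul, ← QuotientGroup.mk_mul, eq_comm, QuotientGroup.eq_one_iff] at hq
  set C2 := p.choose 2 with hC2
  have hpow_mul : ∀ (m : ℕ) (w : P), w ∈ N → ∀ e ∈ E, w * d * w⁻¹ = e * d → w * d ^ m * w⁻¹ = e ^ m * d ^ m := by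
    intro m w _ e he hw
    rw [← conj_pow, hw, (hcomE d (hNC hdN) e he).mul_pow]
  have hind : ∀ n : ℕ, c ^ n * y * (c ^ n)⁻¹ * y⁻¹ = f ^ n.choose 2 * d ^ n := by
    intro n
    induction n with
    | zero => simp
    | succ n ih =>
      have hfc : Commute (f ^ n.choose 2) c := (hcomE c (hNC hcN) f hfE).pow_left _
      calc c ^ (n + 1) * y * (c ^ (n + 1))⁻¹ * y⁻¹
          = c * (c ^ n * y * (c ^ n)⁻¹ * y⁻¹) * c⁻¹ * (c * y * c⁻¹ * y⁻¹) := by rw [pow_succ']; group
        _ = (c * f ^ n.choose 2 * c⁻¹) * (c * d ^ n * c⁻¹) * d := by rw [ih, ← hd]; group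
        _ = f ^ n.choose 2 * (f ^ n * d ^ n) * d := by
            rw [← hfc.eq, mul_inv_cancel_right, hpow_mul n c hcN f hfE hfd]
        _ = _ := by
            rw [pow_succ, Nat.choose_succ_succ, Nat.choose_one_right, pow_add,
              ((Commute.refl f).pow_pow n (n.choose 2)).eq]
            simp only [mul_assoc]
  obtain ⟨k, hk⟩ := dvd_choose_two hp.out hp2
  have hEk : ∀ e ∈ E, e ^ C2 = 1 := fun e he => by rw [hC2, hk, pow_mul, hEp e he, one_pow]
  have hdp : d ^ p = 1 := by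
    have h1 := hind p
    rw [← hC2, hEk f hfE, one_mul] at h1
    set e := d ^ C2 * c ^ p
    have hcp : c ^ p = (d ^ C2)⁻¹ * e := by simp [e]
    have hey : Commute e y := hcomE y (hNC hyN) e hq
    calc d ^ p = c ^ p * y * (c ^ p)⁻¹ * y⁻¹ := h1.symm
      _ = (d ^ C2)⁻¹ * (e * y * e⁻¹) * d ^ C2 * y⁻¹ := by rw [hcp]; group
      _ = (d ^ C2)⁻¹ * (y * d ^ C2 * y⁻¹) := by rw [hey.eq, mul_inv_cancel_right]; group
      _ = 1 := by rw [hpow_mul C2 y hyN f2 hf2E hf2d, hEk f2 hf2E, one_mul, inv_mul_cancel]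
  have hdE : d ∈ E := hMgood d (hAM hdA) hdp
  have hfin := (mul_pow_collect hcy (hcomE y (hNC hyN) d hdE) (hcomE c (hNC hcN) d hdE) p).2
  rw [hyc, hyp, one_mul, ← hC2, hEk d hdE, one_mul] at hfin
  exact hfin.symm

end CfsgLib.FGS73.NormEl
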