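import Mathlib
import Cfsg.Agent.Lib.FGS73.NormalElementary
import Cfsg.Agent.Lib.FGS73.ClassTwoRank

/-!
Generators of p-central groups (every element of order `p` central), `p` odd.
-/

set_option autoImplicit false
set_option linter.style.haveILetI false

universe u

namespace CfsgLib.FGS73.PCentral

open Subgroup
open scoped commutatorElement

variable {p : ℕ} [hp : Fact p.Prime]

/-- The elements of order dividing `p`, as a subgroup, when they are central. -/
def omega {S : Type u} [Group S] (h : ∀ x : S, x ^ p = 1 → x ∈ center S) : Subgroup S where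
  carrier := {x | x ^ p = 1}
  one_mem' := one_pow p
  mul_mem' := fun {a b} ha hb => by
    show (a * b) ^ p = 1
    rw [(show Commute a b from (mem_center_iff.1 (h b hb) a)).mul_pow, show a ^ p = 1 from ha,
      show b ^ p = 1 from hb, one_mul]
  inv_mem' := fun {a} ha => by
    show a⁻¹ ^ p = 1
    rw [inv_pow, show a ^ p = 1 from ha, inv_one]

@[simp] theorem mem_omega {S : Type u} [Group S] (h : ∀ x : S, x ^ p = 1 → x ∈ center S) {x : S} :
    x ∈ omega h ↔ x ^ p = 1 := Iff.rfl

/-- If `y ^ p` has order dividing `p` then so does every commutator of `y`. -/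
theorem commutator_pow_eq_one (hp2 : p ≠ 2) : ∀ (n : ℕ) (S : Type u) [Group S] [Finite S], Nat.card S = n →
    IsPGroup p S → (∀ x : S, x ^ p = 1 → x ∈ center S) → ∀ y g : S, (y ^ p) ^ p = 1 → ⁅g, y⁆ ^ p = 1 := by
  intro n
  induction n using Nat.strong_induction_on with
  | _ n ih =>
  intro S _ _ hn hS hc y g hy
  haveI : Group.IsNilpotent S := hS.isNilpotent
  set c := ⁅g, y⁆ with hcdef
  by_cases htop : zpowers y ⊔ commutator S = ⊤
  · -- then the group is generated by y
    have hy_top : zpowers y = ⊤ := by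
      by_contra hne
      obtain ⟨M, hM, hle⟩ := (eq_top_or_exists_le_coatom (zpowers y)).resolve_left hne
      refine hM.1 (top_unique (htop ▸ sup_le hle ?_))
      rw [_root_.commutator_def, Subgroup.commutator_le]
      intro a _ b _
      exact frattini_le_coatom hM ((RankBound.mem_frattini hS).1 a b)
    obtain ⟨i, rfl⟩ := mem_zpowers_iff.1 (show g ∈ zpowers y by rw [hy_top]; exact mem_top g)
    rw [hcdef, commutatorElement_eq_one_iff_commute.2 ((Commute.refl y).zpow_left i), one_pow]
  · set T := zpowers y ⊔ commutator S with hT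
    have hTlt : Nat.card T < n := by
      rw [← hn]
      exact lt_of_le_of_ne T.card_le_card_group fun h => htop ((Subgroup.card_eq_iff_eq_top T).1 h)
    have hyT : y ∈ T := mem_sup_left (mem_zpowers y)
    have hcT : c ∈ T := mem_sup_right (commutator_mem_commutator (mem_top g) (mem_top y))
    have hcT' : ∀ x : T, x ^ p = 1 → x ∈ center T := fun x hx => mem_center_iff.2 fun z =>
      Subtype.ext (mem_center_iff.1 (hc x (congrArg Subtype.val hx)) z)
    have h1 := ih _ hTlt T rfl (hS.to_subgroup T) hcT' ⟨y, hyT⟩ ⟨c, hcT⟩ (Subtype.ext hy)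
    have hzc : ⁅c, y⁆ ∈ center S := hc _ (congrArg Subtype.val h1)
    have hzp : ⁅c, y⁆ ^ p = 1 := congrArg Subtype.val h1
    have hrel : c * y = ⁅c, y⁆ * (y * c) := by simp only [commutatorElement_def]; group
    have hpow := (NormEl.mul_pow_collect hrel (mem_center_iff.1 hzc y).symm (mem_center_iff.1 hzc c).symm p).2
    obtain ⟨k, hk⟩ := NormEl.dvd_choose_two hp.out hp2
    rw [hk, pow_mul, hzp, one_pow, one_mul] at hpow
    have hgy : g * y * g⁻¹ = y * (y⁻¹ * c * y) := by rw [hcdef]; simp only [commutatorElement_def]; group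
    have h2 : (g * y * g⁻¹) ^ p = y ^ p := by
      rw [conj_pow, mem_center_iff.1 (hc _ hy) g, mul_inv_cancel_right]
    have hcc : g * y * g⁻¹ = c * y := by rw [hcdef]; simp only [commutatorElement_def]; group
    rw [hcc] at h2
    have hrel' : y * c = ⁅c, y⁆⁻¹ * (c * y) := by rw [hrel]; group
    have hpow' := (NormEl.mul_pow_collect hrel' (mem_center_iff.1 (inv_mem hzc) c).symm
      (mem_center_iff.1 (inv_mem hzc) y).symm p).2
    rw [hk, pow_mul, inv_pow, hzp, inv_one, one_pow, one_mul, h2] at hpow'
    exact mul_eq_right.1 hpow'.symm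

/-- A p-central p-group with at most `p ^ k` elements of order dividing `p` needs at most `k`
generators. -/
theorem exists_generators (hp2 : p ≠ 2) : ∀ (n : ℕ) (S : Type u) [Group S] [Finite S] (k : ℕ), Nat.card S = n →
    IsPGroup p S → (h : ∀ x : S, x ^ p = 1 → x ∈ center S) → Nat.card (omega h) ≤ p ^ k →
    ∃ T : Finset S, T.card ≤ k ∧ closure (T : Set S) = ⊤ := by
  intro n
  induction n using Nat.strong_induction_on with
  | _ n ih =>
  intro S _ _ k hn hS h hk
  classical
  haveI : Group.IsNilpotent S := hS.isNilpotent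
  set W := omega h with hW
  haveI hWn : W.Normal := ⟨fun w hw g => by
    rwa [mem_center_iff.1 (h w hw) g, mul_inv_cancel_right]⟩
  rcases subsingleton_or_nontrivial S with hsub | hnt
  · exact ⟨∅, by simp, Subsingleton.elim _ _⟩
  have hWb : W ≠ ⊥ := by
    obtain ⟨i, hi⟩ := IsPGroup.iff_card.1 hS
    have hd : p ∣ Nat.card S := by
      rw [hi]
      refine dvd_pow_self p fun h0 => ?_
      rw [h0, pow_zero] at hi
      exact (Finite.one_lt_card_iff_nontrivial.2 hnt).ne' hi
    obtain ⟨z, hz⟩ := exists_prime_orderOf_dvd_card' p hd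
    intro hb
    have : z ∈ W := by rw [hW, mem_omega, ← orderOf_dvd_iff_pow_eq_one, hz]
    rw [hb, mem_bot] at this
    rw [this, orderOf_one] at hz
    exact hp.out.ne_one hz.symm
  by_cases hsplit : ∃ M : Subgroup S, IsCoatom M ∧ ¬ W ≤ M
  · obtain ⟨M, hM, hWM⟩ := hsplit
    obtain ⟨z, hz, hzM⟩ := SetLike.not_le_iff_exists.1 hWM
    have hMlt : Nat.card M < n := hn ▸ lt_of_le_of_ne M.card_le_card_group fun e => hM.1 ((Subgroup.card_eq_iff_eq_top M).1 e)
    have hMc : ∀ x : M, x ^ p = 1 → x ∈ center M := fun x hx => mem_center_iff.2 fun w =>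
      Subtype.ext (mem_center_iff.1 (h x (congrArg Subtype.val hx)) w)
    have hWi : (W ⊓ M : Subgroup S) < W := lt_of_le_of_ne inf_le_left fun e => hWM (e ▸ inf_le_right)
    have hcardM : Nat.card (omega hMc) = Nat.card (W ⊓ M : Subgroup S) := by
      rw [← Subgroup.card_subtype M (omega hMc)]
      congr 2
      ext x
      constructor
      · rintro ⟨⟨x, hx⟩, hxp, rfl⟩; exact ⟨congrArg Subtype.val (show (⟨x, hx⟩ : M) ^ p = 1 from hxp), hx⟩
      · rintro ⟨hxp, hx⟩; exact ⟨⟨x, hx⟩, Subtype.ext hxp, rfl⟩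
    obtain ⟨a, ha⟩ := IsPGroup.iff_card.1 (hS.to_subgroup (W ⊓ M : Subgroup S))
    obtain ⟨b, hb⟩ := IsPGroup.iff_card.1 (hS.to_subgroup W)
    have hlt : Nat.card (W ⊓ M : Subgroup S) < Nat.card W := lt_of_le_of_ne (Subgroup.card_le_of_le hWi.le)
      fun e => hWi.ne (Subgroup.eq_of_le_of_card_ge hWi.le e.ge)
    rw [ha, hb] at hlt
    have hab : a < b := (Nat.pow_lt_pow_iff_right hp.out.one_lt).1 hlt
    have hbk : b ≤ k := (Nat.pow_le_pow_iff_right hp.out.one_lt).1 (hb ▸ hk)
    obtain ⟨T, hT, hTgen⟩ := ih _ hMlt M (k - 1) rfl (hS.to_subgroup M) hMc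
      (by rw [hcardM, ha]; exact Nat.pow_le_pow_right hp.out.pos (by omega))
    refine ⟨insert z (T.image M.subtype), ?_, ?_⟩
    · refine (Finset.card_insert_le _ _).trans ?_
      have := Finset.card_image_le (f := M.subtype) (s := T)
      omega
    · have hle : M ≤ closure ((insert z (T.image M.subtype) : Finset S) : Set S) := by
        intro m hm
        have h1 : (⟨m, hm⟩ : M) ∈ closure (T : Set M) := by rw [hTgen]; exact mem_top _
        have h2 := mem_map_of_mem M.subtype h1
        rw [MonoidHom.map_closure] at h2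
        refine closure_mono ?_ h2
        rw [Finset.coe_insert, Finset.coe_image]
        exact Set.subset_insert _ _
      refine (hM.le_iff.1 hle).resolve_right fun e => hzM ?_
      rw [← e]
      exact subset_closure (by simp)
  · push Not at hsplit
    have hQlt : Nat.card (S ⧸ W) < n := by
      rw [← hn, ← Subgroup.index_eq_card, ← Subgroup.card_mul_index W]
      exact lt_mul_left (Nat.pos_of_ne_zero Subgroup.index_ne_zero_of_finite) ((Subgroup.one_lt_card_iff_ne_bot W).2 hWb)
    have hQc : ∀ x : S ⧸ W, x ^ p = 1 → x ∈ center (S ⧸ W) := by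
      intro x hx
      induction x using QuotientGroup.induction_on with
      | H y =>
        rw [← QuotientGroup.mk_pow, QuotientGroup.eq_one_iff] at hx
        rw [mem_center_iff]
        intro g
        induction g using QuotientGroup.induction_on with
        | H g =>
          have h1 : ⁅g, y⁆ ∈ W := commutator_pow_eq_one hp2 _ S rfl hS h y g hx
          have h2 : ⁅(g : S ⧸ W), (y : S ⧸ W)⁆ = 1 := by
            rw [← QuotientGroup.mk'_apply, ← QuotientGroup.mk'_apply, ← map_commutatorElement,
              QuotientGroup.mk'_apply, QuotientGroup.eq_one_iff]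
            exact h1
          exact (commutatorElement_eq_one_iff_commute.1 h2).eq
    have hinj : Nat.card (omega hQc) ≤ Nat.card W := by
      have hout : ∀ x : omega hQc, ((Quotient.out (x : S ⧸ W)) ^ p) ∈ W := fun x => by
        have h1 : (x : S ⧸ W) ^ p = 1 := x.2
        rwa [← QuotientGroup.out_eq' (x : S ⧸ W), ← QuotientGroup.mk_pow, QuotientGroup.eq_one_iff] at h1
      let f : omega hQc → W := fun x => ⟨_, hout x⟩
      refine Nat.card_le_card_of_injective f ?_
      intro u v huv
      have hab' : (Quotient.out (u : S ⧸ W)) ^ p = (Quotient.out (v : S ⧸ W)) ^ p := congrArg Subtype.val huv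
      refine Subtype.ext ?_
      rw [← QuotientGroup.out_eq' (u : S ⧸ W), ← QuotientGroup.out_eq' (v : S ⧸ W), QuotientGroup.eq]
      have hb' : ((Quotient.out (v : S ⧸ W)) ^ p) ^ p = 1 := hout v
      generalize Quotient.out (u : S ⧸ W) = a at hab'
      generalize Quotient.out (v : S ⧸ W) = b at hab' hb'
      show (a⁻¹ * b) ^ p = 1
      have hz : ⁅b, a⁻¹⁆ ^ p = 1 := by
        refine commutator_pow_eq_one hp2 _ S rfl hS h a⁻¹ b ?_
        rw [inv_pow, inv_pow, hab', hb', inv_one]
      have hrel : b * a⁻¹ = ⁅b, a⁻¹⁆ * (a⁻¹ * b) := by simp only [commutatorElement_def]; group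
      have hpow := (NormEl.mul_pow_collect hrel (mem_center_iff.1 (h _ hz) a⁻¹).symm (mem_center_iff.1 (h _ hz) b).symm p).2
      obtain ⟨r, hr⟩ := NormEl.dvd_choose_two hp.out hp2
      rw [hpow, hr, pow_mul, hz, one_pow, one_mul, inv_pow, hab', inv_mul_cancel]
    obtain ⟨T, hT, hTgen⟩ := ih _ hQlt (S ⧸ W) k rfl (hS.to_quotient W) hQc (hinj.trans hk)
    have hsurj := QuotientGroup.mk_surjective (s := W)
    refine ⟨T.image (fun t => (hsurj t).choose), Finset.card_image_le.trans hT, ?_⟩
    by_contra hne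
    obtain ⟨M, hM, hle⟩ := (eq_top_or_exists_le_coatom _).resolve_left hne
    apply hM.1
    rw [eq_top_iff]
    intro s _
    have h1 : closure (T : Set (S ⧸ W)) ≤ M.map (QuotientGroup.mk' W) := by
      rw [closure_le]
      intro t ht
      exact ⟨_, hle (subset_closure (by simpa using ⟨t, ht, rfl⟩)), (hsurj t).choose_spec⟩
    obtain ⟨m, hm, hms⟩ := h1 (show (s : S ⧸ W) ∈ closure (T : Set (S ⧸ W)) by rw [hTgen]; exact mem_top _)
    rw [QuotientGroup.mk'_apply, QuotientGroup.eq] at hms
    rw [← mul_inv_cancel_left m s]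
    exact mul_mem hm (hsplit M hM hms)

end CfsgLib.FGS73.PCentral
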