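import Mathlib
import Cfsg.Agent.Lib.FGStruct.GruenFirst
import Cfsg.Agent.Lib.FGS73.ClassTwoRank

/-!
Simple groups in which every non-abelian subgroup is self-normalizing have abelian centralizers.
-/

set_option autoImplicit false
set_option linter.style.haveILetI false

universe u

namespace CfsgLib.FGS73.SelfNormNonab

open Subgroup
open scoped commutatorElement Pointwise

variable {G : Type u} [Group G]

/-- The hypothesis. -/
def Hyp (G : Type u) [Group G] : Prop :=
  ∀ H : Subgroup G, ¬ IsMulCommutative H → normalizer (H : Set G) = H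

theorem isMulComm_of {H : Subgroup G} (h : ∀ a ∈ H, ∀ b ∈ H, a * b = b * a) : IsMulCommutative H :=
  ⟨⟨fun a b => Subtype.ext (h a a.2 b b.2)⟩⟩

theorem comm_of_isMulComm {H : Subgroup G} (h : IsMulCommutative H) {a b : G} (ha : a ∈ H) (hb : b ∈ H) :
    a * b = b * a :=
  congrArg Subtype.val (h.is_comm.comm (⟨a, ha⟩ : H) ⟨b, hb⟩)

/-- A proper normal subgroup of any subgroup is abelian. -/
theorem comm_of_normal (hG : Hyp G) {K : Subgroup G} (X : Subgroup K) [hX : X.Normal] (hne : X ≠ ⊤) :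
    ∀ a ∈ X, ∀ b ∈ X, a * b = b * a := by
  intro a ha b hb
  by_contra hab
  apply hne
  have hnc : ¬ IsMulCommutative (X.map K.subtype) := fun h =>
    hab (Subtype.ext (comm_of_isMulComm h (mem_map_of_mem _ ha) (mem_map_of_mem _ hb)))
  refine eq_top_iff.2 fun k _ => ?_
  have hk : (k : G) ∈ normalizer ((X.map K.subtype : Subgroup G) : Set G) := by
    refine mem_normalizer_iff.2 fun y => ⟨?_, fun hy => ?_⟩
    · rintro ⟨z, hz, rfl⟩
      exact ⟨k * z * k⁻¹, hX.conj_mem z hz k, rfl⟩
    · obtain ⟨z, hz, hzy⟩ := hy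
      refine ⟨k⁻¹ * z * k, hX.conj_mem' z hz k, ?_⟩
      show (k : G)⁻¹ * z * k = y
      rw [show ((z : K) : G) = k * y * (k : G)⁻¹ from hzy]
      group
  rw [hG _ hnc] at hk
  obtain ⟨z, hz, hzk⟩ := hk
  rwa [← Subtype.ext hzk]

variable [Finite G]

/-- In a finite group a central element of the derived subgroup has order prime to the order of an abelian Sylow
subgroup. -/
theorem central_commutator_eq_one {K : Type u} [Group K] [Finite K]
    (hab : ∀ (p : ℕ) [Fact p.Prime] (P : Sylow p K), ∀ a ∈ (P : Subgroup K), ∀ b ∈ (P : Subgroup K), a * b = b * a)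
    {x : K} (hx : x ∈ center K) (hx' : x ∈ commutator K) : x = 1 := by
  by_contra hne
  obtain ⟨p, hp, hpd⟩ := Nat.exists_prime_and_dvd (n := orderOf x) (fun h => hne (orderOf_eq_one_iff.1 h))
  haveI := Fact.mk hp
  obtain ⟨P⟩ : Nonempty (Sylow p K) := inferInstance
  letI : CommGroup (P : Subgroup K) :=
    { (inferInstance : Group (P : Subgroup K)) with mul_comm := fun a b => Subtype.ext (hab p P a a.2 b b.2) }
  have hcent : ∀ (k : ℕ) (g₀ : K), g₀⁻¹ * x ^ k * g₀ ∈ (P : Subgroup K) → g₀⁻¹ * x ^ k * g₀ = x ^ k := by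
    intro k g₀ _
    rw [mul_assoc, ← mem_center_iff.1 (pow_mem hx k) g₀, inv_mul_cancel_left]
  let τ := MonoidHom.transfer (MonoidHom.id (P : Subgroup K))
  have h1 : τ x = ⟨x ^ (P : Subgroup K).index, MonoidHom.transfer_eq_pow_aux x hcent⟩ :=
    MonoidHom.transfer_eq_pow (MonoidHom.id (P : Subgroup K)) x hcent
  have h2 : τ x = 1 := Abelianization.commutator_subset_ker τ hx'
  have h3 : x ^ (P : Subgroup K).index = 1 := congrArg Subtype.val (h1.symm.trans h2)
  exact P.not_dvd_index (hpd.trans (orderOf_dvd_of_pow_eq_one h3))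

/-- Commutators in a nonabelian `p`-group with all proper subgroups normalised are central. -/
theorem commutator_mem_center {P : Type u} [Group P] [Finite P] {p : ℕ} [Fact p.Prime] (hP : IsPGroup p P)
    (hM : ∀ M : Subgroup P, M.Normal → M ≠ ⊤ → ∀ a ∈ M, ∀ b ∈ M, a * b = b * a) (u v : P) :
    ⁅u, v⁆ ∈ center P := by
  by_cases hall : ∀ a b : P, a * b = b * a
  · exact mem_center_iff.2 fun g => hall g _
  push Not at hall
  obtain ⟨a, b, hab⟩ := hall
  haveI := hP.isNilpotent
  have hcoat : ∀ M : Subgroup P, IsCoatom M → ∀ a ∈ M, ∀ b ∈ M, a * b = b * a := fun M hM' =>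
    hM M (Subgroup.NormalizerCondition.normal_of_coatom M normalizerCondition_of_isNilpotent hM') hM'.1
  have hne : ∀ g : P, zpowers g ≠ ⊤ := fun g h => hab (by
    obtain ⟨i, rfl⟩ := mem_zpowers_iff.1 (show a ∈ zpowers g by rw [h]; exact mem_top a)
    obtain ⟨j, rfl⟩ := mem_zpowers_iff.1 (show b ∈ zpowers g by rw [h]; exact mem_top b)
    exact zpow_mul_comm g i j)
  obtain ⟨M1, hM1, h1⟩ := (eq_top_or_exists_le_coatom (zpowers a)).resolve_left (hne a)
  obtain ⟨M2, hM2, h2⟩ := (eq_top_or_exists_le_coatom (zpowers b)).resolve_left (hne b)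
  have h12 : M1 ⊔ M2 = ⊤ := by
    by_contra hne'
    rcases (hM1.le_iff.1 (le_sup_left : M1 ≤ M1 ⊔ M2)) with h | h
    · exact hne' h
    · exact hab (hcoat M1 hM1 a (h1 (mem_zpowers a)) b ((h ▸ le_sup_right : M2 ≤ M1) (h2 (mem_zpowers b))))
  have hfr := (RankBound.mem_frattini hP).1 u v
  rw [mem_center_iff]
  intro g
  have hg : g ∈ M1 ⊔ M2 := by rw [h12]; exact mem_top g
  have hle : M1 ⊔ M2 ≤ centralizer ({⁅u, v⁆} : Set P) := sup_le
    (fun m hm => mem_centralizer_singleton_iff.2 (hcoat M1 hM1 m hm _ (frattini_le_coatom hM1 hfr)))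
    (fun m hm => mem_centralizer_singleton_iff.2 (hcoat M2 hM2 m hm _ (frattini_le_coatom hM2 hfr)))
  exact mem_centralizer_singleton_iff.1 (hle hg)

variable [IsSimpleGroup G]

theorem commutator_eq_top (hna : ¬ IsMulCommutative G) : commutator G = ⊤ := by
  rcases (inferInstance : (commutator G).Normal).eq_bot_or_eq_top with h | h
  · exfalso
    refine hna ⟨⟨fun a b => ?_⟩⟩
    have h1 : ⁅a, b⁆ ∈ commutator G := commutator_mem_commutator (mem_top a) (mem_top b)
    rw [h, mem_bot, commutatorElement_eq_one_iff_commute] at h1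
    exact h1.eq
  · exact h

/-- Sylow subgroups are abelian. -/
theorem sylow_comm (hG : Hyp G) (hna : ¬ IsMulCommutative G) {p : ℕ} [hp : Fact p.Prime] (P : Sylow p G) :
    ∀ a ∈ (P : Subgroup G), ∀ b ∈ (P : Subgroup G), a * b = b * a := by
  classical
  by_contra hPn
  set S : Subgroup G := (P : Subgroup G) with hS
  have hnc : ¬ IsMulCommutative S := fun h => hPn fun a ha b hb => comm_of_isMulComm h ha hb
  have hNS : normalizer (S : Set G) = S := hG S hnc
  have hcc : ∀ u ∈ S, ∀ v ∈ S, ∀ s ∈ S, s * ⁅u, v⁆ = ⁅u, v⁆ * s := fun u hu v hv s hs =>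
    congrArg Subtype.val (mem_center_iff.1 (commutator_mem_center P.2
      (fun M hMn hMt => by haveI := hMn; exact comm_of_normal hG M hMt) ⟨u, hu⟩ ⟨v, hv⟩) ⟨s, hs⟩)
  set Z : Subgroup G := S ⊓ centralizer (S : Set G) with hZ
  have hderZ : ⁅S, S⁆ ≤ Z := by
    rw [commutator_le]
    intro u hu v hv
    refine ⟨?_, mem_centralizer_iff.2 fun s hs => hcc u hu v hv s hs⟩
    rw [commutatorElement_def]
    exact S.mul_mem (S.mul_mem (S.mul_mem hu hv) (S.inv_mem hu)) (S.inv_mem hv)
  -- a commutator conjugate to a noncentral element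
  obtain ⟨g, w, hw, hgS, hgZ⟩ : ∃ g w : G, w ∈ ⁅S, S⁆ ∧ g * w * g⁻¹ ∈ S ∧ g * w * g⁻¹ ∉ Z := by
    by_contra hno
    push Not at hno
    have h1 := CfsgLib.FGStruct.inf_commutator_le_gruen P
    rw [commutator_eq_top hna, inf_top_eq] at h1
    have h2 : CfsgLib.FGStruct.gruenSubgroup S ≤ Z := by
      refine sup_le ?_ (iSup_le fun g => ?_)
      · rw [hNS]; exact inf_le_right.trans hderZ
      · rintro _ ⟨hx, w, hw, rfl⟩
        exact hno g w hw hx
    exact hPn fun a ha b hb => (mem_centralizer_iff.1 ((h1.trans h2) hb).2 a ha)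
  set c := g * w * g⁻¹ with hc
  clear_value c
  obtain ⟨y, hy, hyc⟩ : ∃ y ∈ S, y * c ≠ c * y := by
    by_contra h
    push Not at h
    exact hgZ ⟨hgS, mem_centralizer_iff.2 fun s hs => h s hs⟩
  set d := ⁅y, c⁆ with hd
  have hd1 : d ≠ 1 := fun h => hyc (commutatorElement_eq_one_iff_commute.1 h).eq
  have hdS : d ∈ S := (hderZ (commutator_mem_commutator hy hgS)).1
  have hdc : ∀ s ∈ S, s * d = d * s := hcc y hy c hgS
  clear_value d
  -- commutators are powers of `d`
  set M : Subgroup S := (centralizer ({c} : Set G)).subgroupOf S with hM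
  have hMmem : ∀ s : S, s ∈ M ↔ (s : G) * c = c * s := fun s => by
    rw [hM, mem_subgroupOf, mem_centralizer_singleton_iff]
  have hMne : M ≠ ⊤ := fun h => hyc ((hMmem ⟨y, hy⟩).1 (by rw [h]; exact mem_top _))
  have hMn : M.Normal := ⟨fun m hm s => (hMmem _).2 (by
    have h1 : ⁅(s : G), (m : G)⁆ * c = c * ⁅(s : G), (m : G)⁆ := (hcc s s.2 m m.2 c hgS).symm
    have h2 : ((s * m * s⁻¹ : S) : G) = ⁅(s : G), (m : G)⁆ * m := by
      show (s : G) * m * (s : G)⁻¹ = _
      rw [commutatorElement_def]; group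
    rw [h2, mul_assoc, (hMmem m).1 hm, ← mul_assoc, h1, mul_assoc])⟩
  haveI : Group.IsNilpotent S := P.2.isNilpotent
  haveI := hMn
  have hMab := comm_of_normal hG M hMne
  have hyp : Commute (y ^ p) c := by
    obtain ⟨N, hN, hle⟩ := (eq_top_or_exists_le_coatom M).resolve_left hMne
    haveI : N.Normal := Subgroup.NormalizerCondition.normal_of_coatom N normalizerCondition_of_isNilpotent hN
    have hNab := comm_of_normal hG N hN.1
    have h1 : (⟨y, hy⟩ : S) ^ p ∈ N :=
      frattini_le_coatom hN ((RankBound.mem_frattini P.2).2 ⟨y, hy⟩)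
    exact congrArg Subtype.val (hNab _ h1 ⟨c, hgS⟩ (hle ((hMmem _).2 rfl)))
  have hpowc : ∀ i : ℕ, y ^ i * c = d ^ i * c * y ^ i := by
    intro i
    induction i with
    | zero => simp
    | succ i ih =>
      have h1 : y * c = d * c * y := by rw [hd, commutatorElement_def]; group
      have h2 : y * d ^ i = d ^ i * y := ((show Commute y d from hdc y hy).pow_right i).eq
      calc y ^ (i + 1) * c = y * (y ^ i * c) := by rw [pow_succ', mul_assoc]
        _ = y * d ^ i * c * y ^ i := by rw [ih]; simp only [mul_assoc]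
        _ = d ^ i * (y * c) * y ^ i := by rw [h2]; simp only [mul_assoc]
        _ = d ^ i * d * c * (y * y ^ i) := by rw [h1]; simp only [mul_assoc]
        _ = d ^ (i + 1) * c * y ^ (i + 1) := by rw [← pow_succ, ← pow_succ']
  have hdp : d ^ p = 1 := by
    have h1 := hpowc p
    rw [hyp.eq] at h1
    have h2 := mul_right_cancel h1
    exact mul_eq_right.1 h2.symm
  have hgen : ∀ u ∈ S, ∀ v ∈ S, ⁅u, v⁆ ∈ zpowers d := by
    -- the subgroup generated by the centre, `c` and `y`
    set W : Subgroup S := center S ⊔ closure {(⟨c, hgS⟩ : S), ⟨y, hy⟩} with hW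
    have hcW : (⟨c, hgS⟩ : S) ∈ W := mem_sup_right (subset_closure (by simp))
    have hyW : (⟨y, hy⟩ : S) ∈ W := mem_sup_right (subset_closure (by simp))
    have hWtop : W = ⊤ := by
      by_contra hne
      obtain ⟨N, hN, hle⟩ := (eq_top_or_exists_le_coatom W).resolve_left hne
      haveI : N.Normal := Subgroup.NormalizerCondition.normal_of_coatom N normalizerCondition_of_isNilpotent hN
      exact hyc (congrArg Subtype.val (comm_of_normal hG N hN.1 _ (hle hyW) _ (hle hcW)))
    intro u hu v hv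
    have hkey : ∀ b : G, b ∈ S → ⁅y, b⁆ ∈ zpowers d → ⁅c, b⁆ ∈ zpowers d → ⁅u, b⁆ ∈ zpowers d := by
      intro b hb hyb hcb
      let Hb : Subgroup S :=
        { carrier := {s : S | ⁅(s : G), b⁆ ∈ zpowers d}
          one_mem' := by simp
          mul_mem' := fun {s t} hs ht => by
            show ⁅(s : G) * t, b⁆ ∈ zpowers d
            have : ⁅(s : G) * t, b⁆ = (s : G) * ⁅(t : G), b⁆ * (s : G)⁻¹ * ⁅(s : G), b⁆ := by
              simp only [commutatorElement_def]; group
            rw [this, hcc t t.2 b hb s s.2, mul_inv_cancel_right]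
            exact mul_mem ht hs
          inv_mem' := fun {s} hs => by
            show ⁅(s : G)⁻¹, b⁆ ∈ zpowers d
            have : ⁅(s : G)⁻¹, b⁆ = (s : G)⁻¹ * ⁅(s : G), b⁆⁻¹ * s := by
              simp only [commutatorElement_def]; group
            rw [this, show (s : G)⁻¹ * ⁅(s : G), b⁆⁻¹ * s = ⁅(s : G), b⁆⁻¹ by
              rw [mul_assoc, ← (show Commute (s : G) ⁅(s : G), b⁆⁻¹ from
                (show Commute (s : G) ⁅(s : G), b⁆ from hcc s s.2 b hb s s.2).inv_right).eq, inv_mul_cancel_left]]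
            exact inv_mem hs }
      have hle : W ≤ Hb := by
        refine sup_le (fun z hz => ?_) ((closure_le _).2 ?_)
        · show ⁅(z : G), b⁆ ∈ zpowers d
          rw [commutatorElement_eq_one_iff_commute.2
            (show Commute (z : G) b from (congrArg Subtype.val (mem_center_iff.1 hz ⟨b, hb⟩)).symm)]
          exact one_mem _
        · rintro s (rfl | rfl)
          · exact hcb
          · exact hyb
      exact hle (show (⟨u, hu⟩ : S) ∈ W by rw [hWtop]; exact mem_top _)
    let Hu : Subgroup S :=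
      { carrier := {s : S | ⁅u, (s : G)⁆ ∈ zpowers d}
        one_mem' := by simp
        mul_mem' := fun {s t} hs ht => by
          show ⁅u, (s : G) * t⁆ ∈ zpowers d
          have : ⁅u, (s : G) * t⁆ = ⁅u, (s : G)⁆ * ((s : G) * ⁅u, (t : G)⁆ * (s : G)⁻¹) := by
            simp only [commutatorElement_def]; group
          rw [this, hcc u hu t t.2 s s.2, mul_inv_cancel_right]
          exact mul_mem hs ht
        inv_mem' := fun {s} hs => by
          show ⁅u, (s : G)⁻¹⁆ ∈ zpowers d
          have : ⁅u, (s : G)⁻¹⁆ = (s : G)⁻¹ * ⁅u, (s : G)⁆⁻¹ * s := by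
            simp only [commutatorElement_def]; group
          rw [this, show (s : G)⁻¹ * ⁅u, (s : G)⁆⁻¹ * s = ⁅u, (s : G)⁆⁻¹ by
            rw [mul_assoc, ← (show Commute (s : G) ⁅u, (s : G)⁆⁻¹ from
              (show Commute (s : G) ⁅u, (s : G)⁆ from hcc u hu s s.2 s s.2).inv_right).eq, inv_mul_cancel_left]]
          exact inv_mem hs }
    have hle : W ≤ Hu := by
      refine sup_le (fun z hz => ?_) ((closure_le _).2 ?_)
      · show ⁅u, (z : G)⁆ ∈ zpowers d
        rw [commutatorElement_eq_one_iff_commute.2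
          (show Commute u (z : G) from congrArg Subtype.val (mem_center_iff.1 hz ⟨u, hu⟩))]
        exact one_mem _
      · rintro s (rfl | rfl)
        · exact hkey c hgS (by rw [← hd]; exact mem_zpowers d) (by simp)
        · refine hkey y hy (by simp) ?_
          rw [← commutatorElement_inv]
          exact inv_mem (by rw [← hd]; exact mem_zpowers d)
    exact hle (show (⟨v, hv⟩ : S) ∈ W by rw [hWtop]; exact mem_top _)
  have hderd : ⁅S, S⁆ ≤ zpowers d := commutator_le.2 hgen
  have hwd : w ∈ zpowers d := hderd hw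
  have hc1 : c ≠ 1 := fun h => hyc (by rw [h, mul_one, one_mul])
  have hdord : orderOf d = p := orderOf_eq_prime hdp hd1
  have hwgen : zpowers w = zpowers d := by
    refine Subgroup.eq_of_le_of_card_ge (zpowers_le.2 hwd) ?_
    rw [Nat.card_zpowers, Nat.card_zpowers, hdord]
    refine le_of_eq (orderOf_eq_prime ?_ fun h => hc1 (by rw [hc, h, mul_one, mul_inv_cancel])).symm
    obtain ⟨i, hi⟩ := mem_zpowers_iff.1 hwd
    rw [← hi, ← zpow_natCast, ← zpow_mul, mul_comm, zpow_mul, zpow_natCast, hdp, one_zpow]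
  -- a Sylow subgroup of the centraliser of `c`
  set R := S.map (MulAut.conj g).toMonoidHom with hR
  have hRcard : Nat.card R = Nat.card S := Subgroup.card_map_of_injective (MulAut.conj g).injective
  have hRcomm : ∀ r ∈ R, r * c = c * r := by
    rintro _ ⟨s, hs, rfl⟩
    show g * s * g⁻¹ * c = c * (g * s * g⁻¹)
    have h1 : s * w = w * s := mem_centralizer_iff.1 (hderZ hw).2 s hs
    rw [hc]
    calc g * s * g⁻¹ * (g * w * g⁻¹) = g * (s * w) * g⁻¹ := by group
      _ = g * (w * s) * g⁻¹ := by rw [h1]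
      _ = g * w * g⁻¹ * (g * s * g⁻¹) := by group
  set C := centralizer ({c} : Set G) with hC
  have hRp : IsPGroup p R := P.2.map _
  have hRC : R ≤ C := fun r hr => mem_centralizer_singleton_iff.2 (hRcomm r hr)
  set MG := M.map S.subtype with hMG
  have hMGC : MG ≤ C := by
    rintro _ ⟨m, hm, rfl⟩
    exact mem_centralizer_singleton_iff.2 ((hMmem m).1 hm)
  obtain ⟨Q0, hQ0⟩ := ((P.2.to_subgroup M).map S.subtype |>.comap_subtype (K := C)).exists_le_sylow
  obtain ⟨R0, hR0⟩ := (hRp.comap_subtype (K := C)).exists_le_sylow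
  obtain ⟨h, hh⟩ := MulAction.exists_smul_eq (↥C) R0 Q0
  set Q := S.map (MulAut.conj ((h : G) * g)).toMonoidHom with hQ
  have hQR : ∀ x, x ∈ Q ↔ (h : G)⁻¹ * x * h ∈ R := by
    intro x
    simp only [hQ, hR, mem_map, MulEquiv.coe_toMonoidHom, MulAut.conj_apply, mul_inv_rev]
    constructor
    · rintro ⟨s, hs, rfl⟩; exact ⟨s, hs, by group⟩
    · rintro ⟨s, hs, hx⟩
      refine ⟨s, hs, ?_⟩
      have := congrArg (fun t => (h : G) * t * (h : G)⁻¹) hx
      simpa [mul_assoc] using this
  have hhc : (h : G) * c = c * h := mem_centralizer_singleton_iff.1 h.2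
  have hQC : ∀ x ∈ Q, x * c = c * x := by
    intro x hx
    have h1 := hRcomm _ ((hQR x).1 hx)
    calc x * c = h * ((h : G)⁻¹ * x * h) * ((h : G)⁻¹ * c) := by group
      _ = h * ((h : G)⁻¹ * x * h) * (c * (h : G)⁻¹) := by
          rw [(show Commute (h : G) c from hhc).inv_left.eq]
      _ = h * ((h : G)⁻¹ * x * h * c) * (h : G)⁻¹ := by group
      _ = h * (c * ((h : G)⁻¹ * x * h)) * (h : G)⁻¹ := by rw [h1]
      _ = h * c * (h : G)⁻¹ * x := by group
      _ = c * x := by rw [hhc, mul_inv_cancel_right]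
  have hQp : IsPGroup p Q := P.2.map _
  have hQcard : Nat.card Q = Nat.card S := Subgroup.card_map_of_injective (MulAut.conj _).injective
  -- `M` lies in `Q`
  have hMQ : MG ≤ Q := by
    have hR0' : (R0 : Subgroup C) = R.subgroupOf C := by
      symm
      refine Subgroup.eq_of_le_of_card_ge hR0 ?_
      rw [Nat.card_congr (Subgroup.subgroupOfEquivOfLe hRC).toEquiv, hRcard]
      have h1 := (R0.2.map C.subtype)
      obtain ⟨T, hT⟩ := h1.exists_le_sylow
      rw [← Subgroup.card_map_of_injective C.subtype_injective]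
      exact (Subgroup.card_le_of_le hT).trans_eq (Nat.card_congr (Sylow.equiv T P).toEquiv)
    intro m hm
    rw [hQR]
    have h1 : (⟨m, hMGC hm⟩ : C) ∈ (Q0 : Subgroup C) := hQ0 hm
    rw [← hh] at h1
    have h2 : h⁻¹ * ⟨m, hMGC hm⟩ * h ∈ (R0 : Subgroup C) := by
      have := Subgroup.mem_pointwise_smul_iff_inv_smul_mem.1 (show (⟨m, hMGC hm⟩ : C) ∈
        MulAut.conj h • (R0 : Subgroup C) from h1)
      simpa [MulAut.smul_def] using this
    rw [hR0', mem_subgroupOf] at h2
    exact h2
  have hQder : ∀ u ∈ Q, ∀ v ∈ Q, ⁅u, v⁆ ∈ zpowers c := by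
    rintro _ ⟨u, hu, rfl⟩ _ ⟨v, hv, rfl⟩
    have h1 : ⁅u, v⁆ ∈ zpowers w := by rw [hwgen]; exact hgen u hu v hv
    rw [← map_commutatorElement]
    obtain ⟨i, hi⟩ := mem_zpowers_iff.1 h1
    rw [← hi, map_zpow]
    refine zpow_mem ?_ i
    show (h : G) * g * w * ((h : G) * g)⁻¹ ∈ zpowers c
    have : (h : G) * g * w * ((h : G) * g)⁻¹ = c := by
      rw [mul_inv_rev, show (h : G) * g * w * (g⁻¹ * (h : G)⁻¹) = (h : G) * c * (h : G)⁻¹ by rw [hc]; group, hhc,
        mul_inv_cancel_right]
    rw [this]; exact mem_zpowers c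
  have hdQ : d ∈ Q := hMQ ⟨⟨d, hdS⟩, (hMmem _).2 (show d * c = c * d from (hdc c hgS).symm), rfl⟩
  have hcp : c ^ p = 1 := by
    obtain ⟨i, hi⟩ := mem_zpowers_iff.1 hwd
    rw [hc, conj_pow, ← hi, ← zpow_natCast, ← zpow_mul, mul_comm i, zpow_mul, zpow_natCast, hdp, one_zpow, mul_one,
      mul_inv_cancel]
  -- the group generated by the two Sylow subgroups and the plane `V`
  set Y := S ⊔ Q with hY
  have hSY : S ≤ Y := le_sup_left
  have hQY : Q ≤ Y := le_sup_right
  set V := closure ({d, c} : Set G) with hV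
  have hdV : d ∈ V := subset_closure (by simp)
  have hcV : c ∈ V := subset_closure (by simp)
  have hVform : ∀ v ∈ V, ∃ i j : ℤ, v = d ^ i * c ^ j := by
    intro v hv
    have hcomm : Commute c d := hdc c hgS
    induction hv using closure_induction with
    | mem v hv =>
      rcases hv with rfl | rfl
      · exact ⟨1, 0, by simp⟩
      · exact ⟨0, 1, by simp⟩
    | one => exact ⟨0, 0, by simp⟩
    | mul a b _ _ ha hb =>
      obtain ⟨i, j, rfl⟩ := ha
      obtain ⟨i', j', rfl⟩ := hb
      refine ⟨i + i', j + j', ?_⟩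
      rw [zpow_add, zpow_add, mul_assoc, ← mul_assoc (c ^ j), (hcomm.zpow_zpow j i').eq]
      simp only [mul_assoc]
    | inv a _ ha =>
      obtain ⟨i, j, rfl⟩ := ha
      exact ⟨-i, -j, by rw [mul_inv_rev, ← zpow_neg, ← zpow_neg, (hcomm.zpow_zpow (-j) (-i)).eq]⟩
  have hVp : ∀ v ∈ V, v ^ p = 1 := by
    intro v hv
    obtain ⟨i, j, rfl⟩ := hVform v hv
    rw [((show Commute d c from (hdc c hgS).symm).zpow_zpow i j).mul_pow, ← zpow_natCast, ← zpow_natCast, ← zpow_mul,
      ← zpow_mul, mul_comm i, mul_comm j, zpow_mul, zpow_mul, zpow_natCast, zpow_natCast, hdp, hcp, one_zpow, one_zpow,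
      one_mul]
  have hconjV : ∀ x, x * d * x⁻¹ ∈ V → x * c * x⁻¹ ∈ V → ∀ v ∈ V, x * v * x⁻¹ ∈ V := by
    intro x h1 h2 v hv
    have : V ≤ V.comap (MulAut.conj x).toMonoidHom := (closure_le _).2 (by
      rintro a (rfl | rfl)
      · exact h1
      · exact h2)
    exact this hv
  have hVY : ∀ x ∈ Y, ∀ v ∈ V, x * v * x⁻¹ ∈ V := by
    have hle : Y ≤ normalizer (V : Set G) := by
      refine sup_le (fun x hx => ?_) (fun x hx => ?_) <;> refine mem_normalizer_iff_conj_image_eq.2 ?_ <;>
        refine Set.eq_of_subset_of_ncard_le ?_ (by rw [Set.ncard_image_of_injective _ (MulAut.conj x).injective])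
      · rintro _ ⟨v, hv, rfl⟩
        refine hconjV x ?_ ?_ v hv
        · rw [hdc x hx, mul_inv_cancel_right]; exact hdV
        · rw [show x * c * x⁻¹ = ⁅x, c⁆ * c by rw [commutatorElement_def]; group]
          exact mul_mem ((zpowers_le.2 hdV) (hgen x hx c hgS)) hcV
      · rintro _ ⟨v, hv, rfl⟩
        refine hconjV x ?_ ?_ v hv
        · rw [show x * d * x⁻¹ = ⁅x, d⁆ * d by rw [commutatorElement_def]; group]
          exact mul_mem ((zpowers_le.2 hcV) (hQder x hx d hdQ)) hdV
        · rw [hQC x hx, mul_inv_cancel_right]; exact hcV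
    exact fun x hx v hv => (mem_normalizer_iff.1 (hle hx) v).1 hv
  have hnotQc : ¬ ∀ x ∈ S, x * c = c * x := fun h => hyc (h y hy)
  by_cases hperf : commutator Y = ⊤
  · -- the action on `V` contains all transvections
    by_cases hfix : ∀ x ∈ Q, x * d = d * x
    · -- a homomorphism onto an abelian group
      let F : Subgroup Y :=
        { carrier := {x : Y | (x : G) * d = d * x ∧ (x : G) * c * (x : G)⁻¹ * c⁻¹ ∈ zpowers d}
          one_mem' := by simp
          mul_mem' := fun {a b} ha hb => by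
            refine ⟨?_, ?_⟩
            · show (a : G) * b * d = d * (a * b)
              rw [mul_assoc, hb.1, ← mul_assoc, ha.1, mul_assoc]
            · show (a : G) * b * c * ((a : G) * b)⁻¹ * c⁻¹ ∈ zpowers d
              have e : (a : G) * b * c * ((a : G) * b)⁻¹ * c⁻¹ =
                  (a : G) * ((b : G) * c * (b : G)⁻¹ * c⁻¹) * (a : G)⁻¹ * ((a : G) * c * (a : G)⁻¹ * c⁻¹) := by group
              obtain ⟨i, hi⟩ := mem_zpowers_iff.1 hb.2
              rw [e, ← hi, (show Commute (a : G) d from ha.1).zpow_right i |>.eq, mul_inv_cancel_right, hi]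
              exact mul_mem hb.2 ha.2
          inv_mem' := fun {a} ha => by
            refine ⟨(show Commute (a : G) d from ha.1).inv_left.eq, ?_⟩
            show (a : G)⁻¹ * c * (a : G)⁻¹⁻¹ * c⁻¹ ∈ zpowers d
            obtain ⟨i, hi⟩ := mem_zpowers_iff.1 ha.2
            have e : (a : G)⁻¹ * c * (a : G)⁻¹⁻¹ * c⁻¹ = (a : G)⁻¹ * ((a : G) * c * (a : G)⁻¹ * c⁻¹)⁻¹ * a := by group
            rw [e, ← hi, ← zpow_neg, mul_assoc,
              ← ((show Commute (a : G) d from ha.1).zpow_right (-i)).eq, inv_mul_cancel_left]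
            exact zpow_mem (mem_zpowers d) _ }
      have hFS : S.subgroupOf Y ≤ F := fun x hx => ⟨hdc x hx, by
        rw [← commutatorElement_def]; exact hgen x hx c hgS⟩
      have hFQ : Q.subgroupOf Y ≤ F := fun x hx => ⟨hfix x hx, by
        rw [hQC x hx, mul_inv_cancel_right, mul_inv_cancel]; exact one_mem _⟩
      have hFtop : ∀ x : Y, x ∈ F := by
        intro x
        have : Y ≤ F.map Y.subtype := sup_le
          (fun s hs => ⟨⟨s, hSY hs⟩, hFS hs, rfl⟩) (fun s hs => ⟨⟨s, hQY hs⟩, hFQ hs, rfl⟩)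
        obtain ⟨x', hx', he⟩ := this x.2
        rwa [← Subtype.ext he]
      letI : CommGroup (zpowers d) := IsCyclic.commGroup
      let ψ : Y →* zpowers d :=
        { toFun := fun x => ⟨(x : G) * c * (x : G)⁻¹ * c⁻¹, (hFtop x).2⟩
          map_one' := Subtype.ext (by show (1 : G) * c * (1 : G)⁻¹ * c⁻¹ = 1; group)
          map_mul' := fun x z => by
            refine Eq.trans (Subtype.ext ?_) (mul_comm (⟨_, (hFtop z).2⟩ : zpowers d) ⟨_, (hFtop x).2⟩)
            show (x : G) * z * c * ((x : G) * z)⁻¹ * c⁻¹ =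
              ((z : G) * c * (z : G)⁻¹ * c⁻¹) * ((x : G) * c * (x : G)⁻¹ * c⁻¹)
            have e : (x : G) * z * c * ((x : G) * z)⁻¹ * c⁻¹ =
                (x : G) * ((z : G) * c * (z : G)⁻¹ * c⁻¹) * (x : G)⁻¹ * ((x : G) * c * (x : G)⁻¹ * c⁻¹) := by group
            obtain ⟨i, hi⟩ := mem_zpowers_iff.1 (hFtop z).2
            rw [e, ← hi, ((show Commute (x : G) d from (hFtop x).1).zpow_right i).eq, mul_inv_cancel_right] }
      have h1 : ψ ⟨y, hSY hy⟩ = 1 :=
        Abelianization.commutator_subset_ker ψ (show (⟨y, hSY hy⟩ : Y) ∈ commutator Y by rw [hperf]; exact mem_top _)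
      exact hd1 (by rw [hd, commutatorElement_def]; exact congrArg Subtype.val h1)
    · push Not at hfix
      obtain ⟨x0, hx0, hx0d⟩ := hfix
      -- an element of `Q` acting as a transvection
      obtain ⟨k, hk⟩ := mem_zpowers_iff.1 (hQder x0 hx0 d hdQ)
      have hk1 : c ^ k ≠ 1 := fun h => hx0d (by
        rw [hk] at h
        exact (commutatorElement_eq_one_iff_commute.1 h).eq)
      have hkgen : zpowers (c ^ k) = zpowers c := by
        refine Subgroup.eq_of_le_of_card_ge (zpowers_le.2 (zpow_mem (mem_zpowers c) k)) ?_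
        rw [Nat.card_zpowers, Nat.card_zpowers, orderOf_eq_prime hcp hc1,
          orderOf_eq_prime (by rw [← zpow_natCast, ← zpow_mul, mul_comm, zpow_mul, zpow_natCast, hcp, one_zpow]) hk1]
      obtain ⟨b, hb⟩ := mem_zpowers_iff.1 (show c⁻¹ ∈ zpowers (c ^ k) by rw [hkgen]; exact inv_mem (mem_zpowers c))
      have hxb : ∀ n : ℤ, x0 ^ n * d * (x0 ^ n)⁻¹ = (c ^ k) ^ n * d := by
        intro n
        have hbase : x0 * d * x0⁻¹ = c ^ k * d := by rw [hk, commutatorElement_def]; group
        have hcq : ∀ m : ℤ, x0 * (c ^ k) ^ m * x0⁻¹ = (c ^ k) ^ m := fun m => by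
          rw [(((show Commute x0 c from hQC x0 hx0).zpow_right k).zpow_right m).eq, mul_inv_cancel_right]
        induction n with
        | zero => simp
        | succ n ih =>
          calc x0 ^ ((n : ℤ) + 1) * d * (x0 ^ ((n : ℤ) + 1))⁻¹ = x0 * (x0 ^ (n : ℤ) * d * (x0 ^ (n : ℤ))⁻¹) * x0⁻¹ := by group
            _ = x0 * ((c ^ k) ^ (n : ℤ) * d) * x0⁻¹ := by rw [ih]
            _ = x0 * (c ^ k) ^ (n : ℤ) * x0⁻¹ * (x0 * d * x0⁻¹) := by group
            _ = (c ^ k) ^ (n : ℤ) * (c ^ k * d) := by rw [hcq, hbase]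
            _ = _ := by rw [← mul_assoc, ← zpow_add_one]
        | pred n ih =>
          apply mul_left_cancel (a := x0)
          apply mul_right_cancel (b := x0⁻¹)
          calc x0 * (x0 ^ (-(n : ℤ) - 1) * d * (x0 ^ (-(n : ℤ) - 1))⁻¹) * x0⁻¹
              = x0 ^ (-(n : ℤ)) * d * (x0 ^ (-(n : ℤ)))⁻¹ := by group
            _ = (c ^ k) ^ (-(n : ℤ)) * d := ih
            _ = (c ^ k) ^ (-(n : ℤ) - 1) * (c ^ k * d) := by rw [← mul_assoc, ← zpow_add_one, sub_add_cancel]
            _ = x0 * (c ^ k) ^ (-(n : ℤ) - 1) * x0⁻¹ * (x0 * d * x0⁻¹) := by rw [hcq, hbase]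
            _ = _ := by group
      set x := x0 ^ b with hx
      have hxQ : x ∈ Q := zpow_mem hx0 b
      have hxd : x * d * x⁻¹ = c⁻¹ * d := by rw [hx, hxb, hb]
      have hxc : x * c * x⁻¹ = c := by rw [hQC x hxQ, mul_inv_cancel_right]
      have hyd : y * d * y⁻¹ = d := by rw [hdc y hy, mul_inv_cancel_right]
      have hyc' : y * c * y⁻¹ = d * c := by rw [hd, commutatorElement_def]; group
      have hcomm : c * d = d * c := hdc c hgS
      set o := y * x * y with ho
      have hoY : o ∈ Y := mul_mem (mul_mem (hSY hy) (hQY hxQ)) (hSY hy)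
      have conj3 : ∀ v, o * v * o⁻¹ = y * (x * (y * v * y⁻¹) * x⁻¹) * y⁻¹ := fun v => by rw [ho]; group
      have conjinv : ∀ z v : G, z * v⁻¹ * z⁻¹ = (z * v * z⁻¹)⁻¹ := fun z v => by group
      have conjmul : ∀ z v v' : G, z * (v * v') * z⁻¹ = z * v * z⁻¹ * (z * v' * z⁻¹) := fun z v v' => by group
      have hod : o * d * o⁻¹ = c⁻¹ := by
        rw [conj3, hyd, hxd, conjmul, conjinv, hyc', hyd, mul_inv_rev, inv_mul_cancel_right]
      have hoc : o * c * o⁻¹ = d := by
        rw [conj3, hyc', conjmul x, hxd, hxc, mul_assoc c⁻¹, ← hcomm, inv_mul_cancel_left, hyd]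
      have hood : (o * o) * d * (o * o)⁻¹ = d⁻¹ := by
        rw [show (o * o) * d * (o * o)⁻¹ = o * (o * d * o⁻¹) * o⁻¹ by group, hod, conjinv, hoc]
      have hooc : (o * o) * c * (o * o)⁻¹ = c⁻¹ := by
        rw [show (o * o) * c * (o * o)⁻¹ = o * (o * c * o⁻¹) * o⁻¹ by group, hoc, hod]
      by_cases hp2 : p = 2
      · -- parity of the permutation of `V`
        subst hp2
        haveI : Finite V := inferInstance
        letI : Fintype V := Fintype.ofFinite V
        letI : MulAction Y V :=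
          { smul := fun z v => ⟨(z : G) * v * (z : G)⁻¹, hVY z z.2 v v.2⟩
            one_smul := fun v => Subtype.ext (by show (1 : G) * v * (1 : G)⁻¹ = v; group)
            mul_smul := fun a b v => Subtype.ext (by
              show (a : G) * b * v * ((a : G) * b)⁻¹ = a * (b * v * (b : G)⁻¹) * (a : G)⁻¹
              group) }
        have h1 : (Equiv.Perm.sign : Equiv.Perm V →* ℤˣ).comp (MulAction.toPermHom Y V) ⟨y, hSY hy⟩ = 1 :=
          Abelianization.commutator_subset_ker _ (show (⟨y, hSY hy⟩ : Y) ∈ commutator Y by rw [hperf]; exact mem_top _)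
        have hcdd : d * c ∈ V := mul_mem hdV hcV
        have hswap : MulAction.toPermHom Y V ⟨y, hSY hy⟩ = Equiv.swap ⟨c, hcV⟩ ⟨d * c, hcdd⟩ := by
          have hinv : ∀ t : G, t ^ 2 = 1 → t⁻¹ = t := fun t ht => inv_eq_of_mul_eq_one_right (by rw [← pow_two, ht])
          have hdd : d * d = 1 := by rw [← pow_two, hdp]
          have hzp : ∀ (t : G), t ^ 2 = 1 → ∀ i : ℤ, t ^ i = 1 ∨ t ^ i = t := by
            intro t ht i
            rcases Int.even_or_odd' i with ⟨m, rfl | rfl⟩
            · exact Or.inl (by rw [zpow_mul, zpow_two, ← pow_two, ht, one_zpow])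
            · exact Or.inr (by rw [zpow_add_one, zpow_mul, zpow_two, ← pow_two, ht, one_zpow, one_mul])
          refine Equiv.ext fun v => Subtype.ext ?_
          obtain ⟨i, j, hv⟩ := hVform v v.2
          show y * (v : G) * y⁻¹ = _
          rcases hzp d hdp i with hi | hi <;> rcases hzp c hcp j with hj | hj <;> rw [hi, hj] at hv
          · rw [Equiv.swap_apply_of_ne_of_ne (fun h => hc1 (((congrArg Subtype.val h).symm.trans hv).trans (one_mul 1)))
              (fun h => by
                have h2 : d * c = 1 := ((congrArg Subtype.val h).symm.trans hv).trans (one_mul 1)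
                have h3 : c = d := by rw [← inv_eq_of_mul_eq_one_right h2, hinv d hdp]
                exact hyc (by rw [h3]; exact hdc y hy)), hv, one_mul, mul_one, mul_inv_cancel]
          · rw [show v = ⟨c, hcV⟩ from Subtype.ext (hv.trans (one_mul c)), Equiv.swap_apply_left]
            exact hyc'
          · rw [Equiv.swap_apply_of_ne_of_ne
              (fun h => hyc (by rw [show c = d from (congrArg Subtype.val h).symm.trans (hv.trans (mul_one d))]; exact hdc y hy))
              (fun h => hc1 (mul_eq_left.1 ((congrArg Subtype.val h).symm.trans (hv.trans (mul_one d))))),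
              hv, mul_one, hyd]
          · rw [show v = ⟨d * c, hcdd⟩ from Subtype.ext hv, Equiv.swap_apply_right]
            show y * (d * c) * y⁻¹ = c
            rw [conjmul, hyd, hyc', ← mul_assoc, hdd, one_mul]
        rw [MonoidHom.comp_apply, hswap, Equiv.Perm.sign_swap (fun h => hd1
          (mul_eq_right.1 (congrArg Subtype.val h).symm))] at h1
        exact absurd h1 (by decide)
      · -- the scalars form a normal subgroup
        let K : Subgroup Y :=
          { carrier := {z : Y | (∀ v ∈ V, (z : G) * v * (z : G)⁻¹ = v) ∨ ∀ v ∈ V, (z : G) * v * (z : G)⁻¹ = v⁻¹}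
            one_mem' := Or.inl fun v _ => by show (1 : G) * v * (1 : G)⁻¹ = v; group
            mul_mem' := fun {a b} ha hb => by
              have e : ∀ v, ((a * b : Y) : G) * v * ((a * b : Y) : G)⁻¹ =
                  (a : G) * ((b : G) * v * (b : G)⁻¹) * (a : G)⁻¹ := fun v => by rw [Subgroup.coe_mul]; group
              rcases ha with ha | ha <;> rcases hb with hb | hb
              · exact Or.inl fun v hv => by rw [e, hb v hv, ha v hv]
              · exact Or.inr fun v hv => by rw [e, hb v hv, ha _ (inv_mem hv)]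
              · exact Or.inr fun v hv => by rw [e, hb v hv, ha v hv]
              · exact Or.inl fun v hv => by rw [e, hb v hv, ha _ (inv_mem hv), inv_inv]
            inv_mem' := fun {a} ha => by
              rcases ha with ha | ha
              · refine Or.inl fun v hv => ?_
                conv_lhs => rw [← ha v hv, Subgroup.coe_inv]
                group
              · refine Or.inr fun v hv => ?_
                conv_lhs => rw [← inv_inv v, ← ha v hv, Subgroup.coe_inv]
                group }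
        haveI : K.Normal := ⟨fun z hz a => by
          have hV' : ∀ v ∈ V, (a : G)⁻¹ * v * a ∈ V := fun v hv => by
            have := hVY (a⁻¹ : Y) (a⁻¹ : Y).2 v hv
            rwa [Subgroup.coe_inv, inv_inv] at this
          rcases hz with hz | hz
          · refine Or.inl fun v hv => ?_
            calc ((a * z * a⁻¹ : Y) : G) * v * ((a * z * a⁻¹ : Y) : G)⁻¹
                = (a : G) * ((z : G) * ((a : G)⁻¹ * v * a) * (z : G)⁻¹) * (a : G)⁻¹ := by
                  simp only [Subgroup.coe_mul, Subgroup.coe_inv]; group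
              _ = v := by rw [hz _ (hV' v hv)]; group
          · refine Or.inr fun v hv => ?_
            calc ((a * z * a⁻¹ : Y) : G) * v * ((a * z * a⁻¹ : Y) : G)⁻¹
                = (a : G) * ((z : G) * ((a : G)⁻¹ * v * a) * (z : G)⁻¹) * (a : G)⁻¹ := by
                  simp only [Subgroup.coe_mul, Subgroup.coe_inv]; group
              _ = v⁻¹ := by rw [hz _ (hV' v hv)]; group⟩
        have hoo : (⟨o, hoY⟩ * ⟨o, hoY⟩ : Y) ∈ K := Or.inr fun v hv => by
          obtain ⟨i, j, rfl⟩ := hVform v hv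
          show o * o * (d ^ i * c ^ j) * (o * o)⁻¹ = _
          rw [conjmul, ← conj_zpow, ← conj_zpow, hood, hooc, mul_inv_rev, inv_zpow, inv_zpow,
            (((show Commute c d from hdc c hgS).zpow_zpow j i).inv_left.inv_right).eq]
        have hdY : d ∈ Y := hSY hdS
        have hdK : (⟨d, hdY⟩ : Y) ∈ K := Or.inl fun v hv => by
          obtain ⟨i, j, rfl⟩ := hVform v hv
          show d * (d ^ i * c ^ j) * d⁻¹ = _
          rw [((Commute.refl d).zpow_right i).mul_right ((show Commute d c from (hdc c hgS).symm).zpow_right j) |>.eq,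
            mul_inv_cancel_right]
        have hKtop : K ≠ ⊤ := fun h => by
          rcases (show (⟨y, hSY hy⟩ : Y) ∈ K by rw [h]; exact mem_top _) with h1 | h1
          · have := h1 c hcV
            rw [show ((⟨y, hSY hy⟩ : Y) : G) = y from rfl, hyc'] at this
            exact hd1 (mul_eq_right.1 this)
          · have := h1 d hdV
            rw [show ((⟨y, hSY hy⟩ : Y) : G) = y from rfl, hyd] at this
            have h3 : d ^ 2 = 1 := by rw [pow_two]; nth_rewrite 2 [this]; exact mul_inv_cancel d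
            exact hp2 ((Nat.prime_dvd_prime_iff_eq hp.out Nat.prime_two).1 (hdord ▸ orderOf_dvd_of_pow_eq_one h3))
        have h5 : o * o * d = d * (o * o) := congrArg Subtype.val (comm_of_normal hG K hKtop _ hoo _ hdK)
        rw [h5, mul_inv_cancel_right] at hood
        have h3 : d ^ 2 = 1 := by rw [pow_two]; nth_rewrite 2 [hood]; exact mul_inv_cancel d
        exact hp2 ((Nat.prime_dvd_prime_iff_eq hp.out Nat.prime_two).1 (hdord ▸ orderOf_dvd_of_pow_eq_one h3))
  · -- the derived subgroup of `Y` is abelian, so `Q` is conjugate to `S` by an element centralising `c`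
    have hDab := comm_of_normal hG (commutator Y) hperf
    set SY := S.subgroupOf Y with hSYdef
    set W := SY ⊔ commutator Y with hW
    haveI hWn : W.Normal := Subgroup.Normal.of_commutator_le _ le_sup_right
    have hWtop : W = ⊤ := by
      by_contra hne
      exact hPn fun a ha b hb => congrArg Subtype.val (comm_of_normal hG W hne
        ⟨a, hSY ha⟩ (mem_sup_left ha) ⟨b, hSY hb⟩ (mem_sup_left hb))
    -- `Q` is conjugate to `S` inside `Y`
    set PY : Sylow p Y := P.subtype hSY with hPY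
    obtain ⟨QY, hQY'⟩ := (hQp.comap_subtype (K := Y)).exists_le_sylow
    obtain ⟨γ, hγ⟩ := MulAction.exists_smul_eq (↥Y) PY QY
    obtain ⟨r, hr, s, hs, hrs⟩ : ∃ r ∈ commutator Y, ∃ s ∈ SY, r * s = γ :=
      mem_sup_of_normal_left.1 (by rw [sup_comm, ← hW, hWtop]; exact mem_top γ)
    have hQr : ∀ q ∈ Q, (r : G)⁻¹ * q * r ∈ S := by
      intro q hq
      have h1 : (⟨q, hQY hq⟩ : Y) ∈ (QY : Subgroup Y) := hQY' hq
      rw [← hγ] at h1
      have h2 := Subgroup.mem_pointwise_smul_iff_inv_smul_mem.1 (show (⟨q, hQY hq⟩ : Y) ∈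
        MulAut.conj γ • (PY : Subgroup Y) from h1)
      have h3 : ((γ⁻¹ * ⟨q, hQY hq⟩ * γ : Y) : G) ∈ S := by
        simpa [MulAut.smul_def, hPY, Subgroup.mem_subgroupOf, hS] using h2
      rw [← hrs] at h3
      have h4 := S.mul_mem (S.mul_mem (show (s : G) ∈ S from hs) h3) (S.inv_mem (show (s : G) ∈ S from hs))
      simp only [Subgroup.coe_mul, Subgroup.coe_inv] at h4
      convert h4 using 1
      group
    -- split `r` into its `p`-part and the rest
    obtain ⟨e, m, hpm, hord⟩ := Nat.exists_eq_pow_mul_and_not_dvd (orderOf_pos r).ne' p hp.out.ne_one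
    have hcop : Nat.Coprime m (p ^ e) := Nat.Coprime.pow_right _ ((Nat.Prime.coprime_iff_not_dvd hp.out).2 hpm).symm
    obtain ⟨u, v, huv⟩ : ∃ u v : ℤ, (m : ℤ) * u + (p ^ e : ℕ) * v = 1 :=
      ⟨_, _, ((Nat.gcd_eq_gcd_ab m (p ^ e)).symm.trans (by rw [hcop]; rfl))⟩
    set r1 := r ^ ((m : ℤ) * u) with hr1
    set r2 := r ^ (((p ^ e : ℕ) : ℤ) * v) with hr2
    have hr12 : r = r2 * r1 := by rw [hr1, hr2, ← zpow_add, add_comm, huv, zpow_one]
    have hr1p : r1 ^ (p ^ e) = 1 := by
      rw [hr1, ← zpow_natCast, ← zpow_mul, mul_right_comm, ← Nat.cast_mul, mul_comm m, ← hord, zpow_mul, zpow_natCast,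
        pow_orderOf_eq_one, one_zpow]
    have hr2m : r2 ^ m = 1 := by
      rw [hr2, ← zpow_natCast, ← zpow_mul, mul_right_comm, ← Nat.cast_mul, ← hord, zpow_mul, zpow_natCast,
        pow_orderOf_eq_one, one_zpow]
    have hr1D : r1 ∈ commutator Y := zpow_mem hr _
    have hr2D : r2 ∈ commutator Y := zpow_mem hr _
    have hr1S : (r1 : G) ∈ S := by
      have hp1 : IsPGroup p (zpowers r1) := by
        obtain ⟨i, -, hi⟩ := (Nat.dvd_prime_pow hp.out).1 (orderOf_dvd_of_pow_eq_one hr1p)
        exact IsPGroup.of_card (n := i) (by rw [Nat.card_zpowers, hi])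
      obtain ⟨T, hT⟩ := hp1.exists_le_sylow
      obtain ⟨k, hk⟩ := MulAction.exists_smul_eq (↥Y) PY T
      obtain ⟨r', hr', s', hs', hrs'⟩ : ∃ r' ∈ commutator Y, ∃ s' ∈ SY, r' * s' = k :=
        mem_sup_of_normal_left.1 (by rw [sup_comm, ← hW, hWtop]; exact mem_top k)
      have h1 : r1 ∈ (T : Subgroup Y) := hT (mem_zpowers r1)
      rw [← hk] at h1
      have h2 := Subgroup.mem_pointwise_smul_iff_inv_smul_mem.1 (show r1 ∈
        MulAut.conj k • (PY : Subgroup Y) from h1)
      have h3 : ((k⁻¹ * r1 * k : Y) : G) ∈ S := by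
        simpa [MulAut.smul_def, hPY, Subgroup.mem_subgroupOf, hS] using h2
      have hab1 : r'⁻¹ * r1 * r' = r1 := by
        rw [mul_assoc, hDab r1 hr1D r' hr', inv_mul_cancel_left]
      rw [show k⁻¹ * r1 * k = s'⁻¹ * (r'⁻¹ * r1 * r') * s' by rw [← hrs']; group, hab1] at h3
      have h4 := S.mul_mem (S.mul_mem (show (s' : G) ∈ S from hs') h3) (S.inv_mem (show (s' : G) ∈ S from hs'))
      simp only [Subgroup.coe_mul, Subgroup.coe_inv] at h4
      convert h4 using 1
      group
    -- the second part centralises `c`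
    have hr2c : (r2 : G) * c = c * r2 := by
      set e2 := ⁅(r2 : G), c⁆ with he2
      have he2V : e2 ∈ V := by
        rw [he2, commutatorElement_def]
        exact mul_mem (hVY _ r2.2 c hcV) (inv_mem hcV)
      have he2D : ⁅r2, (⟨c, hSY hgS⟩ : Y)⁆ ∈ commutator Y := commutator_mem_commutator (mem_top _) (mem_top _)
      have hcom : (r2 : G) * e2 = e2 * r2 := congrArg Subtype.val (hDab r2 hr2D _ he2D)
      have hpw : ∀ n : ℕ, (r2 : G) ^ n * c = e2 ^ n * c * (r2 : G) ^ n := by
        intro n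
        induction n with
        | zero => simp
        | succ n ih =>
          have h1 : (r2 : G) * c = e2 * c * r2 := by rw [he2, commutatorElement_def]; group
          have h2 : (r2 : G) * e2 ^ n = e2 ^ n * r2 := ((show Commute (r2 : G) e2 from hcom).pow_right n).eq
          calc (r2 : G) ^ (n + 1) * c = r2 * ((r2 : G) ^ n * c) := by rw [pow_succ', mul_assoc]
            _ = r2 * e2 ^ n * c * (r2 : G) ^ n := by rw [ih]; simp only [mul_assoc]
            _ = e2 ^ n * (r2 * c) * (r2 : G) ^ n := by rw [h2]; simp only [mul_assoc]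
            _ = e2 ^ n * e2 * c * (r2 * (r2 : G) ^ n) := by rw [h1]; simp only [mul_assoc]
            _ = e2 ^ (n + 1) * c * (r2 : G) ^ (n + 1) := by rw [← pow_succ, ← pow_succ']
      have h1 := hpw m
      rw [show (r2 : G) ^ m = 1 from congrArg Subtype.val hr2m, one_mul, mul_one] at h1
      have h2 : e2 ^ m = 1 := mul_eq_right.1 h1.symm
      have h3 : orderOf e2 ∣ 1 := by
        rw [← (show Nat.gcd m p = 1 from ((Nat.Prime.coprime_iff_not_dvd hp.out).2 hpm).symm)]
        exact Nat.dvd_gcd (orderOf_dvd_of_pow_eq_one h2) (orderOf_dvd_of_pow_eq_one (hVp e2 he2V))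
      exact (commutatorElement_eq_one_iff_commute.1 (orderOf_eq_one_iff.1 (Nat.dvd_one.1 h3))).eq
    apply hnotQc
    have hmap : Q.map (MulAut.conj (r2 : G)⁻¹).toMonoidHom = S := by
      refine Subgroup.eq_of_le_of_card_ge ?_ ?_
      · rintro _ ⟨q, hq, rfl⟩
        show (r2 : G)⁻¹ * q * ((r2 : G)⁻¹)⁻¹ ∈ S
        have h := S.mul_mem (S.mul_mem hr1S (hQr q hq)) (S.inv_mem hr1S)
        rw [hr12] at h
        simp only [Subgroup.coe_mul] at h
        convert h using 1
        group
      · rw [Subgroup.card_map_of_injective (MulAut.conj (r2 : G)⁻¹).injective, hQcard]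
    intro s hs
    obtain ⟨q, hq, rfl⟩ : s ∈ Q.map (MulAut.conj (r2 : G)⁻¹).toMonoidHom := by rw [hmap]; exact hs
    show (r2 : G)⁻¹ * q * ((r2 : G)⁻¹)⁻¹ * c = c * ((r2 : G)⁻¹ * q * ((r2 : G)⁻¹)⁻¹)
    rw [inv_inv]
    have h5 : (r2 : G)⁻¹ * c = c * (r2 : G)⁻¹ := (show Commute (r2 : G) c from hr2c).inv_left.eq
    calc (r2 : G)⁻¹ * q * r2 * c = (r2 : G)⁻¹ * (q * c) * r2 := by simp only [mul_assoc]; rw [hr2c]
      _ = (r2 : G)⁻¹ * c * q * r2 := by rw [hQC q hq]; simp only [mul_assoc]
      _ = _ := by rw [h5]; simp only [mul_assoc]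

/-- Every centraliser of a non-identity element is abelian. -/
theorem centralizer_comm (hG : Hyp G) (hna : ¬ IsMulCommutative G) {x : G} (hx : x ≠ 1) :
    ∀ a ∈ centralizer ({x} : Set G), ∀ b ∈ centralizer ({x} : Set G), a * b = b * a := by
  classical
  by_contra hCn
  set C := centralizer ({x} : Set G) with hC
  have hnc : ¬ IsMulCommutative C := fun h => hCn fun a ha b hb => comm_of_isMulComm h ha hb
  have hNC : normalizer (C : Set G) = C := hG C hnc
  have hxC : x ∈ C := mem_centralizer_singleton_iff.2 rfl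
  have hxZ : (⟨x, hxC⟩ : C) ∈ center C := mem_center_iff.2 fun g => Subtype.ext (mem_centralizer_singleton_iff.1 g.2)
  have hsyl : ∀ (p : ℕ) [Fact p.Prime] (R : Sylow p C), ∀ a ∈ (R : Subgroup C), ∀ b ∈ (R : Subgroup C),
      a * b = b * a := by
    intro p _ R a ha b hb
    obtain ⟨T, hT⟩ := (R.2.map C.subtype).exists_le_sylow
    exact Subtype.ext (sylow_comm hG hna T a (hT (mem_map_of_mem _ ha)) b (hT (mem_map_of_mem _ hb)))
  have hone := fun (z : C) (h1 : z ∈ center C) (h2 : z ∈ commutator C) => central_commutator_eq_one hsyl h1 h2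
  by_cases hperf : commutator C = ⊤
  · exact hx (congrArg Subtype.val (hone _ hxZ (by rw [hperf]; exact mem_top _)))
  have hDab := comm_of_normal hG (commutator C) hperf
  -- a Sylow subgroup not centralising the derived subgroup
  obtain ⟨q, hq, R, hR⟩ : ∃ (q : ℕ) (_ : Fact q.Prime) (R : Sylow q C),
      ¬ (R : Subgroup C) ≤ centralizer (commutator C : Set C) := by
    by_contra hno
    push Not at hno
    have htop : centralizer (commutator C : Set C) = ⊤ := by
      refine Subgroup.eq_top_of_card_eq _ (Nat.dvd_antisymm (Subgroup.card_subgroup_dvd_card _)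
        ((Nat.dvd_iff_prime_pow_dvd_dvd _ _).2 fun q k hq hd => ?_))
      haveI := Fact.mk hq
      obtain ⟨R⟩ : Nonempty (Sylow q C) := inferInstance
      refine dvd_trans ?_ (Subgroup.card_dvd_of_le (hno q ⟨hq⟩ R))
      rw [R.card_eq_multiplicity]
      exact pow_dvd_pow q ((hq.pow_dvd_iff_le_factorization Nat.card_pos.ne').1 hd)
    apply hCn
    intro a ha b hb
    have h1 : ⁅(⟨a, ha⟩ : C), ⟨b, hb⟩⁆ ∈ commutator C := commutator_mem_commutator (mem_top _) (mem_top _)
    have h2 := hone _ (mem_center_iff.2 fun g => (mem_centralizer_iff.1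
      (show g ∈ centralizer (commutator C : Set C) by rw [htop]; exact mem_top g) _ h1).symm) h1
    exact congrArg Subtype.val (commutatorElement_eq_one_iff_commute.1 h2).eq
  have hW : (R : Subgroup C) ⊔ commutator C = ⊤ := by
    by_contra hne
    haveI : ((R : Subgroup C) ⊔ commutator C).Normal := Subgroup.Normal.of_commutator_le _ le_sup_right
    exact hR fun r hr => mem_centralizer_iff.2 fun c hc =>
      (comm_of_normal hG _ hne r (mem_sup_left hr) c (mem_sup_right hc)).symm
  have hRD : ∀ r ∈ (R : Subgroup C), r ∈ commutator C → r = 1 := by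
    intro r hr hr'
    refine hone r (mem_center_iff.2 fun g => ?_) hr'
    have hle : (R : Subgroup C) ⊔ commutator C ≤ centralizer ({r} : Set C) := sup_le
      (fun t ht => mem_centralizer_singleton_iff.2 (hsyl q R t ht r hr))
      (fun t ht => mem_centralizer_singleton_iff.2 (hDab t ht r hr'))
    exact mem_centralizer_singleton_iff.1 (hle (by rw [hW]; exact mem_top g))
  -- `R` is cyclic
  obtain ⟨s, hs, hsD⟩ := SetLike.not_le_iff_exists.1 hR
  have hcyc : ∀ r ∈ (R : Subgroup C), r ∈ zpowers s := by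
    intro r hr
    by_contra hrs
    set R' := R.1 with hR'
    have hne : (zpowers s).subgroupOf R' ≠ ⊤ := fun h => hrs (by
      have := (show (⟨r, hr⟩ : R') ∈ (zpowers s).subgroupOf R' by rw [h]; exact mem_top _)
      exact this)
    obtain ⟨N, hN, hle⟩ := (eq_top_or_exists_le_coatom _).resolve_left hne
    set NC := N.map R'.subtype with hNC'
    have hne2 : NC ⊔ commutator C ≠ ⊤ := by
      intro h
      apply hN.1
      refine eq_top_iff.2 fun t _ => ?_
      haveI : (commutator C).Normal := inferInstance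
      obtain ⟨n, hn, c, hc, hnc'⟩ := mem_sup_of_normal_right.1 (show (t : C) ∈ NC ⊔ commutator C by rw [h]; exact mem_top _)
      obtain ⟨n', hn', rfl⟩ := hn
      have hcR : c ∈ R' := by
        rw [show c = ((n' : C))⁻¹ * t by rw [← hnc']; exact (inv_mul_cancel_left _ _).symm]
        exact R'.mul_mem (R'.inv_mem n'.2) t.2
      rw [hRD c hcR hc, mul_one] at hnc'
      rwa [← Subtype.ext hnc']
    haveI : (NC ⊔ commutator C).Normal := Subgroup.Normal.of_commutator_le _ le_sup_right
    refine hsD (mem_centralizer_iff.2 fun c hc => ?_)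
    exact (comm_of_normal hG _ hne2 s (mem_sup_left ⟨⟨s, hs⟩, hle (mem_zpowers s), rfl⟩) c (mem_sup_right hc)).symm
  -- the central elements are `q`-elements
  have hxq : (⟨x, hxC⟩ : C) ^ Nat.card R = 1 := by
    refine hone _ (pow_mem hxZ _) ?_
    haveI : (commutator C).Normal := inferInstance
    obtain ⟨r, hr, c, hc, he⟩ := mem_sup_of_normal_right.1 (show (⟨x, hxC⟩ : C) ∈ (R : Subgroup C) ⊔ commutator C by
      rw [hW]; exact mem_top _)
    rw [← QuotientGroup.eq_one_iff, QuotientGroup.mk_pow, ← he, QuotientGroup.mk_mul,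
      (QuotientGroup.eq_one_iff c).2 hc, mul_one, ← QuotientGroup.mk_pow]
    have h1 : (⟨r, hr⟩ : (R : Subgroup C)) ^ Nat.card R = 1 := pow_card_eq_one'
    rw [show r ^ Nat.card R = 1 from congrArg Subtype.val h1, QuotientGroup.mk_one]
  have hxR : (⟨x, hxC⟩ : C) ∈ (R : Subgroup C) := by
    have hp : IsPGroup q (zpowers (⟨x, hxC⟩ : C)) := by
      obtain ⟨k, hk⟩ := IsPGroup.iff_card.1 R.2
      obtain ⟨i, -, hi⟩ := (Nat.dvd_prime_pow hq.out).1 (orderOf_dvd_of_pow_eq_one (hk ▸ hxq))
      exact IsPGroup.of_card (n := i) (by rw [Nat.card_zpowers, hi])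
    obtain ⟨R', hR'⟩ := hp.exists_le_sylow
    obtain ⟨γ, hγ⟩ := MulAction.exists_smul_eq (↥C) R' R
    rw [← hγ]
    refine Subgroup.mem_pointwise_smul_iff_inv_smul_mem.2 ?_
    show (MulAut.conj γ)⁻¹ (⟨x, hxC⟩ : C) ∈ (R' : Subgroup C)
    rw [MulAut.conj_inv_apply, mul_assoc, ← mem_center_iff.1 hxZ γ, inv_mul_cancel_left]
    exact hR' (mem_zpowers _)
  -- the Sylow subgroup of `G`
  obtain ⟨T, hT⟩ := (R.2.map C.subtype).exists_le_sylow
  have hxT : x ∈ (T : Subgroup G) := hT ⟨_, hxR, rfl⟩
  have hTC : (T : Subgroup G) ≤ C := fun t ht => mem_centralizer_singleton_iff.2 (sylow_comm hG hna T t ht x hxT)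
  have hTR : ∀ t (ht : t ∈ (T : Subgroup G)), (⟨t, hTC ht⟩ : C) ∈ (R : Subgroup C) := by
    intro t ht
    have h1 : (R : Subgroup C) ≤ (T : Subgroup G).subgroupOf C := fun r hr => hT ⟨r, hr, rfl⟩
    have h2 := R.3 (T.2.comap_subtype (K := C)) h1
    rw [← h2]
    exact ht
  have hTs : ∀ t ∈ (T : Subgroup G), t ∈ zpowers (s : G) := by
    intro t ht
    obtain ⟨i, hi⟩ := mem_zpowers_iff.1 (hcyc _ (hTR t ht))
    exact ⟨i, congrArg Subtype.val hi⟩
  have hsT : (s : G) ∈ (T : Subgroup G) := hT ⟨s, hs, rfl⟩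
  have hNT : normalizer ((T : Subgroup G) : Set G) ≤ centralizer ((T : Subgroup G) : Set G) := by
    intro t ht
    obtain ⟨i, hi⟩ := mem_zpowers_iff.1 (hTs x hxT)
    obtain ⟨j, hj⟩ := mem_zpowers_iff.1 (hTs _ ((mem_normalizer_iff.1 ht _).1 hsT))
    have h1 : t * x * t⁻¹ = x ^ j := by
      rw [← hi, ← conj_zpow, ← hj, ← zpow_mul, ← zpow_mul, mul_comm]
    have h2 : t ∈ normalizer (C : Set G) := by
      refine mem_normalizer_iff_conj_image_eq.2 (Eq.symm ?_)
      refine Eq.symm (Set.eq_of_subset_of_ncard_le ?_ (by rw [Set.ncard_image_of_injective _ (MulAut.conj t).injective]))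
      rintro _ ⟨c, hc, rfl⟩
      have hgen : zpowers (t * x * t⁻¹) = zpowers x := by
        refine Subgroup.eq_of_le_of_card_ge (zpowers_le.2 (by rw [h1]; exact zpow_mem (mem_zpowers x) j)) ?_
        rw [Nat.card_zpowers, Nat.card_zpowers]
        exact le_of_eq ((MulAut.conj t).orderOf_eq x).symm
      obtain ⟨l, hl⟩ := mem_zpowers_iff.1 (show x ∈ zpowers (t * x * t⁻¹) by rw [hgen]; exact mem_zpowers x)
      refine mem_centralizer_singleton_iff.2 ?_
      have h3 : Commute (MulAut.conj t c) (t * x * t⁻¹) :=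
        (show Commute c x from mem_centralizer_singleton_iff.1 hc).map (MulAut.conj t).toMonoidHom
      have h4 := h3.zpow_right l
      rw [hl] at h4
      exact h4.eq
    rw [hNC] at h2
    obtain ⟨r, hr, c, hc, he⟩ := mem_sup_of_normal_right.1 (show (⟨t, h2⟩ : C) ∈ (R : Subgroup C) ⊔ commutator C by
      rw [hW]; exact mem_top _)
    have hrs : r * s = s * r := hsyl q R r hr s hs
    have hts : (⟨t, h2⟩ : C) * s * (⟨t, h2⟩ : C)⁻¹ ∈ (R : Subgroup C) :=
      hTR _ ((mem_normalizer_iff.1 ht _).1 hsT)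
    have hcs : c * s * c⁻¹ * s⁻¹ = 1 := by
      have h5 : c * s * c⁻¹ ∈ (R : Subgroup C) := by
        have := (R : Subgroup C).mul_mem ((R : Subgroup C).mul_mem ((R : Subgroup C).inv_mem hr) hts) hr
        rw [← he] at this
        convert this using 1
        group
      refine hRD _ ((R : Subgroup C).mul_mem h5 ((R : Subgroup C).inv_mem hs)) ?_
      rw [← commutatorElement_def]
      exact commutator_mem_commutator (mem_top _) (mem_top _)
    have hct : Commute (⟨t, h2⟩ : C) s := by
      rw [← he]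
      exact (show Commute r s from hrs).mul_left (commutatorElement_eq_one_iff_commute.1 (by
        rw [commutatorElement_def]; exact hcs))
    refine mem_centralizer_iff.2 fun u hu => ?_
    obtain ⟨l, rfl⟩ := mem_zpowers_iff.1 (hTs u hu)
    exact ((show Commute t (s : G) from congrArg Subtype.val hct.eq).zpow_right l).symm.eq
  have hker := MonoidHom.ker_transferSylow_isComplement' T hNT
  rcases (inferInstance : (MonoidHom.transferSylow T hNT).ker.Normal).eq_bot_or_eq_top with hk | hk
  · rw [hk, Subgroup.isComplement'_bot_left] at hker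
    exact hna ⟨⟨fun a b => sylow_comm hG hna T a (hker ▸ mem_top a) b (hker ▸ mem_top b)⟩⟩
  · rw [hk, Subgroup.isComplement'_top_left] at hker
    exact hx (mem_bot.1 (hker ▸ hxT))

end CfsgLib.FGS73.SelfNormNonab
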