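import Mathlib
import Cfsg.Agent.Lib.PSL2Sub.Minimal
import Cfsg.Agent.Lib.PSL2Sub.Maximal
import Cfsg.Agent.Lib.FGS73.SelfNormNonab

/-!
Subgroups of `PSL₂(2ⁿ)` and self-normalization.
-/

set_option autoImplicit false
set_option linter.style.haveILetI false
set_option linter.unusedSectionVars false

namespace CfsgLib.FGS73.PSLTwoPow

open Subgroup Matrix OnePoint CfsgLib.PSL2Sub

/-- In a CA-group all of whose proper subgroups are abelian-by-prime, non-abelian subgroups are self-normalizing. -/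
theorem selfNorm_of {G : Type*} [Group G] [Finite G]
    (hna : ¬ IsMulCommutative G) [IsSimpleGroup G]
    (hCA : ∀ x : G, x ≠ 1 → ∀ a ∈ centralizer ({x} : Set G), ∀ b ∈ centralizer ({x} : Set G), a * b = b * a)
    (hsub : ∀ N : Subgroup G, N ≠ ⊤ → ∃ R : Subgroup N, R.Normal ∧ (∀ a ∈ R, ∀ b ∈ R, a * b = b * a) ∧
      (R.index = 1 ∨ R.index.Prime)) :
    SelfNormNonab.Hyp G := by
  intro H hH
  refine le_antisymm (fun g hg => ?_) le_normalizer
  by_cases htop : H = ⊤
  · rw [htop]; exact mem_top g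
  obtain ⟨A, hAn, hAc, hAi⟩ := hsub H htop
  rcases hAi with hA1 | hAp
  · exfalso
    rw [Subgroup.index_eq_one] at hA1
    exact hH ⟨⟨fun a b => hAc a (by rw [hA1]; exact mem_top a) b (by rw [hA1]; exact mem_top b)⟩⟩
  haveI := hAn
  -- `A` is nontrivial
  obtain ⟨u, huA, hu1⟩ : ∃ u : H, u ∈ A ∧ u ≠ 1 := by
    by_contra hno
    push Not at hno
    have hbot : A = ⊥ := eq_bot_iff.2 fun x hx => mem_bot.2 (hno x hx)
    rw [hbot, Subgroup.index_bot] at hAp
    haveI := Fact.mk hAp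
    haveI : IsCyclic H := isCyclic_of_prime_card (p := Nat.card H) rfl
    letI : CommGroup H := IsCyclic.commGroup
    exact hH ⟨⟨fun a b => mul_comm a b⟩⟩
  have hu1' : (u : G) ≠ 1 := fun h => hu1 (Subtype.ext h)
  set C := centralizer ({(u : G)} : Set G) with hC
  have hAC : ∀ a ∈ A, (a : G) ∈ C := fun a ha =>
    mem_centralizer_singleton_iff.2 (congrArg Subtype.val (hAc a ha u huA))
  have hCtop : C ≠ ⊤ := fun h => hna ⟨⟨fun a b =>
    hCA u hu1' a (by rw [← hC, h]; exact mem_top a) b (by rw [← hC, h]; exact mem_top b)⟩⟩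
  have hCself : ∀ x ∈ C, x ≠ 1 → ∀ y : G, y * x = x * y → y ∈ C := by
    intro x hx hx1 y hy
    exact mem_centralizer_singleton_iff.2 (hCA x hx1 y (mem_centralizer_singleton_iff.2 hy) u
      (mem_centralizer_singleton_iff.2 (mem_centralizer_singleton_iff.1 hx).symm))
  -- the normaliser of `H` normalises `C`
  have hNC : ∀ x ∈ normalizer (H : Set G), x ∈ normalizer (C : Set G) := by
    intro x hx
    have hxu : x * u * x⁻¹ ∈ C := by
      have hxuH : x * u * x⁻¹ ∈ H := (mem_normalizer_iff.1 hx _).1 u.2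
      by_contra hno
      -- otherwise the two normal subgroups centralise each other
      let A' : Subgroup H := A.map
        ({ toFun := fun a => ⟨x * a * x⁻¹, (mem_normalizer_iff.1 hx _).1 a.2⟩
           map_one' := Subtype.ext (by simp)
           map_mul' := fun a b => Subtype.ext (by
             show x * ((a : G) * b) * x⁻¹ = x * a * x⁻¹ * (x * b * x⁻¹)
             group) } : H →* H)
      haveI : A'.Normal := ⟨by
        rintro _ ⟨a, ha, rfl⟩ h
        refine ⟨⟨x⁻¹ * h * x, (mem_normalizer_iff''.1 hx _).1 h.2⟩ * a *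
          ⟨x⁻¹ * h * x, (mem_normalizer_iff''.1 hx _).1 h.2⟩⁻¹, hAn.conj_mem a ha _, Subtype.ext ?_⟩
        show x * (x⁻¹ * (h : G) * x * a * (x⁻¹ * (h : G) * x)⁻¹) * x⁻¹ = h * (x * a * x⁻¹) * (h : G)⁻¹
        group⟩
      have hdisj : A ⊓ A' = ⊥ := by
        refine eq_bot_iff.2 ?_
        rintro z ⟨hz, a, ha, hza⟩
        by_contra hz1
        rw [mem_bot] at hz1
        apply hno
        have hz1' : (z : G) ≠ 1 := fun h => hz1 (Subtype.ext h)
        refine hCself z (hAC z hz) hz1' _ ?_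
        have hzv : (z : G) = x * a * x⁻¹ := (congrArg Subtype.val hza).symm
        rw [hzv]
        have h1 : (a : G) * u = u * a := congrArg Subtype.val (hAc a ha u huA)
        calc x * u * x⁻¹ * (x * a * x⁻¹) = x * (u * a) * x⁻¹ := by group
          _ = x * (a * u) * x⁻¹ := by rw [h1]
          _ = x * a * x⁻¹ * (x * u * x⁻¹) := by group
      have hcomm := Subgroup.commute_of_normal_of_disjoint A A' hAn inferInstance (disjoint_iff.2 hdisj) u
        ⟨x * u * x⁻¹, hxuH⟩ huA ⟨u, huA, rfl⟩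
      exact hno (mem_centralizer_singleton_iff.2 (congrArg Subtype.val hcomm.eq).symm)
    refine mem_normalizer_iff_conj_image_eq.2 (Set.eq_of_subset_of_ncard_le ?_
      (by rw [Set.ncard_image_of_injective _ (MulAut.conj x).injective]))
    rintro _ ⟨c, hc, rfl⟩
    refine hCself _ hxu (fun h => hu1' (conj_eq_one_iff.mp h)) _ ?_
    show x * c * x⁻¹ * (x * u * x⁻¹) = x * u * x⁻¹ * (x * c * x⁻¹)
    calc x * c * x⁻¹ * (x * u * x⁻¹) = x * (c * u) * x⁻¹ := by group
      _ = x * (u * c) * x⁻¹ := by rw [mem_centralizer_singleton_iff.1 hc]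
      _ = _ := by group
  set N := normalizer (C : Set G) with hN
  obtain ⟨w, hwH, hwC⟩ : ∃ w ∈ H, w ∉ C := by
    by_contra hno
    push Not at hno
    exact hH ⟨⟨fun a b => Subtype.ext (hCA u hu1' a (hno a a.2) b (hno b b.2))⟩⟩
  have hwN : w ∈ N := hNC w (le_normalizer hwH)
  have hNtop : N ≠ ⊤ := by
    intro h
    haveI : C.Normal := normalizer_eq_top_iff.1 h
    rcases (inferInstance : C.Normal).eq_bot_or_eq_top with h' | h'
    · exact hu1' (mem_bot.1 (h' ▸ (mem_centralizer_singleton_iff.2 rfl : (u : G) ∈ C)))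
    · exact hCtop h'
  obtain ⟨B, hBn, hBc, hBi⟩ := hsub N hNtop
  haveI := hBn
  set C' := C.subgroupOf N with hC'
  have huC : (u : G) ∈ C := mem_centralizer_singleton_iff.2 rfl
  have hidx : C'.index.Prime := by
    have hC'ne : C'.index ≠ 1 := fun h => hwC (mem_subgroupOf.1 (show (⟨w, hwN⟩ : N) ∈ C' by
      rw [Subgroup.index_eq_one.1 h]; exact mem_top _))
    haveI : C'.Normal := Subgroup.normal_in_normalizer
    by_cases hbot : C' ⊓ B = ⊥
    · -- then `B` centralises `C`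
      have hcent : ∀ b ∈ B, (b : G) ∈ C := fun b hb =>
        hCself u huC hu1' b (congrArg Subtype.val (Subgroup.commute_of_normal_of_disjoint B C' hBn inferInstance
          (disjoint_iff.2 (inf_comm C' B ▸ hbot)) b ⟨u, le_normalizer huC⟩ hb huC).eq)
      have hB : B = ⊥ := eq_bot_iff.2 fun b hb => hbot ▸ (⟨hcent b hb, hb⟩ : b ∈ C' ⊓ B)
      exfalso
      rcases hBi with h | h
      · rw [Subgroup.index_eq_one, hB] at h
        exact hu1' (congrArg Subtype.val (mem_bot.1
          (show (⟨u, le_normalizer huC⟩ : N) ∈ (⊥ : Subgroup N) by rw [h]; exact mem_top _)))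
      · rw [hB, Subgroup.index_bot] at h
        rcases (h.eq_one_or_self_of_dvd _ C'.card_subgroup_dvd_card) with h' | h'
        · have := (Subgroup.eq_bot_of_card_eq _ h')
          exact hu1' (congrArg Subtype.val (mem_bot.1
            (show (⟨u, le_normalizer huC⟩ : N) ∈ (⊥ : Subgroup N) by rw [← this]; exact huC)))
        · exact hC'ne (Subgroup.index_eq_one.2 ((Subgroup.card_eq_iff_eq_top _).1 h'))
    · obtain ⟨z, ⟨hzC, hzB⟩, hz1⟩ : ∃ z : N, z ∈ C' ⊓ B ∧ z ≠ 1 := by
        by_contra hno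
        push Not at hno
        exact hbot (eq_bot_iff.2 fun z hz => mem_bot.2 (hno z hz))
      have hBC : B ≤ C' := fun b hb => hCself z hzC (fun h => hz1 (Subtype.ext h)) b
        (congrArg Subtype.val (hBc b hb z hzB))
      have hd := Subgroup.index_dvd_of_le hBC
      rcases hBi with h | h
      · rw [h] at hd; exact absurd (Nat.dvd_one.1 hd) hC'ne
      · rcases h.eq_one_or_self_of_dvd _ hd with h' | h'
        · exact absurd h' hC'ne
        · rwa [h']
  haveI : C'.Normal := Subgroup.normal_in_normalizer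
  haveI := Fact.mk hidx
  -- `N` is generated by `C` and `w`
  have hgen : ∀ x : N, x ∈ C' ⊔ zpowers (⟨w, hwN⟩ : N) := by
    intro x
    have hne : (QuotientGroup.mk ⟨w, hwN⟩ : N ⧸ C') ≠ 1 := fun h => hwC (mem_subgroupOf.1 ((QuotientGroup.eq_one_iff (⟨w, hwN⟩ : N)).1 h))
    obtain ⟨i, hi⟩ := mem_zpowers_iff.1 (show (QuotientGroup.mk x : N ⧸ C') ∈ zpowers (QuotientGroup.mk ⟨w, hwN⟩ : N ⧸ C') by
      rw [zpowers_eq_top_of_prime_card (p := C'.index) (Subgroup.index_eq_card _).symm hne]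
      exact mem_top _)
    rw [← QuotientGroup.mk_zpow, QuotientGroup.eq] at hi
    rw [show x = (⟨w, hwN⟩ : N) ^ i * (((⟨w, hwN⟩ : N) ^ i)⁻¹ * x) from (mul_inv_cancel_left _ _).symm]
    exact mul_mem (mem_sup_right (zpow_mem (mem_zpowers _) i)) (mem_sup_left hi)
  obtain ⟨c, hc, z, hz, hcz⟩ := mem_sup_of_normal_left.1 (hgen ⟨g, hNC g hg⟩)
  obtain ⟨i, rfl⟩ := mem_zpowers_iff.1 hz
  have hgval : g = c * w ^ i := (congrArg Subtype.val hcz).symm
  suffices hcH : (c : G) ∈ H by
    rw [hgval]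
    exact H.mul_mem hcH (H.zpow_mem hwH i)
  have hcN : (c : G) ∈ normalizer (H : Set G) := by
    have : (c : G) = g * (w ^ i)⁻¹ := by rw [hgval, mul_inv_cancel_right]
    rw [this]
    exact mul_mem hg (inv_mem (le_normalizer (H.zpow_mem hwH i)))
  -- the displacement by `w` is injective on `C`
  have hwCC : ∀ a ∈ C, w * a * w⁻¹ ∈ C := fun a ha => (mem_normalizer_iff.1 hwN a).1 ha
  let δ : C → C := fun a => ⟨w * a * w⁻¹ * (a : G)⁻¹, C.mul_mem (hwCC a a.2) (C.inv_mem a.2)⟩
  have hδinj : Function.Injective δ := by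
    intro a b hab
    have h1 : w * a * w⁻¹ * (a : G)⁻¹ = w * b * w⁻¹ * (b : G)⁻¹ := congrArg Subtype.val hab
    by_contra hne
    have hd1 : (b : G)⁻¹ * a ≠ 1 := fun h => hne (Subtype.ext (inv_mul_eq_one.1 h).symm)
    have h2 : w * ((b : G)⁻¹ * a) * w⁻¹ = (b : G)⁻¹ * a := by
      have h3 : w * a * w⁻¹ = w * b * w⁻¹ * (b : G)⁻¹ * a := by rw [← h1, inv_mul_cancel_right]
      calc w * ((b : G)⁻¹ * a) * w⁻¹ = (w * b * w⁻¹)⁻¹ * (w * a * w⁻¹) := by group
        _ = _ := by rw [h3]; group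
    exact hwC (hCself _ (C.mul_mem (C.inv_mem b.2) a.2) hd1 w (mul_inv_eq_iff_eq_mul.1 h2))
  let δ' : (H ⊓ C : Subgroup G) → (H ⊓ C : Subgroup G) := fun a => ⟨w * a * w⁻¹ * (a : G)⁻¹,
    H.mul_mem (H.mul_mem (H.mul_mem hwH a.2.1) (H.inv_mem hwH)) (H.inv_mem a.2.1),
    C.mul_mem (hwCC a a.2.2) (C.inv_mem a.2.2)⟩
  have hδ'inj : Function.Injective δ' := fun a b hab => by
    have h := @hδinj ⟨(a : G), a.2.2⟩ ⟨(b : G), b.2.2⟩ (Subtype.ext (congrArg (fun t : (H ⊓ C : Subgroup G) => (t : G)) hab))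
    exact Subtype.ext (congrArg Subtype.val h :)
  have hcd : w * c * w⁻¹ * (c : G)⁻¹ ∈ H := by
    rw [mul_assoc w, mul_assoc w]
    refine H.mul_mem hwH ?_
    rw [mul_assoc (c : G)]
    have h := (mem_normalizer_iff.1 hcN w⁻¹).1 (H.inv_mem hwH)
    rwa [mul_assoc] at h
  obtain ⟨a, ha⟩ := (Finite.injective_iff_surjective.1 hδ'inj) ⟨_, hcd, C.mul_mem (hwCC c hc) (C.inv_mem hc)⟩
  have h := @hδinj ⟨(a : G), a.2.2⟩ ⟨(c : G), hc⟩ (Subtype.ext (congrArg Subtype.val ha :))
  rw [show (c : G) = a from (congrArg Subtype.val h).symm]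
  exact a.2.1

variable {F : Type} [Field F] [Fintype F] [DecidableEq F] [CharP F 2]

theorem two_mem_pointUnip_iff {g : PS F} {y : OnePoint F} : g ∈ pointUnip 2 y ↔ toPG g • y = y ∧ g ^ 2 = 1 :=
  Iff.rfl

/-- Proper subgroups of `PSL₂(2ⁿ)`, `2ⁿ - 1` prime, have an abelian normal subgroup of index `1` or prime. -/
theorem exists_abelian_prime_index {n : ℕ} (hF : Fintype.card F = 2 ^ n) (hr : (2 ^ n - 1).Prime)
    (N : Subgroup (PS F)) (hN : N ≠ ⊤) :
    ∃ R : Subgroup N, R.Normal ∧ (∀ a ∈ R, ∀ b ∈ R, a * b = b * a) ∧ (R.index = 1 ∨ R.index.Prime) := by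
  classical
  haveI : Fact (Nat.Prime 2) := ⟨Nat.prime_two⟩
  have hn : n.Prime := by
    have h1 : n ≠ 1 := fun h => by rw [h] at hr; exact Nat.not_prime_one hr
    exact ((Nat.prime_of_pow_sub_one_prime h1 hr).2)
  have idx2 : ∀ R : Subgroup N, R.index = 2 → (∀ a ∈ R, ∀ b ∈ R, a * b = b * a) →
      ∃ R : Subgroup N, R.Normal ∧ (∀ a ∈ R, ∀ b ∈ R, a * b = b * a) ∧ (R.index = 1 ∨ R.index.Prime) :=
    fun R h2 hc => ⟨R, Subgroup.normal_of_index_eq_two h2, hc, Or.inr (by rw [h2]; exact Nat.prime_two)⟩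
  rcases classify_psl 2 N with ⟨hc, -⟩ | ⟨k, hk2, -, -, ⟨e⟩⟩ | ⟨-, y, hy⟩ | ⟨h2, ⟨e⟩⟩ | ⟨h2, ⟨e⟩⟩ | ⟨h2, ⟨e⟩⟩ |
    ⟨E, hE⟩
  · haveI := hc
    letI : CommGroup N := IsCyclic.commGroup
    exact ⟨⊤, inferInstance, fun a _ b _ => mul_comm a b, Or.inl Subgroup.index_top⟩
  · refine idx2 ((zpowers (DihedralGroup.r (1 : ZMod k))).map e.symm.toMonoidHom) ?_ ?_
    · have h1 : (zpowers (DihedralGroup.r (1 : ZMod k))).index = 2 := by
        have h := (zpowers (DihedralGroup.r (1 : ZMod k))).card_mul_index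
        rw [Nat.card_zpowers, DihedralGroup.orderOf_r_one, DihedralGroup.nat_card] at h
        exact Nat.eq_of_mul_eq_mul_left (by omega : 0 < k) (h.trans (mul_comm 2 k))
      rw [Subgroup.index_map_of_bijective (f := e.symm.toMonoidHom) e.symm.bijective, h1]
    · rintro _ ⟨a, ha, rfl⟩ _ ⟨b, hb, rfl⟩
      obtain ⟨i, rfl⟩ := mem_zpowers_iff.1 ha
      obtain ⟨j, rfl⟩ := mem_zpowers_iff.1 hb
      rw [← map_mul, ← map_mul, zpow_mul_comm]
  · let R : Subgroup N :=
      { carrier := {g : N | (g : PS F) ^ 2 = 1}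
        one_mem' := one_pow 2
        mul_mem' := fun {a b} ha hb =>
          (pointUnip_mul 2 (two_mem_pointUnip_iff.2 ⟨hy a a.2, ha⟩) (two_mem_pointUnip_iff.2 ⟨hy b b.2, hb⟩)).2
        inv_mem' := fun {a} ha => by
          show ((a : PS F)⁻¹) ^ 2 = 1
          rw [inv_pow, show (a : PS F) ^ 2 = 1 from ha, inv_one] }
    have hRmem : ∀ g : N, g ∈ R ↔ (g : PS F) ^ 2 = 1 := fun _ => Iff.rfl
    haveI hRn : R.Normal := ⟨fun g hg h => (hRmem _).2 (by
      show ((h : PS F) * g * (h : PS F)⁻¹) ^ 2 = 1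
      rw [conj_pow, (hRmem g).1 hg, mul_one, mul_inv_cancel])⟩
    refine ⟨R, hRn, fun a ha b hb => ?_, ?_⟩
    · have h1 : (a * b) * (a * b) = 1 := Subtype.ext (by
        rw [← pow_two]; exact (hRmem _).1 (R.mul_mem ha hb))
      have hinv : ∀ c : N, c ∈ R → c⁻¹ = c := fun c hc => inv_eq_of_mul_eq_one_right (Subtype.ext (by
        rw [← pow_two]; exact (hRmem c).1 hc))
      calc a * b = (a * b)⁻¹ := (inv_eq_of_mul_eq_one_right h1).symm
        _ = b⁻¹ * a⁻¹ := mul_inv_rev a b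
        _ = b * a := by rw [hinv a ha, hinv b hb]
    · have hodd : ¬ 2 ∣ R.index := by
        intro hd
        have h2 : 2 ∣ Nat.card (N ⧸ R) := by rwa [← Subgroup.index_eq_card]
        obtain ⟨x, hx⟩ := exists_prime_orderOf_dvd_card' 2 h2
        obtain ⟨g, rfl⟩ := QuotientGroup.mk_surjective x
        have hg2 : g ^ 2 ∈ R := by
          rw [← QuotientGroup.eq_one_iff, QuotientGroup.mk_pow]
          exact orderOf_dvd_iff_pow_eq_one.1 hx.dvd
        have h4 : (g : PS F) ^ (2 ^ 2) = 1 := by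
          rw [pow_two 2, pow_mul]; exact (hRmem _).1 hg2
        have hg : g ∈ R := (hRmem g).2 (pow_char_of_pow_pow 2 (g : PS F) 2 h4)
        rw [(QuotientGroup.eq_one_iff g).2 hg, orderOf_one] at hx
        omega
      have hcard : Nat.card (pointStab y) = 2 ^ n * (2 ^ n - 1) := by
        have h := gcd_mul_card_pointStab (F := F) y
        rw [hF] at h
        have hg : Nat.gcd 2 (2 ^ n - 1) = 1 := by
          refine (Nat.Prime.coprime_iff_not_dvd Nat.prime_two).2 fun h2 => ?_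
          have h4 : 2 ∣ 2 ^ n := dvd_pow_self 2 hn.ne_zero
          have := Nat.one_le_pow n 2 two_pos
          omega
        rwa [hg, one_mul] at h
      have hd : R.index ∣ 2 ^ n * (2 ^ n - 1) := hcard ▸ (Subgroup.index_dvd_card R).trans
        (Subgroup.card_dvd_of_le (show N ≤ pointStab y from fun g hg => hy g hg))
      rcases hr.eq_one_or_self_of_dvd _ ((Nat.Coprime.pow_right n
        ((Nat.Prime.coprime_iff_not_dvd Nat.prime_two).2 hodd).symm).dvd_of_dvd_mul_left hd) with h | h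
      · exact Or.inl h
      · exact Or.inr (h.symm ▸ hr)
  · exact absurd ((Nat.card_congr e.toEquiv).trans card_alt_four ▸ (by norm_num : 2 ∣ 12)) h2
  · exact absurd ((Nat.card_congr e.toEquiv).trans card_sym_four ▸ (by norm_num : 2 ∣ 24)) h2
  · rcases h2 with h2 | h2
    · exact absurd ((Nat.card_congr e.toEquiv).trans card_alt_five ▸ (by norm_num : 2 ∣ 60)) h2
    · omega
  · rcases hE with ⟨⟨e⟩⟩ | ⟨h, -⟩
    swap
    · exact absurd rfl h
    haveI : Finite (PG E) := Finite.of_equiv N e.toEquiv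
    have hle : Nat.card (PS E) ≤ Nat.card N :=
      (Nat.card_le_card_of_injective _ toPG_injective).trans_eq (Nat.card_congr e.toEquiv).symm
    obtain ⟨m, hm0, hm⟩ := card_subfield_pow E
    obtain ⟨j, -, hj⟩ := (Nat.dvd_prime_pow Nat.prime_two).1
      (show Nat.card E ∣ 2 ^ n by rw [← hF, ← hm]; exact dvd_pow_self _ hm0.ne')
    rw [hj, hF, ← pow_mul] at hm
    have hjm := Nat.pow_right_injective le_rfl hm
    haveI : Fintype E := Fintype.ofFinite E
    rcases hn.eq_one_or_self_of_dvd j ⟨m, hjm.symm⟩ with hj1 | hjn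
    · -- the symmetric group of degree three
      subst hj1
      rw [pow_one] at hj
      have hunit : ∀ a : Eˣ, a = 1 := by
        intro a
        have h1 : a ^ Fintype.card Eˣ = 1 := pow_card_eq_one
        rw [Fintype.card_units, ← Nat.card_eq_fintype_card, hj] at h1
        simpa using h1
      have hsurj : Function.Surjective (toPG : PS E →* PG E) := by
        intro z
        obtain ⟨g, rfl⟩ := QuotientGroup.mk_surjective z
        have hdet : (g : Matrix (Fin 2) (Fin 2) E).det = 1 := by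
          have h := congrArg Units.val (hunit (Matrix.GeneralLinearGroup.det g))
          exact h
        refine ⟨QuotientGroup.mk ⟨(g : Matrix (Fin 2) (Fin 2) E), hdet⟩, ?_⟩
        show ProjGenLinGroup.mk (SpecialLinearGroup.toGL ⟨(g : Matrix (Fin 2) (Fin 2) E), hdet⟩) = _
        exact (congrArg ProjGenLinGroup.mk (Units.ext rfl :
          SpecialLinearGroup.toGL ⟨(g : Matrix (Fin 2) (Fin 2) E), hdet⟩ = g)).trans rfl
      have h6 : Nat.card N = 6 := by
        rw [Nat.card_congr e.toEquiv, ← Nat.card_congr (Equiv.ofBijective _ ⟨toPG_injective, hsurj⟩)]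
        have h := gcd_mul_card_PS (F := E)
        rw [← Nat.card_eq_fintype_card, hj] at h
        norm_num at h ⊢
        exact h
      haveI : Fact (Nat.Prime 3) := ⟨Nat.prime_three⟩
      obtain ⟨t, ht⟩ := exists_prime_orderOf_dvd_card' 3 (show 3 ∣ Nat.card N by rw [h6]; norm_num)
      refine idx2 (zpowers t) ?_ fun a ha b hb => by
        obtain ⟨i, rfl⟩ := mem_zpowers_iff.1 ha
        obtain ⟨j, rfl⟩ := mem_zpowers_iff.1 hb
        exact zpow_mul_comm t i j
      have h := (zpowers t).card_mul_index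
      rw [Nat.card_zpowers, ht, h6] at h
      omega
    · exfalso
      refine hN ((Subgroup.card_eq_iff_eq_top N).1 (le_antisymm N.card_le_card_group ?_))
      refine le_trans ?_ hle
      have h1 := gcd_mul_card_PS (F := F)
      have h2 := gcd_mul_card_PS (F := E)
      rw [← Nat.card_eq_fintype_card, hj, hjn] at h2
      rw [hF] at h1
      exact le_of_eq (Nat.eq_of_mul_eq_mul_left (Nat.gcd_pos_of_pos_left _ two_pos) (h1.trans h2.symm))

/-- If all non-abelian subgroups of `PSL₂(2ⁿ)` are self-normalizing then `2ⁿ - 1` is prime. -/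
theorem prime_of_hyp {n : ℕ} (h2n : 2 ≤ n) (hF : Fintype.card F = 2 ^ n)
    (hyp : SelfNormNonab.Hyp (PS F)) : (2 ^ n - 1).Prime := by
  classical
  haveI : Fact (Nat.Prime 2) := ⟨Nat.prime_two⟩
  by_contra hnp
  have hq4 : 4 ≤ 2 ^ n := (show 4 = 2 ^ 2 from rfl) ▸ Nat.pow_le_pow_right two_pos h2n
  obtain ⟨r, hr, hrd⟩ := Nat.exists_prime_and_dvd (n := 2 ^ n - 1) (by omega)
  have hrlt : r < 2 ^ n - 1 := lt_of_le_of_ne (Nat.le_of_dvd (by omega) hrd) fun h => hnp (h ▸ hr)
  have heven : 2 ∣ 2 ^ n := dvd_pow_self 2 (by omega)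
  have hr2 : ¬ 2 ∣ r := fun h => by have := h.trans hrd; omega
  have hgcd : Nat.gcd 2 (2 ^ n - 1) = 1 :=
    (Nat.Prime.coprime_iff_not_dvd Nat.prime_two).2 fun h => by omega
  -- the stabiliser of a point
  set y : OnePoint F := (1 : PG F) • (∞ : OnePoint F) with hy
  set B := pointStab y with hB
  obtain ⟨μ, hμ⟩ : ∃ μ : MulAction.stabilizer (PG F) y →* Fˣ, ∀ h : MulAction.stabilizer (PG F) y,
      ∃ b : F, (1 : PG F)⁻¹ * (h : PG F) * 1 = aff (μ h) b := exists_multiplier (1 : PG F)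
  let ι : B →* MulAction.stabilizer (PG F) y :=
    MonoidHom.mk' (fun h => ⟨toPG (h : PS F), h.2⟩) (fun a b => Subtype.ext (map_mul toPG (a : PS F) b))
  set ν : B →* Fˣ := μ.comp ι with hν
  have hker : ∀ b : B, ν b = 1 → ∃ t : F, toPG (b : PS F) = aff 1 t := by
    intro b hb
    obtain ⟨t, ht⟩ := hμ (ι b)
    refine ⟨t, ?_⟩
    calc toPG (b : PS F) = 1⁻¹ * toPG (b : PS F) * 1 := by group
      _ = aff (μ (ι b)) t := ht
      _ = aff 1 t := congrArg (fun a => aff a t) hb
  have hkercard : Nat.card ν.ker ≤ 2 ^ n := by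
    choose t ht using hker
    refine (Nat.card_le_card_of_injective (fun b : ν.ker => t b b.2) fun a b hab => ?_).trans_eq
      (by rw [Nat.card_eq_fintype_card, hF])
    refine Subtype.ext (Subtype.ext (toPG_injective ?_))
    rw [ht _ a.2, ht _ b.2]
    exact congrArg (aff 1) hab
  have hBcard : Nat.card B = 2 ^ n * (2 ^ n - 1) := by
    have h := gcd_mul_card_pointStab (F := F) y
    rwa [hF, hgcd, one_mul] at h
  set K : Subgroup B := ((powMonoidHom r : Fˣ →* Fˣ).comp ν).ker with hK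
  have hKmem : ∀ b, b ∈ K ↔ (ν b) ^ r = 1 := fun _ => Iff.rfl
  haveI : Fact r.Prime := ⟨hr⟩
  obtain ⟨g, hg⟩ := exists_prime_orderOf_dvd_card' r (show r ∣ Nat.card B by rw [hBcard]; exact hrd.mul_left _)
  obtain ⟨u, hu⟩ := exists_prime_orderOf_dvd_card' 2 (show 2 ∣ Nat.card B by rw [hBcard]; exact heven.mul_right _)
  have hgK : g ∈ K := by rw [hKmem, ← map_pow, ← hg, pow_orderOf_eq_one, map_one]
  have huK : u ∈ K := by
    have h1 : (ν u) ^ 2 = 1 := by rw [← map_pow, orderOf_dvd_iff_pow_eq_one.1 hu.dvd, map_one]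
    rw [hKmem, units_eq_one_of_pow_char 2 h1, one_pow]
  have hKtop : K ≠ ⊤ := by
    intro htop
    have hrange : Nat.card ν.range ≤ r := by
      obtain ⟨w, hw⟩ := IsCyclic.exists_generator (α := ν.range)
      rw [← orderOf_eq_card_of_forall_mem_zpowers hw]
      obtain ⟨b, hb⟩ := w.2
      refine orderOf_le_of_pow_eq_one hr.pos (Subtype.ext ?_)
      show (w : Fˣ) ^ r = 1
      rw [← hb]
      exact (hKmem b).1 (by rw [htop]; exact mem_top b)
    have h := ν.ker.card_eq_card_quotient_mul_card_subgroup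
    rw [Nat.card_congr (QuotientGroup.quotientKerEquivRange ν).toEquiv, hBcard] at h
    have h' : 2 ^ n * (2 ^ n - 1) ≤ r * 2 ^ n := h ▸ Nat.mul_le_mul hrange hkercard
    rw [mul_comm r] at h'
    exact absurd (Nat.le_of_mul_le_mul_left h' (by omega)) (not_le.2 hrlt)
  have h := SelfNormNonab.comm_of_normal hyp K hKtop g hgK u huK
  have hgu : orderOf (g * u) = r * 2 := by
    rw [(show Commute g u from h).orderOf_mul_eq_mul_orderOf_of_coprime (by
      rw [hg, hu]; exact ((Nat.Prime.coprime_iff_not_dvd Nat.prime_two).2 hr2).symm), hg, hu]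
  have hgu' : orderOf ((g * u : B) : PS F) = r * 2 := by rw [Subgroup.orderOf_coe, hgu]
  have hr3 : 2 ≤ r := hr.two_le
  rcases CfsgLib.SL2Trace.psl_pow_cases 2 ((g * u : B) : PS F) with h1 | h1 | h1
  all_goals
    have hd := orderOf_dvd_of_pow_eq_one h1
    rw [hgu'] at hd
  · have := Nat.le_of_dvd two_pos hd
    omega
  · rw [hF, hgcd, Nat.div_one] at hd
    have := (dvd_mul_left 2 r).trans hd
    omega
  · rw [hF, hgcd, Nat.div_one] at hd
    have := (dvd_mul_left 2 r).trans hd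
    omega

end CfsgLib.FGS73.PSLTwoPow
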