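import Mathlib

/-!
Counting the subgroups of order `p ^ 2` of an elementary abelian group.
-/

set_option autoImplicit false
set_option linter.style.haveILetI false

namespace CfsgLib.FGS73

/-- Pairs `(a, b)` with `a ≠ 1` and `b ∉ ⟨a⟩`. -/
theorem card_indep_pairs {W : Type*} [Group W] [Finite W] {p : ℕ} [Fact p.Prime]
    (hexp : ∀ w : W, w ^ p = 1) :
    Nat.card {ab : W × W // ab.1 ≠ 1 ∧ ab.2 ∉ Subgroup.zpowers ab.1} = (Nat.card W - 1) * (Nat.card W - p) := by
  classical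
  haveI : Fintype W := Fintype.ofFinite W
  have e : {ab : W × W // ab.1 ≠ 1 ∧ ab.2 ∉ Subgroup.zpowers ab.1} ≃
      Σ a : {a : W // a ≠ 1}, {b : W // b ∉ Subgroup.zpowers a.1} :=
    { toFun := fun x => ⟨⟨x.1.1, x.2.1⟩, ⟨x.1.2, x.2.2⟩⟩
      invFun := fun x => ⟨(x.1.1, x.2.1), x.1.2, x.2.2⟩
      left_inv := fun x => rfl
      right_inv := fun x => rfl }
  rw [Nat.card_congr e, Nat.card_sigma]
  have hb : ∀ a : {a : W // a ≠ 1}, Nat.card {b : W // b ∉ Subgroup.zpowers a.1} = Nat.card W - p := by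
    intro a
    have ha : orderOf a.1 = p := orderOf_eq_prime (hexp a.1) a.2
    have h1 : Nat.card {b : W // b ∉ Subgroup.zpowers a.1} = Nat.card W - Nat.card (Subgroup.zpowers a.1) := by
      simp only [Nat.card_eq_fintype_card]
      exact Fintype.card_subtype_compl _
    rw [h1, Nat.card_zpowers, ha]
  simp only [hb, Finset.sum_const, Finset.card_univ, smul_eq_mul]
  congr 1
  rw [Fintype.card_subtype_compl, Nat.card_eq_fintype_card, Fintype.card_subtype_eq]

/-- The number of subgroups of order `p ^ 2`. -/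
theorem card_planes_mul {P : Type*} [CommGroup P] [Finite P] {p : ℕ} [Fact p.Prime]
    (hexp : ∀ x : P, x ^ p = 1) :
    Nat.card {W : Subgroup P // Nat.card W = p ^ 2} * ((p ^ 2 - 1) * (p ^ 2 - p)) =
      (Nat.card P - 1) * (Nat.card P - p) := by
  classical
  have hp : p.Prime := Fact.out
  let S := {ab : P × P // ab.1 ≠ 1 ∧ ab.2 ∉ Subgroup.zpowers ab.1}
  let T := fun W : {W : Subgroup P // Nat.card W = p ^ 2} =>
    {ab : W.1 × W.1 // ab.1 ≠ 1 ∧ ab.2 ∉ Subgroup.zpowers ab.1}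
  let f : (Σ W, T W) → S := fun x => ⟨((x.2.1.1 : P), (x.2.1.2 : P)),
    fun h => x.2.2.1 (Subtype.ext h), fun h => x.2.2.2 (by
      obtain ⟨k, hk⟩ := Subgroup.mem_zpowers_iff.1 h
      exact Subgroup.mem_zpowers_iff.2 ⟨k, Subtype.ext (by simpa using hk)⟩)⟩
  have hcard2 : ∀ a b : P, a ≠ 1 → b ∉ Subgroup.zpowers a →
      Nat.card (Subgroup.zpowers a ⊔ Subgroup.zpowers b : Subgroup P) = p ^ 2 := by
    intro a b ha hb
    have hb1 : b ≠ 1 := fun h => hb (h ▸ one_mem _)
    have hca : Nat.card (Subgroup.zpowers a) = p := by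
      rw [Nat.card_zpowers, orderOf_eq_prime (hexp a) ha]
    have hcb : Nat.card (Subgroup.zpowers b) = p := by
      rw [Nat.card_zpowers, orderOf_eq_prime (hexp b) hb1]
    have hdisj : Subgroup.zpowers a ⊓ Subgroup.zpowers b = ⊥ := by
      haveI : Fact (Nat.card (Subgroup.zpowers b)).Prime := ⟨hcb ▸ hp⟩
      rcases ((Subgroup.zpowers a).subgroupOf (Subgroup.zpowers b)).eq_bot_or_eq_top_of_prime_card with h | h
      · rw [Subgroup.subgroupOf_eq_bot] at h
        exact h.eq_bot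
      · rw [Subgroup.subgroupOf_eq_top] at h
        exact absurd (h (Subgroup.mem_zpowers b)) hb
    let g : Subgroup.zpowers a × Subgroup.zpowers b →* P :=
      (Subgroup.subtype _).coprod (Subgroup.subtype _)
    have hg : Function.Injective g := fun x y h =>
      Subgroup.mul_injective_of_disjoint (disjoint_iff.2 hdisj) h
    have hr : g.range = Subgroup.zpowers a ⊔ Subgroup.zpowers b := by
      ext x
      rw [Subgroup.mem_sup]
      constructor
      · rintro ⟨⟨u, v⟩, rfl⟩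
        exact ⟨u, u.2, v, v.2, rfl⟩
      · rintro ⟨u, hu, v, hv, rfl⟩
        exact ⟨(⟨u, hu⟩, ⟨v, hv⟩), rfl⟩
    rw [← hr, ← Nat.card_congr (MonoidHom.ofInjective hg).toEquiv, Nat.card_prod, hca, hcb, sq]
  have hbij : Function.Bijective f := by
    constructor
    · rintro ⟨⟨W, hW⟩, ⟨⟨⟨a, ha⟩, ⟨b, hb⟩⟩, hab⟩⟩ ⟨⟨W', hW'⟩, ⟨⟨⟨a', ha'⟩, ⟨b', hb'⟩⟩, hab'⟩⟩ h
      simp only [f, Subtype.mk.injEq, Prod.mk.injEq] at h
      obtain ⟨rfl, rfl⟩ := h
      have hWW : W = W' := by
        have hna : a ≠ 1 := fun h => hab.1 (Subtype.ext h)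
        have hnb : b ∉ Subgroup.zpowers a := fun h => hab.2 (by
          obtain ⟨k, hk⟩ := Subgroup.mem_zpowers_iff.1 h
          exact Subgroup.mem_zpowers_iff.2 ⟨k, Subtype.ext (by simpa using hk)⟩)
        have h2 := hcard2 a b hna hnb
        exact (Subgroup.eq_of_le_of_card_ge (sup_le (Subgroup.zpowers_le.2 ha) (Subgroup.zpowers_le.2 hb))
            (hW.trans h2.symm).le).symm.trans
          (Subgroup.eq_of_le_of_card_ge (sup_le (Subgroup.zpowers_le.2 ha') (Subgroup.zpowers_le.2 hb'))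
            (hW'.trans h2.symm).le)
      subst hWW
      rfl
    · rintro ⟨⟨a, b⟩, ha, hb⟩
      have hb1 : b ∈ (Subgroup.zpowers a ⊔ Subgroup.zpowers b : Subgroup P) :=
        Subgroup.mem_sup_right (Subgroup.mem_zpowers b)
      have ha1 : a ∈ (Subgroup.zpowers a ⊔ Subgroup.zpowers b : Subgroup P) :=
        Subgroup.mem_sup_left (Subgroup.mem_zpowers a)
      refine ⟨⟨⟨_, hcard2 a b ha hb⟩, ⟨(⟨a, ha1⟩, ⟨b, hb1⟩), fun h => ha (congrArg Subtype.val h), fun h => hb ?_⟩⟩, rfl⟩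
      obtain ⟨k, hk⟩ := Subgroup.mem_zpowers_iff.1 h
      exact Subgroup.mem_zpowers_iff.2 ⟨k, by simpa using congrArg Subtype.val hk⟩
  haveI : Fintype {W : Subgroup P // Nat.card W = p ^ 2} := Fintype.ofFinite _
  have h := Nat.card_congr (Equiv.ofBijective f hbij)
  rw [Nat.card_sigma] at h
  rw [← card_indep_pairs hexp, ← h,
    Finset.sum_congr rfl (fun W _ => (card_indep_pairs (W := W.1) (p := p)
      (fun w => Subtype.ext (by simpa using hexp w.1))).trans (by rw [W.2])),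
    Finset.sum_const, Finset.card_univ, smul_eq_mul, Nat.card_eq_fintype_card]

end CfsgLib.FGS73
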