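import Mathlib
import Cfsg.Agent.Lib.FGS73.Conj

set_option autoImplicit false

namespace CfsgLib.FGS73

variable {G : Type*} [Group G] [Finite G]

/-- The order condition on elements passes to powers. -/
theorem piElt_pow {π : Set ℕ} {x : G} (hx : ∀ p : ℕ, p.Prime → p ∣ orderOf x → p ∈ π) (m : ℕ) :
    ∀ p : ℕ, p.Prime → p ∣ orderOf (x ^ m) → p ∈ π :=
  fun p hp hd => hx p hp (hd.trans (orderOf_pow_dvd m))

/-- A subgroup consisting of the π-elements is normal. -/
theorem normal_of_forall_mem_iff {π : Set ℕ} (W : Subgroup G)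
    (hW : ∀ x : G, x ∈ W ↔ ∀ p : ℕ, p.Prime → p ∣ orderOf x → p ∈ π) : W.Normal :=
  ⟨fun x hx g => (hW _).2 fun p hp hd =>
    (hW x).1 hx p hp (by
      have h : orderOf (g * x * g⁻¹) = orderOf x := (MulAut.conj g).orderOf_eq x
      rwa [h] at hd)⟩

/-- A subgroup consisting of the π-elements has π-order. -/
theorem card_of_forall_mem_iff {π : Set ℕ} (W : Subgroup G)
    (hW : ∀ x : G, x ∈ W ↔ ∀ p : ℕ, p.Prime → p ∣ orderOf x → p ∈ π) :
    ∀ p : ℕ, p.Prime → p ∣ Nat.card W → p ∈ π := by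
  intro p hp hd
  haveI := Fact.mk hp
  obtain ⟨w, hw⟩ := exists_prime_orderOf_dvd_card' p hd
  exact (hW w).1 w.2 p hp (by rw [Subgroup.orderOf_coe, hw])

/-- A subgroup consisting of the π-elements has π'-index. -/
theorem index_of_forall_mem_iff {π : Set ℕ} (W : Subgroup G)
    (hW : ∀ x : G, x ∈ W ↔ ∀ p : ℕ, p.Prime → p ∣ orderOf x → p ∈ π) :
    ∀ p : ℕ, p.Prime → p ∣ W.index → p ∉ π := by
  intro p hp hd hpπ
  haveI := Fact.mk hp
  haveI := normal_of_forall_mem_iff W hW
  obtain ⟨S⟩ := (inferInstance : Nonempty (Sylow p G))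
  refine S.not_dvd_index (hd.trans (Subgroup.index_dvd_of_le fun x hx => (hW x).2 fun q hq hqd => ?_))
  obtain ⟨k, hk⟩ := (IsPGroup.iff_orderOf.1 S.isPGroup') ⟨x, hx⟩
  rw [Subgroup.orderOf_mk] at hk
  rw [hk] at hqd
  rw [(Nat.prime_dvd_prime_iff_eq hq hp).1 (hq.dvd_of_dvd_pow hqd)]
  exact hpπ

/-- A normal π-subgroup of π'-index consists of all π-elements. -/
theorem mem_iff_of_normal {π : Set ℕ} (W : Subgroup G) [W.Normal]
    (hc : ∀ p : ℕ, p.Prime → p ∣ Nat.card W → p ∈ π) (hi : ∀ p : ℕ, p.Prime → p ∣ W.index → p ∉ π) :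
    ∀ x : G, x ∈ W ↔ ∀ p : ℕ, p.Prime → p ∣ orderOf x → p ∈ π := by
  intro x
  constructor
  · intro hx p hp hd
    rw [← Subgroup.orderOf_mk x hx] at hd
    exact hc p hp (hd.trans (orderOf_dvd_natCard _))
  · intro hx
    refine mem_of_pow_mem_coprime (a := W.index) (b := orderOf x) ?_ (Subgroup.pow_index_mem W x)
      (by rw [pow_orderOf_eq_one]; exact one_mem _)
    exact Nat.coprime_of_dvd fun p hp h1 h2 => hi p hp h1 (hx p hp h2)

/-- Automizer primes of a subgroup inside `S` occur in the whole group. -/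
theorem dvd_automizer_of_dvd_subgroup (S : Subgroup G) (H : Subgroup S) {p : ℕ}
    (hd : p ∣ (Subgroup.centralizer (H : Set S)).relIndex (Subgroup.normalizer (H : Set S))) :
    p ∣ (Subgroup.centralizer ((H.map S.subtype : Subgroup G) : Set G)).relIndex
        (Subgroup.normalizer ((H.map S.subtype : Subgroup G) : Set G)) := by
  set H' := H.map S.subtype
  have hC : (Subgroup.centralizer (H : Set S)).map S.subtype = Subgroup.centralizer (H' : Set G) ⊓ S := by
    ext g
    constructor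
    · rintro ⟨c, hc, rfl⟩
      refine ⟨?_, c.2⟩
      show (c : G) ∈ Subgroup.centralizer (H' : Set G)
      rw [Subgroup.mem_centralizer_iff]
      rintro _ ⟨h, hh, rfl⟩
      exact congrArg Subtype.val (Subgroup.mem_centralizer_iff.1 hc h hh)
    · rintro ⟨hc, hgS⟩
      refine ⟨⟨g, hgS⟩, ?_, rfl⟩
      show (⟨g, hgS⟩ : S) ∈ Subgroup.centralizer (H : Set S)
      rw [Subgroup.mem_centralizer_iff]
      exact fun h hh => Subtype.ext (Subgroup.mem_centralizer_iff.1 hc _ ⟨h, hh, rfl⟩)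
  have hN : (Subgroup.normalizer (H : Set S)).map S.subtype = Subgroup.normalizer (H' : Set G) ⊓ S := by
    ext g
    constructor
    · rintro ⟨c, hc, rfl⟩
      refine ⟨?_, c.2⟩
      show (c : G) ∈ Subgroup.normalizer (H' : Set G)
      rw [Subgroup.mem_normalizer_iff]
      intro y
      constructor
      · rintro ⟨h, hh, rfl⟩
        exact ⟨c * h * c⁻¹, (Subgroup.mem_normalizer_iff.1 hc h).1 hh, rfl⟩
      · rintro ⟨h, hh, hy⟩
        refine ⟨c⁻¹ * h * c, ?_, ?_⟩
        · refine (Subgroup.mem_normalizer_iff.1 hc _).2 ?_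
          rwa [show c * (c⁻¹ * h * c) * c⁻¹ = h by simp [mul_assoc]]
        · simp only [Subgroup.coe_subtype, Subgroup.coe_mul, Subgroup.coe_inv] at hy ⊢
          rw [hy]; simp [mul_assoc]
    · rintro ⟨hc, hgS⟩
      refine ⟨⟨g, hgS⟩, ?_, rfl⟩
      show (⟨g, hgS⟩ : S) ∈ Subgroup.normalizer (H : Set S)
      rw [Subgroup.mem_normalizer_iff]
      intro h
      have := Subgroup.mem_normalizer_iff.1 hc (h : G)
      constructor
      · intro hh
        obtain ⟨k, hk, hk'⟩ := this.1 ⟨h, hh, rfl⟩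
        have he : k = (⟨g, hgS⟩ : S) * h * (⟨g, hgS⟩ : S)⁻¹ := Subtype.ext hk'
        rwa [← he]
      · intro hh
        obtain ⟨k, hk, hk'⟩ := this.2 ⟨_, hh, rfl⟩
        have he : k = h := Subtype.ext hk'
        rwa [← he]
  rw [← Subgroup.relIndex_map_map_of_injective _ _ S.subtype_injective, hC, hN] at hd
  set C := Subgroup.centralizer (H' : Set G)
  set N := Subgroup.normalizer (H' : Set G)
  have hCN : C ⊓ S ⊓ (N ⊓ S) = C ⊓ (N ⊓ S) := by
    rw [inf_assoc, inf_left_comm S N S, inf_idem]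
  rw [← Subgroup.inf_relIndex_right, hCN, Subgroup.inf_relIndex_right] at hd
  haveI : (C.subgroupOf N).Normal := by
    refine ⟨fun c hc g => ?_⟩
    rw [Subgroup.mem_subgroupOf, Subgroup.mem_centralizer_iff] at *
    intro y hy
    have hy' : (g : G)⁻¹ * y * g ∈ H' := (Subgroup.mem_normalizer_iff''.1 g.2 y).1 hy
    have h1 := congrArg (fun w => (g : G) * w * (g : G)⁻¹) (hc _ hy')
    simpa [mul_assoc] using h1
  refine hd.trans ?_
  rw [← Subgroup.relIndex_subgroupOf (inf_le_left : N ⊓ S ≤ N)]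
  exact Subgroup.relIndex_dvd_index_of_normal (H := C.subgroupOf N) (K := (N ⊓ S).subgroupOf N)

/-- A π-element normalizing a π'-subgroup centralizes it when automizers of π'-subgroups are π'. -/
theorem centralizes_of_pi_element {π : Set ℕ}
    (hhom : ∀ H : Subgroup G, H ≠ ⊥ → (∀ p : ℕ, p.Prime → p ∣ Nat.card ↥H → p ∉ π) →
        ∀ p : ℕ, p.Prime → p ∣ (Subgroup.centralizer (H : Set G)).relIndex (Subgroup.normalizer (H : Set G)) → p ∉ π)
    (H : Subgroup G) (hH : ∀ p : ℕ, p.Prime → p ∣ Nat.card ↥H → p ∉ π)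
    {z : G} (hz : z ∈ Subgroup.normalizer (H : Set G)) (hzπ : ∀ p : ℕ, p.Prime → p ∣ orderOf z → p ∈ π) :
    z ∈ Subgroup.centralizer (H : Set G) := by
  by_cases hb : H = ⊥
  · subst hb
    rw [Subgroup.mem_centralizer_iff]
    intro y hy
    rw [Subgroup.mem_bot.1 hy, one_mul, mul_one]
  set C := Subgroup.centralizer (H : Set G)
  set N := Subgroup.normalizer (H : Set G)
  haveI : (C.subgroupOf N).Normal := by
    refine ⟨fun c hc g => ?_⟩
    rw [Subgroup.mem_subgroupOf, Subgroup.mem_centralizer_iff] at *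
    intro y hy
    have hy' : (g : G)⁻¹ * y * g ∈ H := (Subgroup.mem_normalizer_iff''.1 g.2 y).1 hy
    have h1 := congrArg (fun w => (g : G) * w * (g : G)⁻¹) (hc _ hy')
    simpa [mul_assoc] using h1
  have h1 : (⟨z, hz⟩ : N) ^ C.relIndex N ∈ C.subgroupOf N := Subgroup.pow_index_mem _ _
  rw [Subgroup.mem_subgroupOf] at h1
  exact mem_of_pow_mem_coprime
    (Nat.coprime_of_dvd fun p hp hp1 hp2 => hhom H hb hH p hp hp1 (hzπ p hp hp2))
    (by simpa using h1) (by rw [pow_orderOf_eq_one]; exact one_mem _)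

/-- Lifting: a π-element of `G ⧸ L` of prime power order normalizing the image of a Sylow subgroup
of a π'-section centralizes that image. -/
theorem image_sylow_centralized {π : Set ℕ}
    (hhom : ∀ H : Subgroup G, H ≠ ⊥ → (∀ p : ℕ, p.Prime → p ∣ Nat.card ↥H → p ∉ π) →
        ∀ p : ℕ, p.Prime → p ∣ (Subgroup.centralizer (H : Set G)).relIndex (Subgroup.normalizer (H : Set G)) → p ∉ π)
    (L : Subgroup G) [L.Normal] (hL : ∀ p : ℕ, p.Prime → p ∣ Nat.card L → p ∈ π)
    {r : ℕ} (hr : r.Prime) (hrπ : r ∉ π) (Rb : Subgroup (G ⧸ L)) (hRb : IsPGroup r Rb)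
    {w : G ⧸ L} (hwπ : ∀ p : ℕ, p.Prime → p ∣ orderOf w → p ∈ π)
    (hw : w ∈ Subgroup.normalizer (Rb : Set (G ⧸ L))) :
    w ∈ Subgroup.centralizer (Rb : Set (G ⧸ L)) := by
  haveI := Fact.mk hr
  set X := Rb.comap (QuotientGroup.mk' L) with hX
  set N := Subgroup.normalizer (X : Set G) with hN
  haveI : (X.subgroupOf N).Normal := Subgroup.normal_in_normalizer
  obtain ⟨R⟩ := (inferInstance : Nonempty (Sylow r (X.subgroupOf N)))
  have hFr := Sylow.normalizer_sup_eq_top R
  obtain ⟨w0, rfl⟩ := QuotientGroup.mk'_surjective L w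
  have hw0 : w0 ∈ N := by
    rw [hN, Subgroup.mem_normalizer_iff]
    intro y
    show (QuotientGroup.mk' L) y ∈ Rb ↔ (QuotientGroup.mk' L) (w0 * y * w0⁻¹) ∈ Rb
    rw [map_mul, map_mul, map_inv]
    exact Subgroup.mem_normalizer_iff.1 hw _
  set R' := ((R : Subgroup (X.subgroupOf N)).map (X.subgroupOf N).subtype).map N.subtype with hR'
  have hR'X : R' ≤ X := by
    rintro _ ⟨_, ⟨a, -, rfl⟩, rfl⟩
    exact a.2
  have hR'p : IsPGroup r R' := (R.isPGroup'.map _).map _
  have hR'card : Nat.card R' = Nat.card (R : Subgroup (X.subgroupOf N)) := by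
    rw [hR', Subgroup.card_subtype, Subgroup.card_subtype]
  -- R' maps onto Rb
  have himg : R'.map (QuotientGroup.mk' L) = Rb := by
    refine Subgroup.eq_of_le_of_card_ge
      ((Subgroup.map_mono hR'X).trans (Subgroup.map_comap_le _ _)) (Nat.le_of_dvd Nat.card_pos ?_)
    obtain ⟨i, hi⟩ := IsPGroup.iff_card.1 hRb
    have hcardX : Nat.card (X.subgroupOf N) = Nat.card L * r ^ i := by
      rw [Nat.card_congr (Subgroup.subgroupOfEquivOfLe (Subgroup.le_normalizer)).toEquiv, ← hi]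
      have hLX : L ≤ X := fun a ha => by
        show (QuotientGroup.mk' L) a ∈ Rb
        rw [show (QuotientGroup.mk' L) a = 1 from (QuotientGroup.eq_one_iff a).2 ha]
        exact one_mem _
      have h1 := Subgroup.card_mul_index (L.subgroupOf X)
      rw [Nat.card_congr (Subgroup.subgroupOfEquivOfLe hLX).toEquiv] at h1
      rw [← h1]
      congr 1
      have h2 := Subgroup.relIndex_comap (⊥ : Subgroup (G ⧸ L)) (QuotientGroup.mk' L) X
      rw [MonoidHom.comap_bot, QuotientGroup.ker_mk', hX,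
        Subgroup.map_comap_eq_self_of_surjective (QuotientGroup.mk'_surjective L), Subgroup.relIndex_bot_left] at h2
      exact h2
    have hrL : ¬ r ∣ Nat.card L := fun h => hrπ (hL r hr h)
    have hcR : Nat.card R' = r ^ i := by
      rw [hR'card, Sylow.card_eq_multiplicity R, hcardX,
        Nat.factorization_mul Nat.card_pos.ne' (pow_ne_zero i hr.ne_zero), Nat.Prime.factorization_pow hr]
      simp [Nat.factorization_eq_zero_of_not_dvd hrL]
    have hinj : Set.InjOn (QuotientGroup.mk' L) R' := by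
      intro a ha b hb hab
      have hd : Disjoint L R' := Subgroup.disjoint_of_coprime_natCard (by
        rw [hcR]; exact (((hr.coprime_iff_not_dvd).2 hrL).pow_left i).symm)
      have h1 : a⁻¹ * b ∈ L := QuotientGroup.eq.1 hab
      exact inv_mul_eq_one.1 (Subgroup.disjoint_def.1 hd h1 (mul_mem (inv_mem ha) hb))
    rw [hi, ← hcR]
    exact dvd_of_eq (Nat.card_congr (Equiv.Set.imageOfInjOn _ _ hinj))
  -- Frattini argument
  have hmem : (⟨w0, hw0⟩ : N) ∈ Subgroup.normalizer
      (((R : Subgroup (X.subgroupOf N)).map (X.subgroupOf N).subtype : Subgroup N) : Set N) ⊔ X.subgroupOf N := by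
    rw [hFr]; exact Subgroup.mem_top _
  rw [← SetLike.mem_coe, Subgroup.mul_normal] at hmem
  obtain ⟨n, hn, y, hy, hny⟩ := hmem
  have hwn : w0 = (n : G) * (y : G) := (congrArg Subtype.val hny).symm
  have hyimg : QuotientGroup.mk' L (y : G) ∈ R'.map (QuotientGroup.mk' L) := himg.symm ▸ hy
  obtain ⟨a, ha, hay⟩ := hyimg
  set z := (n : G) * a with hz
  have hzN : z ∈ Subgroup.normalizer (R' : Set G) :=
    mul_mem (Subgroup.le_normalizer_map N.subtype ⟨n, hn, rfl⟩) (Subgroup.le_normalizer ha)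
  have hzimg : QuotientGroup.mk' L z = QuotientGroup.mk' L w0 := by
    rw [hz, hwn, map_mul, map_mul, hay]
  have hzπ : ∀ p : ℕ, p.Prime → p ∣ orderOf z → p ∈ π := by
    intro p hp hd
    have h1 : z ^ orderOf (QuotientGroup.mk' L w0) ∈ L := by
      rw [← QuotientGroup.eq_one_iff, ← QuotientGroup.mk'_apply, map_pow, hzimg, pow_orderOf_eq_one]
    have h2 : orderOf z ∣ orderOf (QuotientGroup.mk' L w0) * Nat.card L := by
      apply orderOf_dvd_of_pow_eq_one
      rw [pow_mul]
      exact congrArg Subtype.val (pow_card_eq_one' (x := (⟨_, h1⟩ : L)))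
    rcases (Nat.Prime.dvd_mul hp).1 (hd.trans h2) with h | h
    · exact hwπ p hp h
    · exact hL p hp h
  have hc := centralizes_of_pi_element hhom R' (fun p hp hd => by
    obtain ⟨i, hi⟩ := IsPGroup.iff_card.1 hR'p
    rw [hi] at hd
    rw [(Nat.prime_dvd_prime_iff_eq hp hr).1 (hp.dvd_of_dvd_pow hd)]
    exact hrπ) hzN hzπ
  rw [← hzimg, ← himg, Subgroup.mem_centralizer_iff]
  rintro _ ⟨b, hb, rfl⟩
  rw [← map_mul, ← map_mul, Subgroup.mem_centralizer_iff.1 hc b hb]

/-- Extension of π-closed groups under homogeneity for π'-subgroups. -/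
theorem pi_closed_extension {π : Set ℕ}
    (hhom : ∀ H : Subgroup G, H ≠ ⊥ → (∀ p : ℕ, p.Prime → p ∣ Nat.card ↥H → p ∉ π) →
        ∀ p : ℕ, p.Prime → p ∣ (Subgroup.centralizer (H : Set G)).relIndex (Subgroup.normalizer (H : Set G)) → p ∉ π)
    (K : Subgroup G) [K.Normal]
    (hK : ∃ L : Subgroup ↥K, ∀ x : ↥K, x ∈ L ↔ ∀ p : ℕ, p.Prime → p ∣ orderOf x → p ∈ π)
    (hQ : ∃ L : Subgroup (G ⧸ K), ∀ x : G ⧸ K, x ∈ L ↔ ∀ p : ℕ, p.Prime → p ∣ orderOf x → p ∈ π) :
    ∃ W : Subgroup G, ∀ x : G, x ∈ W ↔ ∀ p : ℕ, p.Prime → p ∣ orderOf x → p ∈ π := by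
  obtain ⟨LK, hLK⟩ := hK
  obtain ⟨LQ, hLQ⟩ := hQ
  set L := LK.map K.subtype with hLdef
  have hLmem : ∀ x : G, x ∈ L ↔ x ∈ K ∧ ∀ p : ℕ, p.Prime → p ∣ orderOf x → p ∈ π := by
    intro x
    constructor
    · rintro ⟨y, hy, rfl⟩
      exact ⟨y.2, by simpa using (hLK y).1 hy⟩
    · rintro ⟨hx, hxπ⟩
      exact ⟨⟨x, hx⟩, (hLK _).2 (by rwa [Subgroup.orderOf_mk]), rfl⟩
  haveI hLn : L.Normal := by
    refine ⟨fun x hx g => (hLmem _).2 ⟨(inferInstance : K.Normal).conj_mem x ((hLmem x).1 hx).1 g, ?_⟩⟩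
    have h : orderOf (g * x * g⁻¹) = orderOf x := (MulAut.conj g).orderOf_eq x
    rw [h]; exact ((hLmem x).1 hx).2
  have hLcard : ∀ p : ℕ, p.Prime → p ∣ Nat.card L → p ∈ π := by
    rw [hLdef, Subgroup.card_subtype]; exact card_of_forall_mem_iff LK hLK
  set Kb := K.map (QuotientGroup.mk' L)
  have hLK' : L ≤ K := fun x hx => ((hLmem x).1 hx).1
  haveI hKbn : Kb.Normal := Subgroup.Normal.map inferInstance _ (QuotientGroup.mk'_surjective L)
  have hKb : ∀ p : ℕ, p.Prime → p ∣ Nat.card Kb → p ∉ π := by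
    intro p hp hd
    apply index_of_forall_mem_iff LK hLK p hp
    have h2 := Subgroup.relIndex_ker (QuotientGroup.mk' L) (K := K)
    rw [QuotientGroup.ker_mk'] at h2
    have h3 : L.subgroupOf K = LK := by
      rw [hLdef]; exact Subgroup.comap_map_eq_self_of_injective K.subtype_injective LK
    rw [Subgroup.relIndex, h3] at h2
    rw [h2]; exact hd
  set Mb := (LQ.comap (QuotientGroup.mk' K)).map (QuotientGroup.mk' L) with hMb
  have hKM : Kb ≤ Mb := Subgroup.map_mono fun x hx => by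
    show QuotientGroup.mk' K x ∈ LQ
    rw [show QuotientGroup.mk' K x = 1 from (QuotientGroup.eq_one_iff x).2 hx]
    exact one_mem _
  -- π-elements of G land in Mb
  have hπM : ∀ x : G, (∀ p : ℕ, p.Prime → p ∣ orderOf x → p ∈ π) → QuotientGroup.mk' L x ∈ Mb := fun x hx =>
    ⟨x, (hLQ _).2 fun p hp hd => hx p hp (hd.trans (orderOf_map_dvd _ x)), rfl⟩
  have hMK : ∀ p : ℕ, p.Prime → p ∣ Kb.relIndex Mb → p ∈ π := by
    intro p hp hd
    apply card_of_forall_mem_iff LQ hLQ p hp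
    refine hd.trans ?_
    have e1 : Kb.relIndex Mb = K.relIndex (LQ.comap (QuotientGroup.mk' K)) := by
      rw [Subgroup.relIndex_map_map, QuotientGroup.ker_mk', sup_eq_left.2 hLK']
      congr 1
      refine sup_eq_left.2 (fun x hx => ?_)
      show QuotientGroup.mk' K x ∈ LQ
      rw [show QuotientGroup.mk' K x = 1 from (QuotientGroup.eq_one_iff x).2 (hLK' hx)]
      exact one_mem _
    have h2 := Subgroup.relIndex_ker (QuotientGroup.mk' K) (K := LQ.comap (QuotientGroup.mk' K))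
    rw [QuotientGroup.ker_mk', Subgroup.map_comap_eq_self_of_surjective (QuotientGroup.mk'_surjective K)] at h2
    rw [e1, h2]
  have hcop : (Nat.card (Kb.subgroupOf Mb)).Coprime (Kb.subgroupOf Mb).index := by
    rw [Nat.card_congr (Subgroup.subgroupOfEquivOfLe hKM).toEquiv]
    exact Nat.coprime_of_dvd fun p hp h1 h2 => hKb p hp h1 (hMK p hp h2)
  obtain ⟨T, hT⟩ := Subgroup.exists_right_complement'_of_coprime hcop
  have hTcard : ∀ p : ℕ, p.Prime → p ∣ Nat.card T → p ∈ π := by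
    intro p hp hd
    rw [← hT.symm.index_eq_card] at hd
    exact hMK p hp hd
  -- prime power elements of T centralize Kb
  have hqc : ∀ w : Mb, w ∈ T → ∀ q k : ℕ, q.Prime → orderOf w = q ^ k →
      (w : G ⧸ L) ∈ Subgroup.centralizer (Kb : Set (G ⧸ L)) := by
    intro w hw q k hq hwk
    have hwπ : ∀ p : ℕ, p.Prime → p ∣ orderOf (w : G ⧸ L) → p ∈ π := by
      intro p hp hd
      rw [Subgroup.orderOf_coe, ← Subgroup.orderOf_mk w hw] at hd
      exact hTcard p hp (hd.trans (orderOf_dvd_natCard _))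
    haveI := Fact.mk hq
    suffices h : Kb ≤ Subgroup.centralizer ({(w : G ⧸ L)} : Set (G ⧸ L)) by
      rw [Subgroup.mem_centralizer_iff]
      exact fun y hy => Subgroup.mem_centralizer_singleton_iff.1 (h hy)
    rw [← Subgroup.relIndex_eq_one, Subgroup.relIndex, Nat.eq_one_iff_not_exists_prime_dvd]
    intro r hr hd
    haveI := Fact.mk hr
    have hrK : r ∣ Nat.card Kb := hd.trans (Subgroup.index_dvd_card _)
    have hrπ : r ∉ π := hKb r hr hrK
    by_cases hk0 : k = 0
    · rw [hk0, pow_zero, orderOf_eq_one_iff] at hwk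
      subst hwk
      obtain ⟨S⟩ := (inferInstance : Nonempty (Sylow r Kb))
      refine S.not_dvd_index (hd.trans (Subgroup.index_dvd_of_le fun y _ => ?_))
      rw [Subgroup.mem_subgroupOf, Subgroup.mem_centralizer_singleton_iff]
      simp
    have hqπ : q ∈ π := hwπ q hq (by rw [Subgroup.orderOf_coe, hwk]; exact dvd_pow_self q hk0)
    let act : Subgroup.zpowers (w : G ⧸ L) →* MulAut Kb :=
      (MulAut.conjNormal (H := Kb)).comp (Subgroup.zpowers (w : G ⧸ L)).subtype
    letI : MulDistribMulAction (Subgroup.zpowers (w : G ⧸ L)) Kb := MulDistribMulAction.compHom Kb act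
    have hXp : IsPGroup q (Subgroup.zpowers (w : G ⧸ L)) :=
      IsPGroup.of_card (n := k) (by rw [Nat.card_zpowers, Subgroup.orderOf_coe, hwk])
    have hnq : ¬ q ∣ Nat.card (Sylow r Kb) := by
      obtain ⟨S⟩ := (inferInstance : Nonempty (Sylow r Kb))
      intro h
      exact hKb q hq ((h.trans S.card_dvd_index).trans (Subgroup.index_dvd_card _)) hqπ
    obtain ⟨S, hS⟩ := hXp.nonempty_fixed_point_of_prime_not_dvd_card (Sylow r Kb) hnq
    refine S.not_dvd_index (hd.trans (Subgroup.index_dvd_of_le fun y hy => ?_))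
    rw [Subgroup.mem_subgroupOf, Subgroup.mem_centralizer_singleton_iff]
    have hnorm : (w : G ⧸ L) ∈ Subgroup.normalizer
        (((S : Subgroup Kb).map Kb.subtype : Subgroup (G ⧸ L)) : Set (G ⧸ L)) := by
      have h1 : ∀ t : Subgroup.zpowers (w : G ⧸ L), ∀ y ∈ (S : Subgroup Kb), t • y ∈ (S : Subgroup Kb) := by
        intro t y hy
        have := hS t
        rw [Sylow.ext_iff] at this
        rw [← this]
        exact Subgroup.smul_mem_pointwise_smul _ _ _ hy
      rw [Subgroup.mem_normalizer_iff]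
      intro z
      constructor
      · rintro ⟨y, hy, rfl⟩
        exact ⟨_, h1 ⟨_, Subgroup.mem_zpowers _⟩ y hy, rfl⟩
      · rintro ⟨y, hy, hz⟩
        refine ⟨_, h1 ⟨_, inv_mem (Subgroup.mem_zpowers (w : G ⧸ L))⟩ y hy, ?_⟩
        show (w : G ⧸ L)⁻¹ * (y : G ⧸ L) * (w : G ⧸ L)⁻¹⁻¹ = z
        rw [show (y : G ⧸ L) = _ from hz]
        simp [mul_assoc]
    have hc := image_sylow_centralized hhom L hLcard hr hrπ _ (S.isPGroup'.map Kb.subtype) hwπ hnorm
    exact Subgroup.mem_centralizer_iff.1 hc _ ⟨y, hy, rfl⟩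
  have hTc : ∀ t : Mb, t ∈ T → (t : G ⧸ L) ∈ Subgroup.centralizer (Kb : Set (G ⧸ L)) := by
    let Cc := ((Subgroup.centralizer (Kb : Set (G ⧸ L))).subgroupOf Mb).subgroupOf T
    have hCc : Cc = ⊤ := by
      rw [← Subgroup.index_eq_one, Nat.eq_one_iff_not_exists_prime_dvd]
      intro q hq hd
      haveI := Fact.mk hq
      obtain ⟨S⟩ := (inferInstance : Nonempty (Sylow q T))
      refine S.not_dvd_index (hd.trans (Subgroup.index_dvd_of_le fun y hy => ?_))
      obtain ⟨k, hk⟩ := (IsPGroup.iff_orderOf.1 S.isPGroup') ⟨y, hy⟩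
      rw [Subgroup.orderOf_mk] at hk
      exact hqc y y.2 q k hq (by rw [Subgroup.orderOf_coe, hk])
    intro t ht
    have : (⟨t, ht⟩ : T) ∈ Cc := hCc ▸ Subgroup.mem_top _
    exact this
  haveI hTn : T.Normal := by
    rw [← Subgroup.normalizer_eq_top_iff, eq_top_iff, ← hT.sup_eq_top]
    refine sup_le (fun a ha => ?_) Subgroup.le_normalizer
    rw [Subgroup.mem_normalizer_iff]
    intro t
    constructor
    · intro ht
      have : a * t = t * a := Subtype.ext (Subgroup.mem_centralizer_iff.1 (hTc t ht) _ ha)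
      rwa [this, mul_assoc, mul_inv_cancel, mul_one]
    · intro ht
      have : a * (a * t * a⁻¹) = a * t * a⁻¹ * a := Subtype.ext (Subgroup.mem_centralizer_iff.1 (hTc _ ht) _ ha)
      rw [inv_mul_cancel_right] at this
      rwa [mul_left_cancel this] at ht
  refine ⟨(T.map Mb.subtype).comap (QuotientGroup.mk' L), fun x => ⟨fun hx p hp hd => ?_, fun hx => ?_⟩⟩
  · obtain ⟨t, ht, htx⟩ := hx
    have h1 : x ^ Nat.card T ∈ L := by
      rw [← QuotientGroup.eq_one_iff, ← QuotientGroup.mk'_apply, map_pow, ← htx, ← map_pow,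
        show t ^ Nat.card T = 1 from congrArg Subtype.val (pow_card_eq_one' (x := (⟨t, ht⟩ : T))), map_one]
    have h2 : orderOf x ∣ Nat.card T * Nat.card L := by
      apply orderOf_dvd_of_pow_eq_one
      rw [pow_mul]
      exact congrArg Subtype.val (pow_card_eq_one' (x := (⟨_, h1⟩ : L)))
    rcases (Nat.Prime.dvd_mul hp).1 (hd.trans h2) with h | h
    · exact hTcard p hp h
    · exact hLcard p hp h
  · refine ⟨⟨_, hπM x hx⟩, ?_, rfl⟩
    refine mem_of_pow_mem_coprime (a := T.index) (b := orderOf x) ?_ (Subgroup.pow_index_mem T _) ?_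
    · rw [hT.index_eq_card, Nat.card_congr (Subgroup.subgroupOfEquivOfLe hKM).toEquiv]
      exact Nat.coprime_of_dvd fun p hp h1 h2 => hKb p hp h1 (hx p hp h2)
    · have : (⟨_, hπM x hx⟩ : Mb) ^ orderOf x = 1 := Subtype.ext (by
        simp only [SubmonoidClass.coe_pow, OneMemClass.coe_one]
        rw [← map_pow, pow_orderOf_eq_one, map_one])
      rw [this]; exact one_mem _

end CfsgLib.FGS73
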