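import Mathlib
import Cfsg.Prelude.Def_CaseTheorems
import Cfsg.Agent.Lib.Solvable.Core
import Cfsg.Agent.Lib.Solvable.SchurZassenhaus
import Cfsg.Agent.Lib.Invol.BaerSuzuki
import Cfsg.Agent.Lib.FGS73.Conj

set_option autoImplicit false
open scoped Pointwise

namespace CfsgLib.FGS73

/-- If no nontrivial element of odd order is real then the Sylow 2-subgroups are normal. -/
theorem normal_sylow_two_of_no_real_odd {G : Type*} [Group G] [Finite G]
    (hR : ∀ x : G, Odd (orderOf x) → IsConj x x⁻¹ → x = 1) (P : Sylow 2 G) :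
    (P : Subgroup G).Normal := by
  haveI : Fact (Nat.Prime 2) := ⟨Nat.prime_two⟩
  set M := Cfsg.pCore 2 G with hM
  haveI hMn : M.Normal := CfsgLib.Solvable.pCore_normal (p := 2) G
  have hMp : IsPGroup 2 M := CfsgLib.Solvable.pCore_isPGroup (p := 2) G
  -- the hypothesis passes to the quotient by the 2-core
  have hQ : ∀ y : G ⧸ M, Odd (orderOf y) → IsConj y y⁻¹ → y = 1 := by
    intro y hy hyc
    induction y using QuotientGroup.induction_on with
    | H x0 =>
      obtain ⟨g, hg⟩ := isConj_iff.1 hyc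
      induction g using QuotientGroup.induction_on with
      | H g =>
        obtain ⟨k, m, hm, hkm⟩ := Nat.exists_eq_two_pow_mul_odd (orderOf_pos x0).ne'
        set x := x0 ^ 2 ^ k with hx
        have hxo : Odd (orderOf x) := by
          rw [hx, orderOf_pow_of_dvd (pow_ne_zero k two_ne_zero) (hkm ▸ dvd_mul_right _ _), hkm,
            Nat.mul_div_cancel_left _ (Nat.two_pow_pos k)]
          exact hm
        have hgx : (g : G ⧸ M) * (x : G ⧸ M) * (g : G ⧸ M)⁻¹ = (x : G ⧸ M)⁻¹ := by
          rw [hx, QuotientGroup.mk_pow, ← conj_pow, hg, inv_pow]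
        have hcop : (Nat.card M).Coprime (Nat.card (Subgroup.zpowers x)) := by
          obtain ⟨i, hi⟩ := IsPGroup.iff_card.1 hMp
          rw [hi, Nat.card_zpowers]
          exact (Nat.coprime_two_left.2 hxo).pow_left i
        have hle : Subgroup.zpowers (g * x * g⁻¹) ≤ M ⊔ Subgroup.zpowers x := by
          rw [Subgroup.zpowers_le]
          have h1 : g * x * g⁻¹ * x ∈ M := by
            rw [← QuotientGroup.eq_one_iff, QuotientGroup.mk_mul, QuotientGroup.mk_mul,
              QuotientGroup.mk_mul, QuotientGroup.mk_inv, hgx, inv_mul_cancel]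
          have : g * x * g⁻¹ = g * x * g⁻¹ * x * x⁻¹ := by simp [mul_assoc]
          rw [this]
          exact mul_mem (Subgroup.mem_sup_left h1)
            (Subgroup.mem_sup_right (inv_mem (Subgroup.mem_zpowers x)))
        haveI : Group.IsNilpotent M := hMp.isNilpotent
        obtain ⟨n, hn, hconj⟩ := CfsgLib.Solvable.exists_conj_eq_of_coprime
          Subgroup.le_normalizer_of_normal hle
          (by rw [Nat.card_zpowers, Nat.card_zpowers]; exact (MulAut.conj g).orderOf_eq x)
          hcop (Or.inl inferInstance)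
        have hmem : (n⁻¹ * g) * x * (n⁻¹ * g)⁻¹ ∈ Subgroup.zpowers x := by
          have h2 : g * x * g⁻¹ ∈ MulAut.conj n • Subgroup.zpowers x := hconj ▸ Subgroup.mem_zpowers _
          rw [Subgroup.mem_pointwise_smul_iff_inv_smul_mem, ← map_inv, MulAut.smul_def,
            MulAut.conj_apply, inv_inv] at h2
          simpa [mul_assoc] using h2
        have hinv : (n⁻¹ * g) * x * (n⁻¹ * g)⁻¹ * x = 1 := by
          have h3 : (n⁻¹ * g) * x * (n⁻¹ * g)⁻¹ * x ∈ M := by
            rw [← QuotientGroup.eq_one_iff]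
            simp only [QuotientGroup.mk_mul, QuotientGroup.mk_inv, (QuotientGroup.eq_one_iff n).2 hn,
              inv_one, one_mul, hgx, inv_mul_cancel]
          exact (Subgroup.disjoint_def.1 (Subgroup.disjoint_of_coprime_natCard hcop)) h3
            (mul_mem hmem (Subgroup.mem_zpowers x))
        have hx1 : x = 1 := hR x hxo (isConj_iff.2 ⟨n⁻¹ * g, mul_eq_one_iff_eq_inv.1 hinv⟩)
        have h4 : (x0 : G ⧸ M) ^ 2 ^ k = 1 := by rw [← QuotientGroup.mk_pow, ← hx, hx1, QuotientGroup.mk_one]
        rw [← Subgroup.mem_bot]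
        exact mem_of_pow_mem_coprime (a := 2 ^ k) (b := orderOf (x0 : G ⧸ M))
          ((Nat.coprime_two_left.2 hy).pow_left k) (by rw [h4]; exact one_mem _)
          (by rw [pow_orderOf_eq_one]; exact one_mem _)
  have hodd : ¬ 2 ∣ M.index := by
    intro h2
    rw [Subgroup.index_eq_card] at h2
    obtain ⟨t, ht⟩ := exists_prime_orderOf_dvd_card' 2 h2
    have htne : ∀ N : Subgroup (G ⧸ M), N.Normal → IsPGroup 2 N → t ∉ N := by
      intro N hN hNp htN
      have h := CfsgLib.Solvable.le_pCore hN hNp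
      rw [CfsgLib.Solvable.pCore_quotient_eq_bot M hM] at h
      have := Subgroup.mem_bot.1 (h htN)
      rw [this, orderOf_one] at ht
      exact absurd ht (by norm_num)
    obtain ⟨h, h1, h2, h3⟩ := CfsgLib.Invol.exists_odd_inverted_of_notMem_normal_two ht htne
    exact h1 (hQ h h2 (isConj_iff.2 ⟨t, h3⟩))
  have hPM : (P : Subgroup G) = M := by
    refine le_antisymm ?_ (CfsgLib.Solvable.pCore_le_sylow P)
    intro a ha
    obtain ⟨k, hk⟩ := P.isPGroup' ⟨a, ha⟩
    exact mem_of_pow_mem_coprime (a := M.index) (b := 2 ^ k)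
      ((Nat.prime_two.coprime_iff_not_dvd.2 hodd).symm.pow_right k)
      (Subgroup.pow_index_mem M a) (by rw [show a ^ 2 ^ k = 1 from congrArg Subtype.val hk]; exact one_mem _)
  rw [hPM]
  exact hMn

end CfsgLib.FGS73
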