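/-
Groups whose real 2-elements are central in a Sylow 2-subgroup.
-/
import Cfsg.Agent.Lib.FGS73.RealOdd
import Cfsg.Agent.Lib.Transfer.Tate
import Cfsg.Agent.Lib.Fusion.FrobeniusCriterion

set_option autoImplicit false

namespace CfsgLib.FGS73

universe u

/-- An automorphism of odd order of a 2-group fixes `x` once it moves it by a fixed element. -/
theorem fixed_of_twist_two {P : Type*} [Group P] (hP : IsPGroup 2 P) {α : MulAut P}
    (hα : Odd (orderOf α)) {x d : P} (hx : α x = x * d) (hd : α d = d) : α x = x := by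
  have h : ∀ j : ℕ, (α ^ j) x = x * d ^ j := by
    intro j
    induction j with
    | zero => simp
    | succ j ih => rw [pow_succ', MulAut.mul_apply, ih, map_mul, map_pow, hd, hx, mul_assoc, ← pow_succ']
  have h1 := h (orderOf α)
  rw [pow_orderOf_eq_one, MulAut.one_apply, left_eq_mul] at h1
  obtain ⟨k, hk⟩ := hP d
  have h2 : orderOf d ∣ 1 := by
    have hco : Nat.Coprime (orderOf α) (2 ^ k) := (Nat.coprime_two_right.2 hα).pow_right k
    rw [← hco.gcd_eq_one]
    exact Nat.dvd_gcd (orderOf_dvd_of_pow_eq_one h1) (orderOf_dvd_of_pow_eq_one hk)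
  rw [hx, orderOf_eq_one_iff.1 (Nat.dvd_one.1 h2), mul_one]

/-- A non-trivial 2-group is not generated by its squares. -/
theorem closure_squares_ne_top {P : Type*} [Group P] [Finite P] (hP : IsPGroup 2 P) [Nontrivial P] :
    Subgroup.closure (Set.range fun u : P => u ^ 2) ≠ ⊤ := by
  haveI : Fact (Nat.Prime 2) := ⟨Nat.prime_two⟩
  obtain ⟨n, hn⟩ := IsPGroup.iff_card.1 hP
  have h1 : 1 < Nat.card P := Finite.one_lt_card
  have hn0 : n ≠ 0 := fun e => by rw [hn, e, pow_zero] at h1; exact lt_irrefl 1 h1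
  obtain ⟨M, hM⟩ := Sylow.exists_subgroup_card_pow_prime 2 (n := n - 1) (G := P)
    (hn ▸ pow_dvd_pow 2 (Nat.sub_le n 1))
  have hidx : M.index = 2 := by
    have h := M.card_mul_index
    rw [hM, hn, ← Nat.sub_add_cancel (Nat.one_le_iff_ne_zero.2 hn0), pow_succ,
      Nat.add_sub_cancel] at h
    exact Nat.eq_of_mul_eq_mul_left (Nat.two_pow_pos (n - 1)) h
  intro h
  have hle : Subgroup.closure (Set.range fun u : P => u ^ 2) ≤ M := by
    rw [Subgroup.closure_le]
    rintro _ ⟨u, rfl⟩
    exact Subgroup.sq_mem_of_index_two hidx u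
  rw [h, top_le_iff] at hle
  rw [hle, Subgroup.index_top] at hidx
  exact absurd hidx (by norm_num)

/-- The minimal case: the proper invariant subgroups are fixed pointwise. -/
theorem fix_of_proper_fixed {P : Type u} [Group P] [Finite P] (hP : IsPGroup 2 P) {α : MulAut P}
    (hα : Odd (orderOf α)) (hinv : ∀ x : P, x ^ 2 = 1 → α x = x)
    (hreal : ∀ x : P, IsConj x x⁻¹ → x ^ 2 = 1)
    (hprop : ∀ H : Subgroup P, (∀ x ∈ H, α x ∈ H) → H ≠ ⊤ → ∀ x ∈ H, α x = x) :
    ∀ x : P, α x = x := by
  by_contra hcon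
  push Not at hcon
  obtain ⟨x, hx⟩ := hcon
  haveI : Nontrivial P := ⟨⟨x, α x, Ne.symm hx⟩⟩
  -- an invariant subgroup containing all the displacements is everything
  have hbig : ∀ H : Subgroup P, (∀ y ∈ H, α y ∈ H) → (∀ y, y⁻¹ * α y ∈ H) → H = ⊤ := by
    intro H h1 h2
    by_contra h3
    exact hx (fixed_of_twist_two hP hα (mul_inv_cancel_left x (α x)).symm (hprop H h1 h3 _ (h2 x)))
  set Q := Subgroup.closure (Set.range fun u : P => u ^ 2) with hQ
  have hsq : ∀ u : P, u ^ 2 ∈ Q := fun u => Subgroup.subset_closure ⟨u, rfl⟩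
  have hQinv : ∀ y ∈ Q, α y ∈ Q := by
    intro y hy
    have hle : Q ≤ Q.comap α.toMonoidHom := by
      rw [hQ, Subgroup.closure_le]
      rintro _ ⟨u, rfl⟩
      change α (u ^ 2) ∈ Q
      rw [map_pow]
      exact hsq _
    exact hle hy
  have hfix : ∀ y ∈ Q, α y = y := hprop Q hQinv (closure_squares_ne_top hP)
  have hconjQ : ∀ u : P, ∀ y ∈ Q, u * y * u⁻¹ ∈ Q := by
    intro u y hy
    have hle : Q ≤ Q.comap (MulAut.conj u).toMonoidHom := by
      rw [hQ, Subgroup.closure_le]
      rintro _ ⟨v, rfl⟩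
      change MulAut.conj u (v ^ 2) ∈ Q
      rw [map_pow]
      exact hsq _
    exact hle hy
  -- the squares are central
  have hC : Subgroup.centralizer (Q : Set P) = ⊤ := by
    refine hbig _ (fun y hy => ?_) (fun y => ?_)
    · rw [Subgroup.mem_centralizer_iff] at hy ⊢
      intro s hs
      have h := congrArg α (hy s hs)
      rwa [map_mul, map_mul, hfix s hs] at h
    · rw [Subgroup.mem_centralizer_iff]
      intro s hs
      have h := hfix _ (hconjQ y s hs)
      rw [map_mul, map_mul, hfix s hs, map_inv, mul_inv_eq_iff_eq_mul] at h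
      calc s * (y⁻¹ * α y) = y⁻¹ * (y * s * y⁻¹ * α y) := by group
        _ = y⁻¹ * (α y * s) := by rw [← h]
        _ = y⁻¹ * α y * s := by group
  have hcen : ∀ s ∈ Q, ∀ y : P, y * s = s * y := fun s hs y => by
    have hy : y ∈ Subgroup.centralizer (Q : Set P) := hC ▸ Subgroup.mem_top y
    exact (Subgroup.mem_centralizer_iff.1 hy s hs).symm
  have hcomm : ∀ u v : P, u * v * u⁻¹ * v⁻¹ ∈ Q := by
    intro u v
    have h : u * v * u⁻¹ * v⁻¹ = u ^ 2 * (u⁻¹ * v) ^ 2 * (v ^ 2)⁻¹ := by
      rw [pow_two (u⁻¹ * v)]; group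
    rw [h]
    exact mul_mem (mul_mem (hsq _) (hsq _)) (inv_mem (hsq _))
  -- the commutators with `x`
  let φ : P →* P :=
    { toFun := fun v => x * v * x⁻¹ * v⁻¹
      map_one' := by group
      map_mul' := fun v w => by
        calc x * (v * w) * x⁻¹ * (v * w)⁻¹
            = x * v * x⁻¹ * ((x * w * x⁻¹ * w⁻¹) * v⁻¹) := by group
          _ = x * v * x⁻¹ * (v⁻¹ * (x * w * x⁻¹ * w⁻¹)) := by rw [hcen _ (hcomm x w) v⁻¹]
          _ = _ := by group }
  set K := φ.range with hK
  have hKQ : ∀ k ∈ K, k ∈ Q := by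
    rintro _ ⟨v, rfl⟩
    exact hcomm x v
  haveI hKn : K.Normal := ⟨fun k hk g => by rwa [hcen k (hKQ k hk) g, mul_inv_cancel_right]⟩
  have hx2 : x ^ 2 ≠ 1 := fun h => hx (hinv x h)
  have hxK : x ^ 2 ∉ K := by
    rintro ⟨v, hv⟩
    refine hx2 (hreal x (IsConj.symm (isConj_iff.2 ⟨v, ?_⟩)))
    change x * v * x⁻¹ * v⁻¹ = x ^ 2 at hv
    calc v * x⁻¹ * v⁻¹ = x⁻¹ * (x * v * x⁻¹ * v⁻¹) := by group
      _ = x⁻¹ * x ^ 2 := by rw [hv]
      _ = x := by group
  have hKfix : ∀ k ∈ K, α k = k := fun k hk => hfix k (hKQ k hk)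
  -- the centre modulo `K` is everything
  have hZ : (Subgroup.center (P ⧸ K)).comap (QuotientGroup.mk' K) = ⊤ := by
    by_contra hne
    refine hx (hprop _ (fun y hy => ?_) hne x ?_)
    · rw [Subgroup.mem_comap, Subgroup.mem_center_iff] at hy ⊢
      intro q
      induction q using QuotientGroup.induction_on with
      | H w =>
        obtain ⟨w, rfl⟩ := α.surjective w
        have h := hy (w : P ⧸ K)
        simp only [QuotientGroup.mk'_apply, ← QuotientGroup.mk_mul] at h ⊢
        rw [QuotientGroup.eq] at h ⊢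
        rw [← map_mul, ← map_mul, ← map_inv, ← map_mul, hKfix _ h]
        exact h
    · rw [Subgroup.mem_comap, Subgroup.mem_center_iff]
      intro q
      induction q using QuotientGroup.induction_on with
      | H w =>
        refine Eq.symm ?_
        simp only [QuotientGroup.mk'_apply, ← QuotientGroup.mk_mul]
        rw [QuotientGroup.eq]
        have hm : φ w⁻¹ ∈ K := ⟨w⁻¹, rfl⟩
        change x * w⁻¹ * x⁻¹ * (w⁻¹)⁻¹ ∈ K at hm
        have e : (x * w)⁻¹ * (w * x) = w⁻¹ * x⁻¹ * w * x := by group
        rw [e]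
        convert hKn.conj_mem _ hm x⁻¹ using 1
        group
  letI : CommGroup (P ⧸ K) :=
    { (inferInstance : Group (P ⧸ K)) with
      mul_comm := fun a b => by
        induction b using QuotientGroup.induction_on with
        | H w =>
          have hw : w ∈ (Subgroup.center (P ⧸ K)).comap (QuotientGroup.mk' K) := hZ ▸ Subgroup.mem_top w
          exact Subgroup.mem_center_iff.1 hw a }
  -- the norm map
  set n := orderOf α with hn
  let N : P →* P ⧸ K := ∏ i ∈ Finset.range n, (QuotientGroup.mk' K).comp (α ^ i).toMonoidHom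
  have hN : ∀ y, N y = ∏ i ∈ Finset.range n, ((α ^ i) y : P ⧸ K) := fun y => by
    simp [N, MonoidHom.finsetProd_apply]
  have hNα : ∀ y, N (α y) = N y := by
    intro y
    rw [hN, hN]
    have h := Finset.prod_range_succ' (fun i => ((α ^ i) y : P ⧸ K)) n
    rw [Finset.prod_range_succ, hn, pow_orderOf_eq_one, pow_zero, MulAut.one_apply] at h
    have h' := mul_right_cancel h
    simpa [pow_succ, hn] using h'.symm
  have hker : N.ker = ⊤ := hbig _ (fun y hy => by rw [MonoidHom.mem_ker, hNα]; exact hy)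
    (fun y => by rw [MonoidHom.mem_ker, map_mul, map_inv, hNα, inv_mul_cancel])
  have hfixpow : ∀ i : ℕ, (α ^ i) (x ^ 2) = x ^ 2 := by
    intro i
    induction i with
    | zero => simp
    | succ i ih => rw [pow_succ', MulAut.mul_apply, ih, hfix _ (hsq x)]
  have h1 : N (x ^ 2) = 1 := MonoidHom.mem_ker.1 (hker ▸ Subgroup.mem_top _)
  rw [hN, Finset.prod_congr rfl (fun i _ => congrArg QuotientGroup.mk (hfixpow i)),
    Finset.prod_const, Finset.card_range, ← QuotientGroup.mk_pow, QuotientGroup.eq_one_iff] at h1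
  obtain ⟨k, hk⟩ := hP (x ^ 2)
  exact hxK (mem_of_pow_mem_coprime ((Nat.coprime_two_right.2 hα).pow_right k) h1
    (by rw [hk]; exact one_mem K))

/-- A coprime automorphism of a 2-group without real elements of order four that fixes all the
involutions is trivial. -/
theorem fix_of_fix_involutions : ∀ (n : ℕ) (P : Type u) [Group P] [Finite P], Nat.card P = n →
    IsPGroup 2 P → ∀ α : MulAut P, Odd (orderOf α) → (∀ x : P, x ^ 2 = 1 → α x = x) →
    (∀ x : P, IsConj x x⁻¹ → x ^ 2 = 1) → ∀ x : P, α x = x := by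
  intro n
  induction n using Nat.strong_induction_on with
  | _ n ih =>
    intro P _ _ hn hP α hα hinv hreal
    refine fix_of_proper_fixed hP hα hinv hreal fun H hH hne y hy => ?_
    let f : H →* H := (α.toMonoidHom.comp H.subtype).codRestrict H fun z => hH z z.2
    have hf : Function.Injective f := fun a b h => Subtype.ext (α.injective (congrArg Subtype.val h))
    let β : MulAut H := MulEquiv.ofBijective f (Finite.injective_iff_bijective.1 hf)
    have hpow : ∀ (i : ℕ) (z : H), ((β ^ i) z : P) = (α ^ i) z := by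
      intro i
      induction i with
      | zero => simp
      | succ i ih2 =>
        intro z
        rw [pow_succ', pow_succ', MulAut.mul_apply, MulAut.mul_apply, ← ih2]
        rfl
    have hβ : Odd (orderOf β) := hα.of_dvd_nat (orderOf_dvd_of_pow_eq_one (MulEquiv.ext fun z =>
      Subtype.ext (by rw [hpow, pow_orderOf_eq_one]; rfl)))
    have hlt : Nat.card H < n := by
      rw [← hn]
      exact lt_of_le_of_ne H.card_le_card_group fun e => hne (H.eq_top_of_card_eq e)
    have := ih _ hlt H rfl (hP.to_subgroup H) β hβ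
      (fun z hz => Subtype.ext (hinv z (by rw [← Subgroup.coe_pow, hz, Subgroup.coe_one])))
      (fun z hz => Subtype.ext (by
        have h := hreal z (by simpa using H.subtype.map_isConj hz)
        rw [Subgroup.coe_pow, h, Subgroup.coe_one])) ⟨y, hy⟩
    exact congrArg Subtype.val this

/-- The two structural conclusions, given the solvability of groups of odd order. -/
theorem solvable_and_npc_of_real_central {G : Type u} [Group G] [Finite G]
    (hFT : ∀ (K : Type u) [Group K] [Finite K], Odd (Nat.card K) → Group.IsSolvable K) (a : ℕ)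
    (h : ∀ x : G, IsConj x x⁻¹ → x ∉ Subgroup.center G →
      ((Subgroup.centralizer ({x} : Set G)).index).factorization 2 = a)
    (S : Sylow 2 G)
    (hS : ∀ s : ↥(S : Subgroup G), IsConj s s⁻¹ → s ∈ Subgroup.center ↥(S : Subgroup G)) :
    Group.IsSolvable G ∧
      Cfsg.HasNormalPComplement 2 ↥(Subgroup.closure {g : G | ∃ k : ℕ, orderOf g = 2 ^ k}) := by
  haveI : Fact (Nat.Prime 2) := ⟨Nat.prime_two⟩
  by_cases hA : ∃ t : G, t ^ 2 = 1 ∧ t ∉ Subgroup.center G
  · obtain ⟨t₀, ht₀, ht₀c⟩ := hA
    obtain ⟨c, hc⟩ : ∃ c : G, c * t₀ * c⁻¹ ∈ (S : Subgroup G) := by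
      obtain ⟨T, hT⟩ := (IsPGroup.of_card (n := 1) (G := Subgroup.zpowers t₀) (p := 2) (by
        rw [Nat.card_zpowers, pow_one]
        exact orderOf_eq_prime ht₀ fun e => ht₀c (e ▸ one_mem _))).exists_le_sylow
      obtain ⟨c, rfl⟩ := MulAction.exists_smul_eq G S T
      refine ⟨c⁻¹, ?_⟩
      have hm : t₀ ∈ ((c • S : Sylow 2 G) : Subgroup G) := hT (Subgroup.mem_zpowers _)
      rw [Sylow.coe_subgroup_smul, Subgroup.mem_pointwise_smul_iff_inv_smul_mem] at hm
      simpa using hm
    set t := c * t₀ * c⁻¹ with ht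
    have ht2 : t ^ 2 = 1 := by rw [ht, conj_pow, ht₀]; group
    have htc : t ∉ Subgroup.center G := fun hm => ht₀c (by
      have := (inferInstance : (Subgroup.center G).Normal).conj_mem _ hm c⁻¹
      simpa [ht, mul_assoc] using this)
    have htinv : t⁻¹ = t := inv_eq_of_mul_eq_one_left (by rw [← pow_two, ht2])
    have ha : a = 0 := by
      rw [← h t (htinv.symm ▸ IsConj.refl t) htc, Nat.factorization_eq_zero_iff]
      refine Or.inr (Or.inl fun hdvd => S.not_dvd_index (hdvd.trans (Subgroup.index_dvd_of_le ?_)))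
      intro s hs
      rw [Subgroup.mem_centralizer_singleton_iff]
      have hts := hS ⟨t, hc⟩ (by
        rw [show (⟨t, hc⟩ : ↥(S : Subgroup G))⁻¹ = ⟨t, hc⟩ from Subtype.ext htinv])
      exact congrArg Subtype.val (Subgroup.mem_center_iff.1 hts ⟨s, hs⟩)
    have hno : ∀ z : G, Odd (orderOf z) → IsConj z z⁻¹ → z = 1 := by
      intro z hz hr
      by_contra hz1
      have hne : z ≠ z⁻¹ := fun e => hz1 (eq_one_of_odd_of_eq_inv hz e)
      obtain ⟨g, hg⟩ := isConj_iff.1 hr
      have hzc : z ∉ Subgroup.center G := fun hm => hne (by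
        rwa [Subgroup.mem_center_iff.1 hm g, mul_inv_cancel_right] at hg)
      have := h z hr hzc
      rw [ha] at this
      rcases (Nat.factorization_eq_zero_iff _ _).1 this with h' | h' | h'
      · exact h' Nat.prime_two
      · exact h' (two_dvd_index_centralizer_of_inverted hne hg)
      · exact Subgroup.index_ne_zero_of_finite h'
    haveI hn : (S : Subgroup G).Normal := normal_sylow_two_of_no_real_odd hno S
    refine ⟨?_, ?_⟩
    · haveI : Group.IsNilpotent ↥(S : Subgroup G) := S.isPGroup'.isNilpotent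
      have hodd : Odd (Nat.card (G ⧸ (S : Subgroup G))) := by
        rw [← Subgroup.index_eq_card, ← Nat.not_even_iff_odd, even_iff_two_dvd]
        exact S.not_dvd_index
      haveI := hFT _ hodd
      exact Group.isSolvable_of_ker_le_range (S : Subgroup G).subtype (QuotientGroup.mk' (S : Subgroup G))
        (by simp)
    · have hle : Subgroup.closure {g : G | ∃ k : ℕ, orderOf g = 2 ^ k} ≤ (S : Subgroup G) := by
        rw [Subgroup.closure_le]
        rintro g ⟨k, hk⟩
        obtain ⟨T, hT⟩ := (IsPGroup.of_card (n := k) (G := Subgroup.zpowers g) (p := 2)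
          (by rw [Nat.card_zpowers, hk])).exists_le_sylow
        have : T = S := by
          haveI := Sylow.unique_of_normal S hn
          exact Subsingleton.elim _ _
        exact this ▸ hT (Subgroup.mem_zpowers g)
      obtain ⟨m, hm⟩ := IsPGroup.iff_card.1 (S.isPGroup'.to_le hle)
      exact CfsgLib.NPC.hasNormalPComplement_iff.2 ⟨⊥, inferInstance, by simp, m, by simp [hm]⟩
  · push Not at hA
    have hG : Cfsg.HasNormalPComplement 2 G := by
      refine CfsgLib.Transfer.hasNormalPComplement_of_frobenius fun D hD g hg hcop => ?_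
      let α : MulAut D := D.normalizerMonoidHom ⟨g, hg⟩
      have hα : Odd (orderOf α) := by
        refine (Nat.coprime_two_right.1 hcop).of_dvd_nat ?_
        exact (orderOf_map_dvd D.normalizerMonoidHom _).trans (by rw [Subgroup.orderOf_mk])
      have hfix := fix_of_fix_involutions _ D rfl hD α hα (fun z hz => Subtype.ext (by
          have hzc := hA (z : G) (by rw [← Subgroup.coe_pow, hz, Subgroup.coe_one])
          change g * (z : G) * g⁻¹ = z
          rw [Subgroup.mem_center_iff.1 hzc g, mul_inv_cancel_right]))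
        (fun z hz => by
          obtain ⟨T, hT⟩ := hD.exists_le_sylow
          obtain ⟨c, rfl⟩ := MulAction.exists_smul_eq G S T
          obtain ⟨w, hw⟩ := isConj_iff.1 hz
          have hmem : ∀ y : D, c⁻¹ * (y : G) * c ∈ (S : Subgroup G) := fun y => by
            have hm := hT y.2
            rw [Sylow.coe_subgroup_smul, Subgroup.mem_pointwise_smul_iff_inv_smul_mem] at hm
            simpa using hm
          set s : ↥(S : Subgroup G) := ⟨_, hmem z⟩ with hs
          have hcon : (⟨_, hmem w⟩ : ↥(S : Subgroup G)) * s * (⟨_, hmem w⟩ : ↥(S : Subgroup G))⁻¹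
              = s⁻¹ := by
            apply Subtype.ext
            have := congrArg Subtype.val hw
            simp only [Subgroup.coe_mul, InvMemClass.coe_inv] at this
            simp only [hs, Subgroup.coe_mul, InvMemClass.coe_inv, mul_inv_rev, inv_inv]
            rw [← mul_assoc c⁻¹ ((z : G))⁻¹ c, ← this]
            group
          have hsc := Subgroup.mem_center_iff.1 (hS s (isConj_iff.2 ⟨_, hcon⟩)) ⟨_, hmem w⟩
          rw [hsc, mul_inv_cancel_right] at hcon
          have h2 : s ^ 2 = 1 := by rw [pow_two]; nth_rewrite 2 [hcon]; exact mul_inv_cancel s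
          apply Subtype.ext
          have h3 := congrArg Subtype.val h2
          rw [Subgroup.coe_pow, hs, Subgroup.coe_one] at h3
          rw [Subgroup.coe_pow, Subgroup.coe_one]
          have h4 : (z : G) ^ 2 = c * (c⁻¹ * (z : G) * c) ^ 2 * c⁻¹ := by
            rw [pow_two, pow_two]; group
          rw [h4, h3]
          group)
      rw [Subgroup.mem_centralizer_iff]
      intro d hd
      have := congrArg Subtype.val (hfix ⟨d, hd⟩)
      change g * d * g⁻¹ = d at this
      exact (mul_inv_eq_iff_eq_mul.1 this).symm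
    refine ⟨?_, CfsgLib.NPC.hasNormalPComplement_subgroup hG _⟩
    obtain ⟨N, hN, hco, k, hk⟩ := CfsgLib.NPC.hasNormalPComplement_iff.1 hG
    haveI := hFT N (Nat.coprime_two_right.1 hco)
    haveI : Group.IsNilpotent (G ⧸ N) :=
      (IsPGroup.of_card (p := 2) (n := k) (by rw [← Subgroup.index_eq_card, hk])).isNilpotent
    exact Group.isSolvable_of_ker_le_range N.subtype (QuotientGroup.mk' N) (by simp)

end CfsgLib.FGS73
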