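import Mathlib
import Cfsg.Agent.Lib.FGS73.Conj

set_option autoImplicit false

namespace CfsgLib.FGS73

variable {G : Type*} [Group G]

/-- The commutator map of an element acting on an abelian subgroup it normalizes. -/
def deltaHom (D : Subgroup G) (hD : ∀ a ∈ D, ∀ b ∈ D, a * b = b * a) (g : G)
    (hg : g ∈ Subgroup.normalizer (D : Set G)) : D →* D where
  toFun d := ⟨g * d * g⁻¹ * (d : G)⁻¹, mul_mem ((Subgroup.mem_normalizer_iff.1 hg _).1 d.2) (inv_mem d.2)⟩
  map_one' := Subtype.ext (by simp)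
  map_mul' a b := Subtype.ext (by
    have hga : g * (a : G) * g⁻¹ ∈ D := (Subgroup.mem_normalizer_iff.1 hg _).1 a.2
    have hgb : g * (b : G) * g⁻¹ ∈ D := (Subgroup.mem_normalizer_iff.1 hg _).1 b.2
    simp only [Subgroup.coe_mul, mul_inv_rev]
    have h1 := hD _ hgb _ (inv_mem b.2)
    have h2 := hD _ (mul_mem hgb (inv_mem b.2)) _ (inv_mem a.2)
    calc g * ((a : G) * b) * g⁻¹ * ((b : G)⁻¹ * (a : G)⁻¹)
        = (g * a * g⁻¹) * ((g * b * g⁻¹ * (b : G)⁻¹) * (a : G)⁻¹) := by simp [mul_assoc]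
      _ = (g * a * g⁻¹) * ((a : G)⁻¹ * (g * b * g⁻¹ * (b : G)⁻¹)) := by rw [h2]
      _ = _ := by simp [mul_assoc])

theorem deltaHom_apply (D : Subgroup G) (hD : ∀ a ∈ D, ∀ b ∈ D, a * b = b * a) (g : G)
    (hg : g ∈ Subgroup.normalizer (D : Set G)) (d : D) :
    (deltaHom D hD g hg d : G) = g * d * g⁻¹ * (d : G)⁻¹ := rfl

/-- An element of the image of the commutator map fixed by `g` is trivial when orders are coprime. -/
theorem deltaHom_fixed_eq_one [Finite G] (D : Subgroup G) (hD : ∀ a ∈ D, ∀ b ∈ D, a * b = b * a) (g : G)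
    (hg : g ∈ Subgroup.normalizer (D : Set G)) (hcop : (orderOf g).Coprime (Nat.card D))
    (d : D) (hfix : g * (deltaHom D hD g hg d : G) = (deltaHom D hD g hg d : G) * g) :
    deltaHom D hD g hg d = 1 := by
  set w := (deltaHom D hD g hg d : G) with hw
  have hwd : g * d * g⁻¹ = w * d := by rw [hw, deltaHom_apply, inv_mul_cancel_right]
  have hiter : ∀ i : ℕ, g ^ i * d * (g ^ i)⁻¹ = w ^ i * d := by
    intro i
    induction i with
    | zero => simp
    | succ i ih =>
      calc g ^ (i + 1) * d * (g ^ (i + 1))⁻¹ = g * (g ^ i * d * (g ^ i)⁻¹) * g⁻¹ := by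
            simp [pow_succ', mul_assoc]
        _ = (g * w ^ i * g⁻¹) * (g * d * g⁻¹) := by rw [ih]; simp [mul_assoc]
        _ = w ^ i * (w * d) := by rw [hwd, (Commute.pow_right hfix i).eq, mul_assoc (w ^ i) g, mul_inv_cancel, mul_one]
        _ = _ := by rw [pow_succ, mul_assoc]
  have h := hiter (orderOf g)
  rw [pow_orderOf_eq_one, one_mul, inv_one, mul_one, eq_comm, mul_eq_right] at h
  have h2 : w ^ Nat.card D = 1 := congrArg Subtype.val (pow_card_eq_one' (x := deltaHom D hD g hg d))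
  refine Subtype.ext ?_
  rw [← hw, Subgroup.coe_one, ← Subgroup.mem_bot]
  exact mem_of_pow_mem_coprime hcop (by rw [h]; exact one_mem _) (by rw [h2]; exact one_mem _)

/-- If every nonabelian subgroup is self-normalizing and `g` acts coprimely and nontrivially on an
abelian subgroup `D`, then no nontrivial element of exponent dividing `|D|` commutes with `g` and `D`. -/
theorem eq_one_of_selfNormalizing [Finite G]
    (hS : ∀ H : Subgroup G, ¬ IsMulCommutative H → Subgroup.normalizer (H : Set G) = H)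
    (D : Subgroup G) (hD : ∀ a ∈ D, ∀ b ∈ D, a * b = b * a) (g : G)
    (hg : g ∈ Subgroup.normalizer (D : Set G)) (hcop : (orderOf g).Coprime (Nat.card D))
    (hgc : g ∉ Subgroup.centralizer (D : Set G))
    (u : G) (hu : u ^ Nat.card D = 1) (hug : u * g = g * u) (huD : ∀ d ∈ D, u * d = d * u) : u = 1 := by
  set W := (deltaHom D hD g hg).range.map D.subtype
  have hWD : W ≤ D := Subgroup.map_subtype_le _
  have hWg : g ∈ Subgroup.normalizer (W : Set G) := by
    have hconj : ∀ w ∈ W, g * w * g⁻¹ ∈ W := by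
      rintro _ ⟨_, ⟨d, rfl⟩, rfl⟩
      refine ⟨_, ⟨⟨g * d * g⁻¹, (Subgroup.mem_normalizer_iff.1 hg _).1 d.2⟩, rfl⟩, ?_⟩
      simp [deltaHom_apply, mul_assoc]
    rw [Subgroup.mem_normalizer_iff_map_conj_eq]
    refine Subgroup.eq_of_le_of_card_ge ?_ (Subgroup.card_map_of_injective (MulAut.conj g).injective).ge
    rintro _ ⟨w, hw, rfl⟩
    exact hconj w hw
  set H := W ⊔ Subgroup.zpowers g with hH
  have hdec : ∀ x ∈ H, ∃ w ∈ W, ∃ i : ℤ, x = w * g ^ i := by
    intro x hx
    rw [hH, ← SetLike.mem_coe, Subgroup.coe_mul_of_right_le_normalizer_left W (Subgroup.zpowers g)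
      (Subgroup.zpowers_le.2 hWg)] at hx
    obtain ⟨w, hw, y, hy, rfl⟩ := hx
    obtain ⟨i, rfl⟩ := Subgroup.mem_zpowers_iff.1 hy
    exact ⟨w, hw, i, rfl⟩
  have hnab : ¬ IsMulCommutative H := by
    intro hc
    apply hgc
    rw [Subgroup.mem_centralizer_iff]
    intro d hd
    have hfix := congrArg Subtype.val ((IsMulCommutative.is_comm (M := H)).comm
      ⟨g, Subgroup.mem_sup_right (Subgroup.mem_zpowers g)⟩
      ⟨(deltaHom D hD g hg ⟨d, hd⟩ : G), Subgroup.mem_sup_left ⟨_, ⟨_, rfl⟩, rfl⟩⟩)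
    have h1 := congrArg Subtype.val (deltaHom_fixed_eq_one D hD g hg hcop ⟨d, hd⟩ hfix)
    rw [deltaHom_apply, Subgroup.coe_one, mul_inv_eq_one, mul_inv_eq_iff_eq_mul] at h1
    exact h1.symm
  have huH : u ∈ H := by
    rw [← hS H hnab, Subgroup.mem_normalizer_iff]
    intro x
    have hcx : ∀ y ∈ H, u * y = y * u := by
      intro y hy
      obtain ⟨w, hw, i, rfl⟩ := hdec y hy
      exact (Commute.mul_right (huD w (hWD hw)) (Commute.zpow_right (show Commute u g from hug) i)).eq
    constructor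
    · intro hx
      rwa [hcx x hx, mul_assoc, mul_inv_cancel, mul_one]
    · intro hx
      have := hcx _ hx
      rw [inv_mul_cancel_right] at this
      rwa [mul_left_cancel this] at hx
  obtain ⟨w, hw, i, hwi⟩ := hdec u huH
  have hgi : g ^ i = 1 := by
    have hcw : Commute u w⁻¹ := (Commute.inv_right (show Commute u w from huD w (hWD hw)))
    have hgw : g ^ i = w⁻¹ * u := by rw [hwi]; simp
    have h1 : (g ^ i) ^ Nat.card D = 1 := by
      rw [hgw, hcw.symm.mul_pow, hu, mul_one, inv_pow,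
        show w ^ Nat.card D = 1 from congrArg Subtype.val (pow_card_eq_one' (x := (⟨w, hWD hw⟩ : D))), inv_one]
    have h2 : (g ^ i) ^ orderOf g = 1 := by
      rw [← zpow_natCast, ← zpow_mul, mul_comm, zpow_mul, zpow_natCast, pow_orderOf_eq_one, one_zpow]
    rw [← Subgroup.mem_bot]
    exact mem_of_pow_mem_coprime hcop (by rw [h2]; exact one_mem _) (by rw [h1]; exact one_mem _)
  rw [hgi, mul_one] at hwi
  subst hwi
  obtain ⟨_, ⟨d, rfl⟩, hd⟩ := hw
  rw [← hd]
  simp only [Subgroup.coe_subtype] at hd ⊢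
  rw [deltaHom_fixed_eq_one D hD g hg hcop d (by rw [hd]; exact hug.symm), Subgroup.coe_one]

end CfsgLib.FGS73
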