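import Cfsg.Agent.S3360
import Cfsg.Agent.Lib.FGS73.PairCount
import Cfsg.Agent.Lib.Solvable.Hall

/-!
Solvable groups of order prime to `p` transitive on the points and on the lines of a projective space
over the field of `p` elements.
-/

set_option autoImplicit false
set_option linter.style.haveILetI false

namespace CfsgLib.FGS73

universe u v

section Exceptional

/-- The exceptional case `3 ^ 4`: elements of orders 5 and 13 cannot commute. -/
theorem not_commute_five_thirteen {P : Type*} [CommGroup P] [Finite P] (hexp : ∀ x : P, x ^ 3 = 1)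
    (hP : Nat.card P = 3 ^ 4) {x y : MulAut P} (hx : orderOf x = 13) (hy : orderOf y = 5) :
    ¬ Commute x y := by
  intro hc
  haveI : Fact (Nat.Prime 3) := ⟨by norm_num⟩
  haveI : Fact (Nat.Prime 5) := ⟨by norm_num⟩
  haveI : Fact (Nat.Prime 13) := ⟨by norm_num⟩
  let Fx : Subgroup P := (x : P →* P).eqLocus (MonoidHom.id P)
  let Fy : Subgroup P := (y : P →* P).eqLocus (MonoidHom.id P)
  have hFx : ∀ u : P, u ∈ Fx ↔ x u = u := fun u => Iff.rfl
  have hFy : ∀ u : P, u ∈ Fy ↔ y u = u := fun u => Iff.rfl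
  have hmod : ∀ (z : MulAut P) (r : ℕ) [Fact r.Prime], orderOf z = r → ∀ F : Subgroup P,
      (∀ u, u ∈ F ↔ z u = u) → Nat.card P ≡ Nat.card F [MOD r] := by
    intro z r _ hz F hF
    have hZ : IsPGroup r (Subgroup.zpowers z) :=
      IsPGroup.of_card (n := 1) (by rw [Nat.card_zpowers, hz, pow_one])
    refine (hZ.card_modEq_card_fixedPoints P).trans ?_
    rw [Nat.card_congr (Equiv.subtypeEquivRight (q := fun u => u ∈ F) fun u => ?_)]
    rw [hF]
    constructor
    · exact fun h => h ⟨z, Subgroup.mem_zpowers z⟩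
    · rintro h ⟨w, hw⟩
      have hle : Subgroup.zpowers z ≤ MulAction.stabilizer (MulAut P) u :=
        Subgroup.zpowers_le.2 (MulAction.mem_stabilizer_iff.2 h)
      exact MulAction.mem_stabilizer_iff.1 (hle hw)
  have hpow : ∀ F : Subgroup P, ∃ k ≤ 4, Nat.card F = 3 ^ k := by
    intro F
    exact (Nat.dvd_prime_pow (by norm_num)).1 (hP ▸ Subgroup.card_subgroup_dvd_card F)
  have hxne : Fx ≠ ⊤ := by
    intro h
    have hx1 : x = 1 := MulEquiv.ext fun u => (hFx u).1 (h ▸ Subgroup.mem_top u)
    rw [hx1, orderOf_one] at hx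
    norm_num at hx
  have hcx : Nat.card Fx = 3 := by
    obtain ⟨k, hk4, hk⟩ := hpow Fx
    have h := hmod x 13 hx Fx hFx
    rw [hP, hk] at h
    interval_cases k
    · norm_num [Nat.ModEq] at h
    · simpa using hk
    · norm_num [Nat.ModEq] at h
    · norm_num [Nat.ModEq] at h
    · exact absurd (Subgroup.eq_top_of_card_eq Fx (hk.trans hP.symm)) hxne
  -- `y` fixes `Fx` pointwise
  have hinv : ∀ u ∈ Fx, y u ∈ Fx := by
    intro u hu
    rw [hFx] at hu ⊢
    have h1 := DFunLike.congr_fun hc.eq u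
    rw [MulAut.mul_apply, MulAut.mul_apply, hu] at h1
    exact h1
  let y' : Fx →* Fx := ((y : P →* P).comp Fx.subtype).codRestrict Fx fun u => hinv u u.2
  obtain ⟨u, hu, hu1⟩ := Fx.bot_or_exists_ne_one.resolve_left (by
    intro h
    rw [h, Subgroup.card_bot] at hcx
    norm_num at hcx)
  have hgen : ∀ v ∈ Fx, v ∈ Subgroup.zpowers u := by
    have : Subgroup.zpowers u = Fx := Subgroup.eq_of_le_of_card_ge (Subgroup.zpowers_le.2 hu) (by
      rw [hcx, Nat.card_zpowers, orderOf_eq_prime (hexp u) hu1])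
    intro v hv
    rw [this]
    exact hv
  have hyu : y u = u := by
    obtain ⟨k, hk⟩ := Subgroup.mem_zpowers_iff.1 (hgen _ (hinv u hu))
    have hiter : ∀ m : ℕ, (y ^ m) u = u ^ (k ^ m) := by
      intro m
      induction m with
      | zero => simp
      | succ m ih =>
        rw [pow_succ', MulAut.mul_apply, ih, map_zpow, ← hk, ← zpow_mul, pow_succ']
    have h5 := hiter 5
    rw [← hy, pow_orderOf_eq_one, hy, MulAut.one_apply] at h5
    have h3 : (k ^ 5 : ℤ) ≡ 1 [ZMOD 3] := by
      have : u ^ (k ^ 5 - 1 : ℤ) = 1 := by rw [zpow_sub, ← h5, zpow_one, mul_inv_cancel]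
      rw [← orderOf_dvd_iff_zpow_eq_one, orderOf_eq_prime (hexp u) hu1] at this
      exact (Int.modEq_iff_dvd.2 (by simpa using this)).symm
    have hk1 : k ≡ 1 [ZMOD 3] := by
      have hmodk : k ≡ k % 3 [ZMOD 3] := (Int.mod_modEq k 3).symm
      have h4 := ((hmodk.pow 5).symm.trans h3)
      rcases (show k % 3 = 0 ∨ k % 3 = 1 ∨ k % 3 = 2 by omega) with h | h | h <;> rw [h] at h4 hmodk
      · norm_num [Int.ModEq] at h4
      · exact hmodk
      · norm_num [Int.ModEq] at h4
    rw [← hk]
    conv_rhs => rw [← zpow_one u]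
    rw [zpow_eq_zpow_iff_modEq, orderOf_eq_prime (hexp u) hu1]
    exact hk1
  obtain ⟨k, hk4, hk⟩ := hpow Fy
  have h := hmod y 5 hy Fy hFy
  rw [hP, hk] at h
  interval_cases k
  · have h1 : Fy = ⊥ := Subgroup.card_eq_one.1 (by simpa using hk)
    exact hu1 (Subgroup.mem_bot.1 (h1 ▸ (hFy u).2 hyu))
  · norm_num [Nat.ModEq] at h
  · norm_num [Nat.ModEq] at h
  · norm_num [Nat.ModEq] at h
  · have h1 : y = 1 := MulEquiv.ext fun w =>
      (hFy w).1 (Subgroup.eq_top_of_card_eq Fy (hk.trans hP.symm) ▸ Subgroup.mem_top w)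
    rw [h1, orderOf_one] at hy
    norm_num at hy

end Exceptional

section Semilinear

variable {F : Type v} [Field F] {V : Type u}

/-- Iterating a semilinear map. -/
theorem semilinear_iterate {H : Type*} [Monoid H] (act : H → V → V) (e : V → F)
    (hone : ∀ x, act 1 x = x) (hmul : ∀ g h x, act (g * h) x = act g (act h x))
    {h : H} {a : F} {σ : F ≃+* F} (hh : ∀ x, e (act h x) = a * σ (e x)) (m : ℕ) :
    ∃ b : F, ∀ x, e (act (h ^ m) x) = b * (σ ^ m) (e x) := by
  induction m with
  | zero => exact ⟨1, fun x => by simp [hone]⟩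
  | succ m ih =>
    obtain ⟨b, hb⟩ := ih
    refine ⟨a * σ b, fun x => ?_⟩
    rw [pow_succ' h, hmul, hh, hb, map_mul, pow_succ' σ, mul_assoc]
    rfl

end Semilinear

/-- An automorphism of a group of exponent `p`, as a linear map. -/
def linearAut {P : Type u} [CommGroup P] {p : ℕ} [Module (ZMod p) (Additive P)] :
    MulAut P →* (Additive P ≃ₗ[ZMod p] Additive P) where
  toFun f := (MulEquiv.toAdditive f).toLinearEquiv fun c x =>
    ZMod.map_smul (MulEquiv.toAdditive f).toAddMonoidHom c x
  map_one' := by ext x; simp; rfl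
  map_mul' f g := by ext x; simp; rfl

set_option maxHeartbeats 1600000 in
/-- A solvable `p'`-group of automorphisms of an elementary abelian group of order `p ^ n`, `n ≥ 3`,
transitive on the subgroups of order `p` and on those of order `p ^ 2`. -/
theorem semilinear_of_transitive {P : Type u} [CommGroup P] [Finite P] {p n : ℕ} [Fact p.Prime]
    (hn : 3 ≤ n) (hexp : ∀ x : P, x ^ p = 1) (hP : Nat.card P = p ^ n)
    {H : Type v} [Group H] [Finite H] (hsol : Group.IsSolvable H) (hcop : ¬ p ∣ Nat.card H)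
    (ψ : H →* MulAut P) (hψ : Function.Injective ψ)
    (hlines : ∀ K L : Subgroup P, Nat.card K = p → Nat.card L = p → ∃ h : H, K.map (ψ h).toMonoidHom = L)
    (hplanes : ∀ K L : Subgroup P, Nat.card K = p ^ 2 → Nat.card L = p ^ 2 →
      ∃ h : H, K.map (ψ h).toMonoidHom = L) :
    ∃ e : Additive P ≃+ GaloisField p n,
      (∀ h : H, ∃ (a : GaloisField p n) (σ : GaloisField p n ≃+* GaloisField p n),
        ∀ x : P, e (Additive.ofMul (ψ h x)) = a * σ (e (Additive.ofMul x))) ∧
      ((n = 3 ∧ (p = 2 → 7 ∣ Nat.card H)) ∨ (n = 5 ∧ p = 2 ∧ 155 ≤ Nat.card H)) := by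
  classical
  have hp : p.Prime := Fact.out
  -- orbit of a plane
  let 𝒲 := {W : Subgroup P // Nat.card W = p ^ 2}
  obtain ⟨W0, hW0⟩ := Sylow.exists_subgroup_card_pow_prime p (G := P) (n := 2) (hP ▸ pow_dvd_pow p (by omega))
  have hcardmap : ∀ (h : H) (W : Subgroup P), Nat.card (W.map (ψ h).toMonoidHom) = Nat.card W := fun h W =>
    Subgroup.card_map_of_injective (ψ h).injective
  letI : MulAction H 𝒲 :=
    { smul := fun h W => ⟨W.1.map (ψ h).toMonoidHom, (hcardmap h W.1).trans W.2⟩
      one_smul := fun W => Subtype.ext (by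
        show W.1.map (ψ 1).toMonoidHom = W.1
        rw [map_one]
        exact Subgroup.map_id W.1)
      mul_smul := fun g h W => Subtype.ext (by
        show W.1.map (ψ (g * h)).toMonoidHom = (W.1.map (ψ h).toMonoidHom).map (ψ g).toMonoidHom
        rw [Subgroup.map_map, map_mul]
        rfl) }
  haveI : MulAction.IsPretransitive H 𝒲 := ⟨fun K L => by
    obtain ⟨h, hh⟩ := hplanes K.1 L.1 K.2 L.2
    exact ⟨h, Subtype.ext hh⟩⟩
  have hWdvd : Nat.card 𝒲 ∣ Nat.card H :=
    MulAction.index_stabilizer_of_transitive H (⟨W0, hW0⟩ : 𝒲) ▸ Subgroup.index_dvd_card _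
  have hWle : Nat.card 𝒲 ≤ Nat.card H := Nat.le_of_dvd Nat.card_pos hWdvd
  have hcount := card_planes_mul (P := P) (p := p) hexp
  rw [hP] at hcount
  -- the linear representation extended by the scalars
  letI : Module (ZMod p) (Additive P) := AddCommGroup.zmodModule (G := Additive P) (n := p) (fun x => hexp x.toMul)
  haveI : Nontrivial P := by
    rw [← Finite.one_lt_card_iff_nontrivial, hP]
    exact Nat.one_lt_pow (by omega) hp.one_lt
  haveI : Nontrivial (Additive P) := inferInstanceAs (Nontrivial P)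
  let lin : MulAut P →* (Additive P ≃ₗ[ZMod p] Additive P) := linearAut (P := P) (p := p)
  have hlin : Function.Injective lin := fun f g h =>
    MulEquiv.ext fun x => congrArg Additive.toMul (LinearEquiv.congr_fun h (Additive.ofMul x))
  let sc : (ZMod p)ˣ →* (Additive P ≃ₗ[ZMod p] Additive P) :=
    { toFun := fun c => LinearEquiv.smulOfUnit c
      map_one' := LinearEquiv.ext fun x => one_smul _ x
      map_mul' := fun c d => LinearEquiv.ext fun x => mul_smul _ _ x }
  let big : H × (ZMod p)ˣ →* (Additive P ≃ₗ[ZMod p] Additive P) :=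
    (lin.comp ψ).noncommCoprod sc fun h c => LinearEquiv.ext fun x => map_smul (lin (ψ h)) (c : ZMod p) x
  haveI := hsol
  have hbigsol : Group.IsSolvable big.range :=
    Group.isSolvable_of_surjective (f := big.rangeRestrict) big.rangeRestrict_surjective
  have hzp : ∀ x : P, x ≠ 1 → Nat.card (Subgroup.zpowers x) = p := fun x hx => by
    rw [Nat.card_zpowers, orderOf_eq_prime (hexp x) hx]
  have htr : ∀ v w : Additive P, v ≠ 0 → w ≠ 0 → ∃ g : big.range, big.range.subtype g v = w := by
    intro v w hv hw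
    obtain ⟨h, hh⟩ := hlines _ _ (hzp v.toMul hv) (hzp w.toMul hw)
    have hmem : w.toMul ∈ (Subgroup.zpowers v.toMul).map (ψ h).toMonoidHom := hh ▸ Subgroup.mem_zpowers _
    obtain ⟨z, hz, hzw⟩ := hmem
    obtain ⟨k, rfl⟩ := Subgroup.mem_zpowers_iff.1 hz
    have hzw' : k • (lin (ψ h) v) = w := congrArg Additive.ofMul ((map_zpow (ψ h) _ _).symm.trans hzw)
    rw [← Int.cast_smul_eq_zsmul (ZMod p)] at hzw'
    have hk0 : (k : ZMod p) ≠ 0 := fun h0 => hw (by rw [← hzw', h0, zero_smul])
    exact ⟨⟨_, ⟨(h, Units.mk0 (k : ZMod p) hk0), rfl⟩⟩, (map_smul (lin (ψ h)) (k : ZMod p) v).trans hzw'⟩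
  haveI : Finite (Additive P) := inferInstanceAs (Finite P)
  haveI : Finite big.range := Finite.of_surjective _ big.rangeRestrict_surjective
  rcases Cfsg.Agent.S3360.result p hbigsol big.range.subtype Subtype.val_injective htr with
    ⟨F, _, _, e₀, he₀⟩ | hexc
  swap
  · -- the exceptional case
    exfalso
    have h81 : p ^ n = 81 := by
      have hc : Nat.card (Additive P) = p ^ n := (Nat.card_congr Additive.toMul).trans hP
      simp only [hc, Set.mem_insert_iff, Set.mem_singleton_iff] at hexc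
      have hpd : ∀ q a : ℕ, q.Prime → p ^ n = q ^ a → n = a := by
        intro q a hq h
        have hpq : p = q := (Nat.prime_dvd_prime_iff_eq hp hq).1
          (hp.dvd_of_dvd_pow (h ▸ dvd_pow_self p (by omega)))
        subst hpq
        exact Nat.pow_right_injective hp.two_le h
      rcases hexc with h | h | h | h | h | h
      · have := hpd 3 2 (by norm_num) (by omega); omega
      · have := hpd 5 2 (by norm_num) (by omega); omega
      · have := hpd 7 2 (by norm_num) (by omega); omega
      · have := hpd 11 2 (by norm_num) (by omega); omega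
      · have := hpd 23 2 (by norm_num) (by omega); omega
      · exact h
    have hp3 : p = 3 := (Nat.prime_dvd_prime_iff_eq hp Nat.prime_three).1
      (hp.dvd_of_dvd_pow (show p ∣ 3 ^ 4 by rw [show (3:ℕ) ^ 4 = p ^ n by omega]; exact dvd_pow_self p (by omega)))
    subst hp3
    have hn4 : n = 4 := Nat.pow_right_injective (le_refl 2 |>.trans (by norm_num)) (h81.trans (by norm_num : (81:ℕ) = 3 ^ 4))
    subst hn4
    norm_num at hcount
    have hW130 : Nat.card 𝒲 = 130 := by
      show Nat.card {W : Subgroup P // Nat.card W = 3 ^ 2} = 130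
      norm_num
      omega
    rw [hW130] at hWdvd
    haveI : FiniteDimensional (ZMod 3) (Additive P) := Module.Finite.of_finite
    have hGL : Nat.card H ∣ Nat.card (GL (Fin 4) (ZMod 3)) := by
      have hd : Module.finrank (ZMod 3) (Additive P) = 4 := by
        have := Module.natCard_eq_pow_finrank (K := ZMod 3) (V := Additive P)
        rw [Nat.card_zmod, (Nat.card_congr Additive.toMul).trans hP] at this
        exact (Nat.pow_right_injective (by norm_num) this).symm
      let b := Module.finBasisOfFinrankEq (ZMod 3) (Additive P) hd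
      let f : (Additive P ≃ₗ[ZMod 3] Additive P) ≃* GL (Fin 4) (ZMod 3) :=
        (LinearMap.GeneralLinearGroup.generalLinearEquiv (ZMod 3) (Additive P)).symm.trans
          (Units.mapEquiv (LinearMap.toMatrixAlgEquiv b).toMulEquiv)
      exact Subgroup.card_dvd_of_injective (f.toMonoidHom.comp (lin.comp ψ))
        (f.injective.comp (hlin.comp hψ))
    rw [Matrix.card_GL_field, Fin.prod_univ_four, ZMod.card] at hGL
    norm_num at hGL
    haveI : Fact (Nat.Prime 5) := ⟨by norm_num⟩
    haveI : Fact (Nat.Prime 13) := ⟨by norm_num⟩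
    obtain ⟨R, hR⟩ := CfsgLib.Solvable.exists_isPiHall (G := H) {5, 13}
    have hRdvd : Nat.card R ∣ 65 := by
      have h1 : Nat.card R ∣ Nat.card H := Subgroup.card_subgroup_dvd_card R
      have hco : (Nat.card R).Coprime 373248 := by
        refine Nat.coprime_of_dvd fun q hq hq1 hq2 => ?_
        rcases hR.1 q hq hq1 with rfl | rfl <;> norm_num at hq2
      exact hco.dvd_of_dvd_mul_right (h1.trans (by norm_num; exact hGL))
    have hdvdR : ∀ q ∈ ({5, 13} : Set ℕ), q.Prime → q ∣ 130 → q ∣ Nat.card R := by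
      intro q hq hqp hq1
      have : q ∣ Nat.card R * R.index := R.card_mul_index ▸ (hq1.trans hWdvd)
      exact ((hqp.dvd_mul).1 this).resolve_right fun h => hR.2 q hqp hq h
    obtain ⟨x, hx⟩ := exists_prime_orderOf_dvd_card' (G := R) 13
      (hdvdR 13 (by simp) (by norm_num) (by norm_num))
    obtain ⟨y, hy⟩ := exists_prime_orderOf_dvd_card' (G := R) 5
      (hdvdR 5 (by simp) (by norm_num) (by norm_num))
    have hnorm : ∀ (q : ℕ) [Fact q.Prime] (Q : Sylow q R), q = 5 ∨ q = 13 → (Q : Subgroup R).Normal := by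
      intro q _ Q hq
      have h1 : Nat.card (Sylow q R) ∣ 65 := (Sylow.card_dvd_index Q).trans ((Subgroup.index_dvd_card _).trans hRdvd)
      have h2 := card_sylow_modEq_one q R
      have h3 : Nat.card (Sylow q R) ∈ Nat.divisors 65 := Nat.mem_divisors.2 ⟨h1, by norm_num⟩
      have h5 : ¬ q ∣ Nat.card (Sylow q R) := fun hd => by
        have := h2.symm.trans (Nat.modEq_zero_iff_dvd.2 hd)
        rcases hq with rfl | rfl <;> norm_num [Nat.ModEq] at this
      have h4 : Nat.card (Sylow q R) = 1 := by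
        rw [show Nat.divisors 65 = {1, 5, 13, 65} by decide] at h3
        simp only [Finset.mem_insert, Finset.mem_singleton] at h3
        unfold Nat.ModEq at h2
        rcases hq with rfl | rfl <;> omega
      haveI : Subsingleton (Sylow q R) := (Nat.card_eq_one_iff_unique.1 h4).1
      exact Sylow.normal_of_subsingleton Q
    obtain ⟨S, hS⟩ := (IsPGroup.of_card (n := 1) (by rw [Nat.card_zpowers, hx, pow_one]) :
      IsPGroup 13 (Subgroup.zpowers x)).exists_le_sylow
    obtain ⟨T, hT⟩ := (IsPGroup.of_card (n := 1) (by rw [Nat.card_zpowers, hy, pow_one]) :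
      IsPGroup 5 (Subgroup.zpowers y)).exists_le_sylow
    have hcm : Commute x y := Subgroup.commute_of_normal_of_disjoint _ _ (hnorm 13 S (Or.inr rfl))
      (hnorm 5 T (Or.inl rfl)) (IsPGroup.disjoint_of_ne 13 5 (by norm_num) _ _ S.2 T.2) _ _
      (hS (Subgroup.mem_zpowers x)) (hT (Subgroup.mem_zpowers y))
    refine not_commute_five_thirteen hexp hP (x := ψ x) (y := ψ y) ?_ ?_
      ((hcm.map R.subtype).map ψ)
    · rw [orderOf_injective ψ hψ, Subgroup.orderOf_coe, hx]
    · rw [orderOf_injective ψ hψ, Subgroup.orderOf_coe, hy]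
  -- the semilinear case
  have hcF : Nat.card F = p ^ n :=
    ((Nat.card_congr e₀.toEquiv).symm.trans (Nat.card_congr Additive.toMul)).trans hP
  haveI : Fintype (GaloisField p n) := Fintype.ofFinite _
  have hcE : Nat.card (GaloisField p n) = p ^ n := GaloisField.card p n (by omega)
  let r : F ≃+* GaloisField p n := FiniteField.ringEquivOfCardEq (by
    rw [← Nat.card_eq_fintype_card, ← Nat.card_eq_fintype_card, hcF, hcE])
  let e : Additive P ≃+ GaloisField p n := e₀.trans r.toAddEquiv
  set E := GaloisField p n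
  have hsemi : ∀ h : H, ∃ (a : E) (σ : E ≃+* E),
      ∀ x : P, e (Additive.ofMul (ψ h x)) = a * σ (e (Additive.ofMul x)) := by
    intro h
    obtain ⟨a, σ, hσ⟩ := he₀ ⟨_, ⟨(h, 1), rfl⟩⟩
    refine ⟨r a, (r.symm.trans σ).trans r, fun x => ?_⟩
    have h1 := hσ (Additive.ofMul x)
    have h2 : (big.range.subtype ⟨_, ⟨(h, 1), rfl⟩⟩) (Additive.ofMul x) = Additive.ofMul (ψ h x) := by
      show lin (ψ h) (sc 1 (Additive.ofMul x)) = _
      rw [map_one]
      rfl
    rw [h2] at h1
    show r (e₀ _) = r a * r (σ (r.symm (r (e₀ (Additive.ofMul x)))))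
    rw [h1, map_mul, RingEquiv.symm_apply_apply]
  refine ⟨e, hsemi, ?_⟩
  choose a σ haσ using hsemi
  obtain ⟨hcyc, hAut⟩ := CfsgLib.Semilinear.isCyclic_ringEquiv_and_card (F := E) (q := p) (d := n)
    (by rw [← Nat.card_eq_fintype_card, hcE])
  haveI : Finite (E ≃+* E) := Finite.of_injective _ DFunLike.coe_injective
  have hEu : Nat.card Eˣ = p ^ n - 1 := by rw [Nat.card_units, hcE]
  have ha0 : ∀ h, a h ≠ 0 := by
    intro h h0
    obtain ⟨x, hx⟩ := exists_ne (1 : P)
    have h1 := haσ h x
    rw [h0, zero_mul, map_eq_zero_iff e e.injective] at h1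
    exact hx ((map_eq_one_iff (ψ h) (ψ h).injective).1 h1)
  -- the prime field units
  let Z : Subgroup Eˣ := (Units.map (algebraMap (ZMod p) E : ZMod p →* E)).range
  have hZ : Nat.card Z = p - 1 := by
    rw [← Nat.card_congr (MonoidHom.ofInjective (f := Units.map (algebraMap (ZMod p) E : ZMod p →* E))
      (Units.map_injective (algebraMap (ZMod p) E).injective)).toEquiv, Nat.card_units, Nat.card_zmod]
  have hbound : Nat.card 𝒲 * (p - 1) ≤ (p ^ n - 1) * n := by
    let g : (Eˣ ⧸ Z) × (E ≃+* E) → Set E := fun qs =>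
      (fun y => ((qs.1.out : Eˣ) : E) * qs.2 (e (Additive.ofMul y))) '' (W0 : Set P)
    let G' : 𝒲 → Set E := fun W => (fun y => e (Additive.ofMul y)) '' (W.1 : Set P)
    have hG' : Function.Injective G' := fun W W' h => Subtype.ext (SetLike.coe_injective
      ((e.injective.comp Additive.ofMul.injective).image_injective h))
    have hsub : ∀ W : 𝒲, ∃ qs, g qs = G' W := by
      intro W
      obtain ⟨h, hh⟩ := MulAction.exists_smul_eq H (⟨W0, hW0⟩ : 𝒲) W
      refine ⟨(QuotientGroup.mk (Units.mk0 (a h) (ha0 h)), σ h), ?_⟩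
      obtain ⟨⟨c, ⟨c', hc'⟩⟩, hout⟩ := QuotientGroup.mk_out_eq_mul Z (Units.mk0 (a h) (ha0 h))
      have hcv : (c : E) = ((c' : ZMod p).val : E) := by
        rw [← hc', Units.coe_map, MonoidHom.coe_coe]
        conv_lhs => rw [← ZMod.natCast_zmod_val (c' : ZMod p)]
        rw [map_natCast]
      have hc0 : (c' : ZMod p).val ≠ 0 := fun h0 => c'.ne_zero ((ZMod.val_eq_zero _).1 h0)
      have hcl : (c' : ZMod p).val < p := ZMod.val_lt _
      rw [← hh]
      show (fun y => ((QuotientGroup.mk (Units.mk0 (a h) (ha0 h)) : Eˣ ⧸ Z).out : E) * σ h (e (Additive.ofMul y))) '' _ =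
        (fun y => e (Additive.ofMul y)) '' ((W0.map (ψ h).toMonoidHom : Subgroup P) : Set P)
      rw [hout, Subgroup.coe_map, Set.image_image]
      set m := (c' : ZMod p).val
      have key : ∀ y : P, e (Additive.ofMul ((ψ h) (y ^ m))) =
          (((Units.mk0 (a h) (ha0 h)) * c : Eˣ) : E) * σ h (e (Additive.ofMul y)) := by
        intro y
        rw [map_pow, ofMul_pow, map_nsmul, haσ, nsmul_eq_mul, Units.val_mul, Units.val_mk0, hcv]
        ring
      apply Set.Subset.antisymm
      · rintro _ ⟨y, hy, rfl⟩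
        exact ⟨y ^ m, pow_mem hy m, key y⟩
      · rintro _ ⟨y, hy, rfl⟩
        have hco : (Nat.card W0).Coprime m := by
          rw [hW0]
          exact Nat.Coprime.pow_left 2 (hp.coprime_iff_not_dvd.2 fun hd => by
            have := Nat.le_of_dvd (Nat.pos_of_ne_zero hc0) hd
            omega)
        obtain ⟨w, hw⟩ := (powCoprime hco).surjective ⟨y, hy⟩
        refine ⟨w, w.2, ?_⟩
        show _ = e (Additive.ofMul (ψ h y))
        refine (key w).symm.trans ?_
        have hw' : (w : P) ^ m = y := by simpa using congrArg Subtype.val hw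
        rw [hw']
    choose qs hqs using hsub
    have h1 : Nat.card 𝒲 ≤ Nat.card ((Eˣ ⧸ Z) × (E ≃+* E)) :=
      Nat.card_le_card_of_injective qs fun W W' h => hG' (by rw [← hqs, ← hqs, h])
    have h2 := Subgroup.card_eq_card_quotient_mul_card_subgroup Z
    rw [hEu, hZ] at h2
    rw [Nat.card_prod, hAut] at h1
    calc Nat.card 𝒲 * (p - 1) ≤ Nat.card (Eˣ ⧸ Z) * n * (p - 1) := Nat.mul_le_mul_right _ h1
      _ = (p ^ n - 1) * n := by rw [h2]; ring
  have harith : p ^ (n - 1) - 1 ≤ n * (p ^ 2 - 1) := by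
    have h1 : p ^ n - p = p * (p ^ (n - 1) - 1) := by
      rw [Nat.mul_sub, mul_one, ← pow_succ', show n - 1 + 1 = n by omega]
    have h2 : p ^ 2 - p = p * (p - 1) := by rw [Nat.mul_sub, mul_one, sq]
    have h3 : (p ^ n - 1) * (p * (p ^ (n - 1) - 1)) ≤ (p ^ n - 1) * (p * (n * (p ^ 2 - 1))) := by
      calc (p ^ n - 1) * (p * (p ^ (n - 1) - 1)) = (p ^ n - 1) * (p ^ n - p) := by rw [h1]
        _ = Nat.card 𝒲 * ((p ^ 2 - 1) * (p ^ 2 - p)) := hcount.symm
        _ = Nat.card 𝒲 * (p - 1) * ((p ^ 2 - 1) * p) := by rw [h2]; ring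
        _ ≤ (p ^ n - 1) * n * ((p ^ 2 - 1) * p) := Nat.mul_le_mul_right _ hbound
        _ = _ := by ring
    exact Nat.le_of_mul_le_mul_left (Nat.le_of_mul_le_mul_left h3
      (Nat.sub_pos_of_lt (Nat.one_lt_pow (by omega) hp.one_lt))) hp.pos
  have hsmall : n ≤ 5 := by
    by_contra hn6
    have key : ∀ k, 3 ≤ k → k + 4 ≤ 2 ^ k := by
      intro k hk
      induction k, hk using Nat.le_induction with
      | base => norm_num
      | succ k hk ih => rw [pow_succ]; omega
    have h1 : n + 1 ≤ p ^ (n - 3) :=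
      le_trans (by have := key (n - 3) (by omega); omega) (Nat.pow_le_pow_left hp.two_le _)
    have h2 : (n + 1) * p ^ 2 ≤ p ^ (n - 1) := by
      rw [show n - 1 = n - 3 + 2 by omega, pow_add]
      exact Nat.mul_le_mul_right _ h1
    have h4 : 4 ≤ p ^ 2 := Nat.pow_le_pow_left hp.two_le 2
    have h5 : n * (p ^ 2 - 1) + n = n * p ^ 2 := by
      rw [← Nat.mul_succ, Nat.succ_eq_add_one, Nat.sub_add_cancel (by omega)]
    rw [Nat.add_mul, one_mul] at h2
    omega
  rcases (show n = 3 ∨ n = 4 ∨ n = 5 by omega) with rfl | rfl | rfl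
  · refine Or.inl ⟨rfl, ?_⟩
    rintro rfl
    norm_num at hcount
    refine dvd_trans ?_ hWdvd
    refine dvd_of_eq ?_
    show 7 = Nat.card {W : Subgroup P // Nat.card W = 2 ^ 2}
    norm_num
    omega
  · exfalso
    have hp3 : p ≤ 3 := by
      by_contra h4
      have h1 : 5 ≤ p := by
        rcases (show p = 4 ∨ 5 ≤ p by omega) with rfl | h
        · exact absurd hp (by norm_num)
        · exact h
      have h2 : 5 * p ^ 2 ≤ p ^ 3 := by rw [pow_succ p 2, mul_comm (p ^ 2)]; exact Nat.mul_le_mul_right _ h1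
      have h3 : 1 ≤ p ^ 2 := Nat.one_le_pow _ _ hp.pos
      simp only [Nat.add_one_sub_one] at harith
      omega
    obtain ⟨s, hs, hs4, hsd, hsW⟩ : ∃ s : ℕ, s.Prime ∧ Nat.Coprime s 4 ∧ Nat.Coprime s (p ^ 4 - 1) ∧ s ∣ Nat.card 𝒲 := by
      rcases (show p = 2 ∨ p = 3 by have := hp.two_le; omega) with rfl | rfl
      · refine ⟨7, by norm_num, by norm_num, by norm_num, ?_⟩
        norm_num at hcount
        show 7 ∣ Nat.card {W : Subgroup P // Nat.card W = 2 ^ 2}
        norm_num
        omega
      · refine ⟨13, by norm_num, by norm_num, by norm_num, ?_⟩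
        norm_num at hcount
        show 13 ∣ Nat.card {W : Subgroup P // Nat.card W = 3 ^ 2}
        norm_num
        omega
    haveI := Fact.mk hs
    obtain ⟨x, hx⟩ := exists_prime_orderOf_dvd_card' (G := H) s (hsW.trans hWdvd)
    have hxs : x ^ s = 1 := hx ▸ pow_orderOf_eq_one x
    obtain ⟨b, hb⟩ := semilinear_iterate (fun h y => ψ h y) (fun y => e (Additive.ofMul y))
      (fun y => by simp) (fun g h y => by simp) (haσ x) s
    have hσs : σ x ^ s = 1 := by
      rw [hxs] at hb
      have h1 : ∀ z : E, z = b * (σ x ^ s) z := fun z => by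
        have := hb (e.symm z).toMul
        simpa using this
      have hb1 : b = 1 := by have := h1 1; rw [map_one, mul_one] at this; exact this.symm
      exact RingEquiv.ext fun z => by have := h1 z; rw [hb1, one_mul] at this; exact this.symm
    have hσ1 : σ x = 1 := by
      have := pow_gcd_eq_one.2 (⟨hσs, orderOf_dvd_iff_pow_eq_one.1 ((orderOf_dvd_natCard _).trans hAut.dvd)⟩ : σ x ^ s = 1 ∧ σ x ^ 4 = 1)
      rwa [hs4.gcd_eq_one, pow_one] at this
    have hlinx : ∀ y, e (Additive.ofMul (ψ x y)) = a x * e (Additive.ofMul y) := fun y => by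
      rw [haσ, hσ1]; rfl
    have hiter : ∀ (m : ℕ) (y : P), e (Additive.ofMul (ψ (x ^ m) y)) = a x ^ m * e (Additive.ofMul y) := by
      intro m
      induction m with
      | zero => intro y; simp
      | succ m ih => intro y; rw [pow_succ', map_mul, MulAut.mul_apply, hlinx, ih, pow_succ']; ring
    obtain ⟨y, hy⟩ := exists_ne (1 : P)
    have hey : e (Additive.ofMul y) ≠ 0 := fun h => hy ((map_eq_zero_iff e e.injective).1 h)
    have has : a x ^ s = 1 := by
      have h1 := hiter s y
      rw [hxs, map_one, MulAut.one_apply] at h1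
      exact (mul_eq_right₀ hey).1 h1.symm
    have hau : a x ^ (p ^ 4 - 1) = 1 := by
      have := FiniteField.pow_card_sub_one_eq_one (a x) (ha0 x)
      rwa [← Nat.card_eq_fintype_card, hcE] at this
    have ha1 : a x = 1 := by
      have := pow_gcd_eq_one.2 ⟨has, hau⟩
      rwa [hsd.gcd_eq_one, pow_one] at this
    have : x = 1 := hψ (MulEquiv.ext fun y => by
      have h1 := hlinx y
      rw [ha1, one_mul] at h1
      simpa using e.injective h1)
    rw [this, orderOf_one] at hx
    exact hs.one_lt.ne hx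
  · refine Or.inr ⟨rfl, ?_⟩
    have hp2 : p = 2 := by
      by_contra h3
      have h1 : 3 ≤ p := by have := hp.two_le; omega
      have h2 : 9 * p ^ 2 ≤ p ^ 4 := by
        rw [show p ^ 4 = p ^ 2 * p ^ 2 by ring]
        exact Nat.mul_le_mul_right _ (Nat.pow_le_pow_left h1 2)
      have h3 : 1 ≤ p ^ 2 := Nat.one_le_pow _ _ hp.pos
      simp only [Nat.add_one_sub_one] at harith
      omega
    subst hp2
    refine ⟨rfl, le_trans (le_of_eq ?_) hWle⟩
    norm_num at hcount
    show 155 = Nat.card {W : Subgroup P // Nat.card W = 2 ^ 2}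
    norm_num
    omega

end CfsgLib.FGS73
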