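import Mathlib
import Cfsg.Prelude.Def_OddOrderLocal
import Cfsg.Prelude.Def_LieExceptional
import Cfsg.Agent.Lib.CN.SolvableStructure
import Cfsg.Agent.Lib.CN.NilCent
import Cfsg.Agent.Lib.Solvable.Core

/-!
Finite groups in which the centraliser of every element is a TI-set: basic facts and the
solvable case.
-/

set_option autoImplicit false
set_option linter.style.haveILetI false

open Subgroup

namespace CfsgLib.FGS73.TICent

universe u

variable {G : Type u} [Group G]

/-- Every element centraliser is a TI-set. -/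
def TIC (G : Type u) [Group G] : Prop :=
  ∀ x : G, Cfsg.IsTISubset (centralizer ({x} : Set G) : Set G)

theorem key (h : TIC G) {x y g : G} (hy1 : y ≠ 1) (hy : Commute y x) (hgy : Commute (g * y * g⁻¹) x) :
    g ∈ normalizer (centralizer ({x} : Set G) : Set G) := by
  by_contra hg
  exact hy1 (h x g hg y (mem_centralizer_singleton_iff.2 hy.eq) (mem_centralizer_singleton_iff.2 hgy.eq))

theorem of_injective {H : Type*} [Group H] (h : TIC G) (f : H →* G) (hf : Function.Injective f) :
    ∀ x : H, Cfsg.IsTISubset (centralizer ({x} : Set H) : Set H) := by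
  intro x g hg y hy hgy
  by_contra hy1
  refine hg ?_
  have hiff : ∀ z : H, z ∈ centralizer ({x} : Set H) ↔ f z ∈ centralizer ({f x} : Set G) := by
    intro z
    rw [mem_centralizer_singleton_iff, mem_centralizer_singleton_iff, ← map_mul, ← map_mul, hf.eq_iff]
  have hn := key h (x := f x) (y := f y) (g := f g) (fun e => hy1 (hf (e.trans (map_one f).symm)))
    (mem_centralizer_singleton_iff.1 ((hiff y).1 hy)) (by
      rw [← map_inv, ← map_mul, ← map_mul]
      exact mem_centralizer_singleton_iff.1 ((hiff _).1 hgy))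
  rw [Subgroup.mem_normalizer_iff]
  intro z
  rw [hiff, hiff, map_mul, map_mul, map_inv]
  exact (Subgroup.mem_normalizer_iff.1 hn) (f z)

theorem subgroup (h : TIC G) (H : Subgroup G) : TIC H := of_injective h H.subtype H.subtype_injective

theorem centralizer_normal (h : TIC G) {z : G} (hz1 : z ≠ 1) (hz : ∀ g : G, Commute g z) (x g : G) :
    g ∈ normalizer (centralizer ({x} : Set G) : Set G) :=
  key h hz1 (hz x).symm (by rw [(hz g).eq, mul_inv_cancel_right]; exact (hz x).symm)

variable [Finite G]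

theorem nilpotent_of_center (h : TIC G) (hz : center G ≠ ⊥) : Group.IsNilpotent G := by
  obtain ⟨z, hzc, hz1⟩ := (center G).bot_or_exists_ne_one.resolve_left hz
  have hF : (⊤ : Subgroup G) ≤ Cfsg.fittingSubgroup G := by
    intro x _
    have hle : ∀ a ∈ Group.conjugatesOfSet ({x} : Set G), ∀ b ∈ Group.conjugatesOfSet ({x} : Set G),
        a * b = b * a := by
      intro a ha b hb
      rw [Group.mem_conjugatesOfSet_iff] at ha hb
      obtain ⟨_, rfl, ha⟩ := ha
      obtain ⟨_, rfl, hb⟩ := hb
      have hcomm : ∀ c : G, ∀ y : G, IsConj c y → Commute y c := by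
        intro c y hy
        obtain ⟨g, rfl⟩ := isConj_iff.1 hy
        exact mem_centralizer_singleton_iff.1 ((Subgroup.mem_normalizer_iff.1
          (centralizer_normal h hz1 (fun w => mem_center_iff.1 hzc w) c g) c).1
          (mem_centralizer_singleton_iff.2 rfl))
      exact (hcomm b a (hb.symm.trans ha)).eq
    have hc := Subgroup.isMulCommutative_closure (k := Group.conjugatesOfSet ({x} : Set G)) hle
    have hnil : Group.IsNilpotent (normalClosure ({x} : Set G)) := by
      letI : CommGroup (normalClosure ({x} : Set G)) :=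
        { (inferInstance : Group (normalClosure ({x} : Set G))) with mul_comm := fun a b => hc.is_comm.comm a b }
      exact CommGroup.isNilpotent
    exact Solvable.le_fittingSubgroup normalClosure_normal hnil (subset_normalClosure rfl)
  have hn := Solvable.fittingSubgroup_isNilpotent G
  rw [top_le_iff.1 hF] at hn
  exact Group.nilpotent_of_mulEquiv Subgroup.topEquiv

theorem isCN (h : TIC G) : Cfsg.IsCNGroup G := fun x hx => by
  refine nilpotent_of_center (subgroup h _) ?_
  intro e
  have hxc : (⟨x, mem_centralizer_singleton_iff.2 rfl⟩ : centralizer ({x} : Set G)) ∈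
      center (centralizer ({x} : Set G)) :=
    mem_center_iff.2 fun g => Subtype.ext (mem_centralizer_singleton_iff.1 g.2)
  rw [e, mem_bot] at hxc
  exact hx (congrArg Subtype.val hxc)

/-- Sylow subgroups are TI. -/
theorem sylow_ti (h : TIC G) {p : ℕ} [hp : Fact p.Prime] {S S' : Sylow p G} {y : G} (hy : y ∈ S)
    (hy' : y ∈ S') (hy1 : y ≠ 1) : S = S' := by
  have hcent : ∀ (P : Sylow p G), y ∈ P →
      ∃ z ∈ (P : Subgroup G), z ≠ 1 ∧ (∀ w ∈ (P : Subgroup G), w * z = z * w) := by
    intro P hyP
    haveI : Nontrivial P := ⟨⟨y, hyP⟩, 1, fun e => hy1 (congrArg Subtype.val e)⟩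
    haveI := P.isPGroup'.center_nontrivial
    obtain ⟨z, hz⟩ := exists_ne (1 : center P)
    exact ⟨((z : P) : G), (z : P).2, fun e => hz (Subtype.ext (Subtype.ext e)),
      fun w hw => congrArg Subtype.val (mem_center_iff.1 z.2 ⟨w, hw⟩)⟩
  -- the centraliser of an element of `S` normalises `S`
  have hC : ∀ z ∈ (S : Subgroup G), z ≠ 1 → (∀ w ∈ (S : Subgroup G), w * z = z * w) →
      ∀ v ∈ (S : Subgroup G), v ≠ 1 → ∀ w : G, Commute w v →
        w ∈ normalizer ((S : Subgroup G) : Set G) := by
    intro z hz hz1 hzc v hv hv1 w hw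
    have hn := key h (x := z) (g := w) hv1 (hzc v hv)
      (by rw [hw.eq, mul_inv_cancel_right]; exact hzc v hv)
    rw [Subgroup.mem_normalizer_iff]
    intro a
    have hle : (S : Subgroup G) ≤ centralizer ({z} : Set G) :=
      fun b hb => mem_centralizer_singleton_iff.2 (hzc b hb)
    haveI hnil := isCN h z hz1
    have huniq : ∀ b : G, CN.PElem p b → b ∈ centralizer ({z} : Set G) → b ∈ (S : Subgroup G) := by
      intro b hb hbC
      have hns : (↑(S.subtype hle) : Subgroup (centralizer ({z} : Set G))).Normal := inferInstance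
      haveI : Subsingleton (Sylow p (centralizer ({z} : Set G))) :=
        (Sylow.unique_of_normal _ hns).instSubsingleton
      obtain ⟨k, hk⟩ := hb
      obtain ⟨j, -, hj⟩ := (Nat.dvd_prime_pow hp.out).1 (orderOf_dvd_of_pow_eq_one hk)
      obtain ⟨P, hP⟩ := (IsPGroup.of_card (n := j) (G := zpowers (⟨b, hbC⟩ : centralizer ({z} : Set G)))
        (by rw [Nat.card_zpowers, ← Subgroup.orderOf_coe, hj])).exists_le_sylow
      rw [Subsingleton.elim P (S.subtype hle)] at hP
      have h1 := hP (mem_zpowers _)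
      rw [Sylow.coe_subtype, Subgroup.mem_subgroupOf] at h1
      exact h1
    constructor
    · intro ha
      exact huniq _ (CN.PElem.conj (CN.pElem_of_mem S.2 ha) w) ((Subgroup.mem_normalizer_iff.1 hn a).1 (hle ha))
    · intro ha
      have h2 := huniq a ?_ ((Subgroup.mem_normalizer_iff.1 hn a).2 (hle ha))
      · exact h2
      · have h3 := CN.PElem.conj (CN.pElem_of_mem S.2 ha) w⁻¹
        rwa [show w⁻¹ * (w * a * w⁻¹) * w⁻¹⁻¹ = a by group] at h3
  have hmem : ∀ b : G, CN.PElem p b → b ∈ normalizer ((S : Subgroup G) : Set G) → b ∈ (S : Subgroup G) := by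
    intro b hb hbN
    obtain ⟨k, hk⟩ := hb
    obtain ⟨j, -, hj⟩ := (Nat.dvd_prime_pow hp.out).1 (orderOf_dvd_of_pow_eq_one hk)
    have hP : IsPGroup p ((S : Subgroup G) ⊔ zpowers b : Subgroup G) :=
      IsPGroup.to_sup_of_normal_left' S.2 (IsPGroup.of_card (n := j) (by rw [Nat.card_zpowers, hj]))
        (zpowers_le.2 hbN)
    have := S.is_maximal' hP le_sup_left
    exact this.le (mem_sup_right (mem_zpowers b))
  obtain ⟨z, hz, hz1, hzc⟩ := hcent S hy
  obtain ⟨z', hz', hz'1, hz'c⟩ := hcent S' hy'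
  have hz'S : z' ∈ (S : Subgroup G) :=
    hmem z' (CN.pElem_of_mem S'.2 hz') (hC z hz hz1 hzc y hy hy1 z' (hz'c y hy').symm)
  refine Sylow.ext (S'.is_maximal' S.2 fun b hb => ?_)
  exact hmem b (CN.pElem_of_mem S'.2 hb) (hC z hz hz1 hzc z' hz'S hz'1 b (hz'c b hb))

/-- A nontrivial normal `p`-subgroup forces a normal Sylow subgroup. -/
theorem sylow_normal (h : TIC G) {p : ℕ} [Fact p.Prime] {N : Subgroup G} [hN : N.Normal]
    (hNp : IsPGroup p N) (hN1 : N ≠ ⊥) (S : Sylow p G) : (S : Subgroup G).Normal := by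
  obtain ⟨y, hy, hy1⟩ := N.bot_or_exists_ne_one.resolve_left hN1
  haveI : Subsingleton (Sylow p G) :=
    ⟨fun A B => sylow_ti h (hNp.le_sylow_of_normal A hy) (hNp.le_sylow_of_normal B hy) hy1⟩
  exact Sylow.normal_of_subsingleton S

/-- The quaternion part of a complement has order eight. -/
theorem quaternion_bound {H : Type*} [Group H] [Finite H] {m : ℕ} [NeZero m]
    (h : ∀ x : H, Cfsg.IsTISubset (centralizer ({x} : Set H) : Set H)) (e : QuaternionGroup m ≃* H) :
    m ≤ 2 := by
  have hQ : TIC (QuaternionGroup m) := of_injective h e.toMonoidHom e.injective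
  open QuaternionGroup in
  have hcomm : ∀ g : QuaternionGroup m, Commute g (a m) := by
    have h2 : ((m : ZMod (2 * m)) + m) = 0 := by
      rw [← Nat.cast_add, ← two_mul, ZMod.natCast_self]
    rintro (i | i)
    · exact congrArg a (add_comm _ _)
    · show xa i * a m = a m * xa i
      rw [xa_mul_a, a_mul_xa]
      exact congrArg xa (by linear_combination h2)
  have hne : (QuaternionGroup.a (m : ZMod (2 * m)) : QuaternionGroup m) ≠ 1 := by
    intro e1
    rw [QuaternionGroup.one_def, QuaternionGroup.a.injEq, ZMod.natCast_eq_zero_iff] at e1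
    have := Nat.le_of_dvd (Nat.pos_of_neZero m) e1
    have := Nat.pos_of_neZero m
    omega
  have hn := centralizer_normal hQ hne hcomm (QuaternionGroup.xa 0) (QuaternionGroup.a 1)
  have h1 := (Subgroup.mem_normalizer_iff.1 hn (QuaternionGroup.xa 0)).1
    (mem_centralizer_singleton_iff.2 rfl)
  rw [mem_centralizer_singleton_iff] at h1
  have hinv : (QuaternionGroup.a (1 : ZMod (2 * m)))⁻¹ = QuaternionGroup.a (-1) := rfl
  simp only [hinv, QuaternionGroup.a_mul_xa, QuaternionGroup.xa_mul_a, QuaternionGroup.xa_mul_xa,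
    QuaternionGroup.a.injEq] at h1
  have h4 : ((4 : ℕ) : ZMod (2 * m)) = 0 := by
    push_cast
    linear_combination h1
  have := Nat.le_of_dvd (by norm_num) ((ZMod.natCast_eq_zero_iff _ _).1 h4)
  omega

theorem solvable_case (h : TIC G) [Group.IsSolvable G] (hnn : ¬ Group.IsNilpotent G) :
    ∃ H : Subgroup G, Cfsg.IsFrobeniusComplement H ∧
      (IsCyclic H ∨ ∃ m : ℕ, Odd m ∧ Nonempty (H ≃* Multiplicative (ZMod m) × QuaternionGroup 2)) := by
  have hCN := isCN h
  haveI : Nontrivial G := by
    by_contra hc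
    rw [not_nontrivial_iff_subsingleton] at hc
    exact hnn inferInstance
  obtain ⟨N, hN, hN1, -, hmin⟩ := Solvable.exists_minimal_normal_le (⊤ : Subgroup G) top_ne_bot
  haveI := hN
  obtain ⟨-, p, hp, hpN⟩ := Solvable.minimal_normal_elementary_abelian N hN1 hmin
  haveI := Fact.mk hp
  have hNp : IsPGroup p N := fun x => ⟨1, Subtype.ext (by simpa using hpN x x.2)⟩
  obtain ⟨S⟩ : Nonempty (Sylow p G) := inferInstance
  have hS1 : (S : Subgroup G) ≠ ⊥ := fun e => hN1 (le_bot_iff.1 (e ▸ hNp.le_sylow_of_normal S))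
  obtain ⟨F, E, hFn, -, hF1, -, hE1, hE, hfrob, hfpf⟩ :=
    CN.frobenius_of_normal_sylow hCN hnn S hS1 (sylow_normal h hNp hN1 S)
  haveI := hFn
  refine ⟨E, hfrob, ?_⟩
  rcases (CN.complement_structure hCN hE hF1 hE1 hfpf).2 with hc | ⟨C, Q, hCQ, hcomm, hC, hodd, n, ⟨e⟩⟩
  · exact Or.inl hc
  have hCE : C ≤ E := le_sup_left.trans hCQ.le
  have hQE : Q ≤ E := le_sup_right.trans hCQ.le
  let f : C × Q →* E := MonoidHom.noncommCoprod (Subgroup.inclusion hCE) (Subgroup.inclusion hQE)
    (fun c d => Subtype.ext (hcomm c c.2 d d.2))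
  have hbij : Function.Bijective f := by
    have hfc : ∀ (c : C) (d : Q), ((f (c, d) : E) : G) = (c : G) * d := fun c d => rfl
    constructor
    · refine (injective_iff_map_eq_one f).2 ?_
      rintro ⟨c, d⟩ hcd
      have h0 : (c : G) * d = 1 := by rw [← hfc, hcd]; rfl
      have h1 : (c : G) = (d : G)⁻¹ := eq_inv_of_mul_eq_one_left h0
      have hd1 : (d : G) = 1 := by
        have hdC : (d : G) ∈ C := by
          have := inv_mem c.2
          rwa [h1, inv_inv] at this
        have ha := Subgroup.orderOf_dvd_natCard C hdC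
        have hb := Subgroup.orderOf_dvd_natCard Q d.2
        haveI : NeZero (2 ^ n) := ⟨(Nat.two_pow_pos n).ne'⟩
        rw [Nat.card_congr e.toEquiv, Nat.card_eq_fintype_card, QuaternionGroup.card] at hb
        refine orderOf_eq_one_iff.1 (Nat.eq_one_of_dvd_coprimes (a := Nat.card C) (b := 4 * 2 ^ n) ?_ ha hb)
        rw [show (4 : ℕ) * 2 ^ n = 2 ^ (n + 2) by rw [pow_add]; ring]
        exact (Nat.coprime_two_right.2 hodd).pow_right _
      rw [hd1, inv_one] at h1
      exact Prod.ext (Subtype.ext h1) (Subtype.ext hd1)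
    · rw [← MonoidHom.range_eq_top]
      apply Subgroup.map_injective E.subtype_injective
      rw [← MonoidHom.range_eq_map E.subtype, range_subtype]
      refine le_antisymm (map_subtype_le _) ?_
      refine hCQ.ge.trans (sup_le (fun c hc => ?_) fun d hd => ?_)
      · exact ⟨f (⟨c, hc⟩, 1), ⟨_, rfl⟩, by simp [hfc]⟩
      · exact ⟨f (1, ⟨d, hd⟩), ⟨_, rfl⟩, by simp [hfc]⟩
  let ef : C × Q ≃* E := MulEquiv.ofBijective f hbij
  haveI := hC
  let eC : Multiplicative (ZMod (Nat.card C)) ≃* C := zmodCyclicMulEquiv hC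
  rcases Nat.eq_zero_or_pos n with hn | hn
  · left
    subst hn
    haveI : IsCyclic Q := by
      haveI : IsCyclic (QuaternionGroup (2 ^ 0)) := QuaternionGroup.quaternionGroup_one_isCyclic
      exact e.isCyclic.2 inferInstance
    haveI : IsCyclic (C × Q) := by
      refine Group.isCyclic_prod_iff.2 ⟨hC, inferInstance, ?_⟩
      rw [Nat.card_congr e.toEquiv, Nat.card_eq_fintype_card (α := QuaternionGroup (2 ^ 0)), QuaternionGroup.card]
      exact (Nat.coprime_two_right.2 hodd).pow_right 2
    exact ef.isCyclic.1 inferInstance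
  · haveI : NeZero (2 ^ n) := ⟨(Nat.two_pow_pos n).ne'⟩
    have h2 := quaternion_bound (subgroup h Q) e.symm
    have hn1 : n = 1 := by
      by_contra hne
      have := Nat.pow_le_pow_right (by norm_num : 0 < 2) (show 2 ≤ n by omega)
      norm_num at this
      omega
    subst hn1
    exact Or.inr ⟨Nat.card C, hodd, ⟨ef.symm.trans (eC.symm.prodCongr e)⟩⟩

end CfsgLib.FGS73.TICent
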