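import Mathlib
import Cfsg.Agent.Lib.FGS73.TICentralizers
import Cfsg.Agent.Lib.CN.Final
import Cfsg.Agent.Lib.Invol.GlaubermanZStar
import Cfsg.Agent.Lib.Invol.Dihedral
import Cfsg.Agent.Lib.Invol.Counting

/-!
Nonsolvable groups with TI element centralisers: the centraliser of an involution.
-/

set_option autoImplicit false
set_option linter.style.haveILetI false

open Subgroup

namespace CfsgLib.FGS73.TICent

universe u

variable {G : Type u} [Group G] [Finite G]

theorem orderOf_conj' {G : Type*} [Group G] (g x : G) : orderOf (g * x * g⁻¹) = orderOf x :=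
  MulEquiv.orderOf_eq (MulAut.conj g) x

theorem odd_solvable (h : TIC G) (H : Subgroup G) (hodd : Odd (Nat.card H)) : Group.IsSolvable H :=
  CN.isSolvable_of_cn hodd (isCN (subgroup h H))

/-- A nonsolvable group with TI centralisers has no nontrivial solvable normal subgroup. -/
theorem eq_bot_of_solvable_normal (h : TIC G) (hns : ¬ Group.IsSolvable G) (N : Subgroup G) [N.Normal]
    [Group.IsSolvable N] : N = ⊥ := by
  by_contra hN
  obtain ⟨A, hA, hAN, hA1, hAc⟩ : ∃ A : Subgroup G, A.Normal ∧ A ≤ N ∧ A ≠ ⊥ ∧ IsMulCommutative A :=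
    by
      obtain ⟨A, hA, hA1, hAN, hmin⟩ := Solvable.exists_minimal_normal_le N hN
      haveI := hA
      haveI : Group.IsSolvable A := solvable_of_solvable_injective (Subgroup.inclusion_injective hAN)
      refine ⟨A, hA, hAN, hA1, ?_⟩
      rcases hmin ⁅A, A⁆ inferInstance (Subgroup.commutator_le_right A A) with h0 | h0
      · exact ⟨⟨fun a b => Subtype.ext
          (mem_centralizer_iff.1 ((Subgroup.commutator_eq_bot_iff_le_centralizer.1 h0) b.2) a a.2)⟩⟩
      · exfalso
        haveI : Nontrivial A := (Subgroup.nontrivial_iff_ne_bot A).2 hA1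
        have h1 : commutator A = ⊤ := by
          apply Subgroup.map_injective A.subtype_injective
          rw [Subgroup.map_subtype_commutator, h0, ← MonoidHom.range_eq_map, range_subtype]
        exact (Group.IsSolvable.commutator_lt_top_of_nontrivial A).ne h1
  haveI := hA
  obtain ⟨a, ha, ha1⟩ := A.bot_or_exists_ne_one.resolve_left hA1
  set p := (Nat.card A).minFac with hpdef
  have hp : p.Prime := Nat.minFac_prime (fun e => hA1 (Subgroup.card_eq_one.1 e))
  haveI := Fact.mk hp
  haveI hAn : Group.IsNilpotent A := by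
    letI : CommGroup A := { (inferInstance : Group A) with mul_comm := fun x y => hAc.is_comm.comm x y }
    exact CommGroup.isNilpotent
  obtain ⟨P⟩ : Nonempty (Sylow p A) := inferInstance
  haveI : (P : Subgroup A).Normal := inferInstance
  haveI : (P : Subgroup A).Characteristic := P.characteristic_of_normal inferInstance
  set V := (P : Subgroup A).map A.subtype with hV
  haveI : V.Normal := ConjAct.normal_of_characteristic_of_normal
  have hVp : IsPGroup p V := P.isPGroup'.map _
  have hV1 : V ≠ ⊥ := fun e =>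
    P.ne_bot_of_dvd_card (Nat.minFac_dvd _) ((Subgroup.map_eq_bot_iff_of_injective _ A.subtype_injective).1 e)
  obtain ⟨S⟩ : Nonempty (Sylow p G) := inferInstance
  have hS1 : (S : Subgroup G) ≠ ⊥ := fun e => hV1 (le_bot_iff.1 (e ▸ hVp.le_sylow_of_normal S))
  have hnn : ¬ Group.IsNilpotent G := fun hn => hns inferInstance
  obtain ⟨F, E, hFn, hFF, hF1, -, hE1, hE, -, hfpf⟩ :=
    CN.frobenius_of_normal_sylow (isCN h) hnn S hS1 (sylow_normal h hVp hV1 S)
  haveI := hFn
  have hEn : Group.IsNilpotent E := (CN.complement_structure (isCN h) hE hF1 hE1 hfpf).1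
  haveI : Group.IsSolvable F := by
    have hFfit : F ≤ Cfsg.fittingSubgroup G :=
      hFF ▸ sSup_le fun M hM => Solvable.le_fittingSubgroup hM.1 hM.2.1
    haveI := CN.isNilpotent_of_le (Solvable.fittingSubgroup_isNilpotent G) hFfit
    infer_instance
  haveI := hEn
  haveI : Group.IsSolvable (G ⧸ F) :=
    Group.isSolvable_of_surjective (f := (QuotientGroup.mk' F).comp E.subtype) fun q => by
      obtain ⟨g, rfl⟩ := QuotientGroup.mk'_surjective F q
      obtain ⟨⟨n, e⟩, hne⟩ := hE.2 g
      refine ⟨e, ?_⟩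
      simp only at hne
      show QuotientGroup.mk' F (e : G) = _
      rw [← hne, map_mul, show QuotientGroup.mk' F (n : G) = 1 from (QuotientGroup.eq_one_iff (n : G)).2 n.2,
        one_mul]
  exact hns (Group.isSolvable_of_ker_le_range F.subtype (QuotientGroup.mk' F)
    (by rw [range_subtype, QuotientGroup.ker_mk']))

theorem center_eq_bot (h : TIC G) (hns : ¬ Group.IsSolvable G) : center G = ⊥ := by
  by_contra hc
  haveI := nilpotent_of_center h hc
  exact hns inferInstance

theorem even_card (h : TIC G) (hns : ¬ Group.IsSolvable G) : 2 ∣ Nat.card G := by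
  by_contra h2
  exact hns (CN.isSolvable_of_cn (Nat.odd_iff.2 (by omega)) (isCN h))

/-- A Sylow 2-subgroup contains two different involutions. -/
theorem exists_two_invol (h : TIC G) (hns : ¬ Group.IsSolvable G) (T : Sylow 2 G) {t : G}
    (ht : orderOf t = 2) (htT : t ∈ T) : ∃ u : G, u ∈ T ∧ orderOf u = 2 ∧ u ≠ t := by
  by_contra hc
  push Not at hc
  obtain ⟨N, hN, hodd, hNt⟩ := Invol.zStar_sylow T t ht fun g hg => hc _ hg (by rw [orderOf_conj', ht])
  haveI := hN
  haveI := odd_solvable h N hodd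
  have hN1 := eq_bot_of_solvable_normal h hns N
  have : t ∈ center G := mem_center_iff.2 fun g => by
    have h1 := hNt g
    rw [hN1, mem_bot, mul_inv_eq_one, mul_inv_eq_iff_eq_mul] at h1
    exact h1.symm
  rw [center_eq_bot h hns, mem_bot] at this
  rw [this, orderOf_one] at ht
  exact absurd ht (by norm_num)

/-- The basic data: an involution `t` central in a Sylow 2-subgroup `T`. -/
structure Data (G : Type u) [Group G] [Finite G] (T : Sylow 2 G) (t : G) : Prop where
  tic : TIC G
  ns : ¬ Group.IsSolvable G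
  ord : orderOf t = 2
  memT : t ∈ T
  cent : ∀ w ∈ (T : Subgroup G), w * t = t * w

theorem exists_data (h : TIC G) (hns : ¬ Group.IsSolvable G) (T : Sylow 2 G) : ∃ t, Data G T t := by
  haveI : Nontrivial T := (Subgroup.nontrivial_iff_ne_bot _).2 (T.ne_bot_of_dvd_card (even_card h hns))
  haveI := T.isPGroup'.center_nontrivial
  obtain ⟨z, hz, hzo⟩ : ∃ z : center T, True ∧ orderOf z = 2 := by
    obtain ⟨k, hk⟩ := (IsPGroup.iff_card (p := 2)).1 (T.isPGroup'.to_subgroup (center T))
    have hk0 : k ≠ 0 := by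
      rintro rfl
      have := Finite.one_lt_card (α := center T)
      rw [pow_zero] at hk
      omega
    obtain ⟨z, hz⟩ := exists_prime_orderOf_dvd_card' (G := center T) 2 (hk ▸ dvd_pow_self 2 hk0)
    exact ⟨z, trivial, hz⟩
  exact ⟨((z : T) : G), h, hns, by rw [Subgroup.orderOf_coe, Subgroup.orderOf_coe, hzo], (z : T).2,
    fun w hw => congrArg Subtype.val (mem_center_iff.1 z.2 ⟨w, hw⟩)⟩

variable {T : Sylow 2 G} {t : G}

/-- The centraliser of `t`. -/
abbrev D (t : G) : Subgroup G := centralizer ({t} : Set G)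

theorem Data.T_le (S : Data G T t) : (T : Subgroup G) ≤ D t := fun w hw =>
  mem_centralizer_singleton_iff.2 (S.cent w hw)

theorem Data.ne_one (S : Data G T t) : t ≠ 1 := fun e => by
  have := S.ord
  rw [e, orderOf_one] at this
  exact absurd this (by norm_num)

theorem Data.nilp (S : Data G T t) : Group.IsNilpotent (D t) := isCN S.tic t S.ne_one

/-- 2-elements of `C(t)` lie in `T`. -/
theorem Data.two_mem (S : Data G T t) {w : G} (hw : CN.PElem 2 w) (hwD : w ∈ D t) : w ∈ (T : Subgroup G) := by
  haveI := S.nilp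
  haveI : Subsingleton (Sylow 2 (D t)) :=
    (Sylow.unique_of_normal (T.subtype S.T_le) inferInstance).instSubsingleton
  obtain ⟨k, hk⟩ := hw
  obtain ⟨j, -, hj⟩ := (Nat.dvd_prime_pow Nat.prime_two).1 (orderOf_dvd_of_pow_eq_one hk)
  obtain ⟨P, hP⟩ := (IsPGroup.of_card (n := j) (G := zpowers (⟨w, hwD⟩ : D t))
    (by rw [Nat.card_zpowers, ← Subgroup.orderOf_coe, hj])).exists_le_sylow
  rw [Subsingleton.elim P (T.subtype S.T_le)] at hP
  have h1 := hP (mem_zpowers _)
  rw [Sylow.coe_subtype, Subgroup.mem_subgroupOf] at h1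
  exact h1

theorem Data.centralizer_le_of_prime (S : Data G T t) {y : G} (hyD : y ∈ D t) (hy : (orderOf y).Prime) :
    centralizer ({y} : Set G) ≤ D t := by
  have hy1 : y ≠ 1 := fun e => hy.ne_one (by rw [e, orderOf_one])
  have htC : t ∈ centralizer ({y} : Set G) :=
    mem_centralizer_singleton_iff.2 (mem_centralizer_singleton_iff.1 hyD).symm
  have hnil := isCN S.tic y hy1
  intro w hw
  refine CN.mem_of_pElem_pow fun s m hs hsm => ?_
  haveI := Fact.mk hs
  have hwm : w ^ m ∈ centralizer ({y} : Set G) := pow_mem hw m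
  by_cases hs2 : s = 2
  · subst hs2
    -- the 2-elements of `C(y)` lie in one Sylow 2-subgroup
    haveI := hnil
    obtain ⟨P⟩ : Nonempty (Sylow 2 (centralizer ({y} : Set G))) := inferInstance
    haveI : Subsingleton (Sylow 2 (centralizer ({y} : Set G))) :=
      (Sylow.unique_of_normal P inferInstance).instSubsingleton
    obtain ⟨P', hP'⟩ := (P.isPGroup'.map (centralizer ({y} : Set G)).subtype).exists_le_sylow
    have hin : ∀ v : G, CN.PElem 2 v → v ∈ centralizer ({y} : Set G) → v ∈ (P' : Subgroup G) := by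
      intro v hv hvC
      obtain ⟨k, hk⟩ := hv
      obtain ⟨j, -, hj⟩ := (Nat.dvd_prime_pow Nat.prime_two).1 (orderOf_dvd_of_pow_eq_one hk)
      obtain ⟨Q, hQ⟩ := (IsPGroup.of_card (n := j) (G := zpowers (⟨v, hvC⟩ : centralizer ({y} : Set G)))
        (by rw [Nat.card_zpowers, ← Subgroup.orderOf_coe, hj])).exists_le_sylow
      rw [Subsingleton.elim Q P] at hQ
      exact hP' ⟨_, hQ (mem_zpowers _), rfl⟩
    have htP : t ∈ (P' : Subgroup G) := hin t (CN.pElem_of_orderOf_eq S.ord) htC
    have hPT : P' = T := sylow_ti S.tic htP S.memT S.ne_one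
    exact S.T_le (hPT ▸ hin _ hsm hwm)
  · exact mem_centralizer_singleton_iff.2
      (CN.commute_of_nilpotent hs2 hnil hwm htC hsm (CN.pElem_of_orderOf_eq S.ord))

theorem Data.nilCent (S : Data G T t) : CN.NilCent (D t) := by
  refine ⟨S.nilp, fun e => S.ne_one ?_, fun x hx hx1 => ?_⟩
  · have : t ∈ D t := mem_centralizer_singleton_iff.2 rfl
    rwa [e, mem_bot] at this
  · obtain ⟨s, m, hs, hsm⟩ := CN.exists_pow_prime_order hx1
    refine le_trans (fun w hw => ?_) (S.centralizer_le_of_prime (pow_mem hx m) (hsm ▸ hs))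
    exact mem_centralizer_singleton_iff.2
      ((show Commute w x from mem_centralizer_singleton_iff.1 hw).pow_right m).eq

theorem Data.t_mem (S : Data G T t) : t ∈ D t := mem_centralizer_singleton_iff.2 rfl

/-- The normaliser of `C(t)`. -/
abbrev M (t : G) : Subgroup G := normalizer (D t : Set G)

theorem Data.M_ne_top (S : Data G T t) : M t ≠ ⊤ := by
  intro e
  haveI : (D t).Normal := normalizer_eq_top_iff.1 e
  haveI := S.nilp
  haveI : Group.IsSolvable (D t) := inferInstance
  exact S.nilCent.ne_bot (eq_bot_of_solvable_normal S.tic S.ns (D t))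

theorem Data.exists_conj_notMem (S : Data G T t) : ∃ u : G, orderOf u = 2 ∧ IsConj t u ∧ u ∉ D t := by
  obtain ⟨g, hg⟩ := SetLike.exists_not_mem_of_ne_top _ S.M_ne_top rfl
  exact ⟨g * t * g⁻¹, by rw [orderOf_conj', S.ord], isConj_iff.2 ⟨g, rfl⟩,
    fun hu => hg (S.nilCent.mem_normalizer_of_conj_mem S.t_mem S.ne_one hu)⟩

theorem Data.isConj_of_mem_of_notMem (S : Data G T t) {a b : G} (ha : orderOf a = 2) (hb : orderOf b = 2)
    (haD : a ∈ D t) (hbD : b ∉ D t) : IsConj a b := by
  by_contra hne
  obtain ⟨-, hi, hia, hib⟩ := Invol.exists_middle_of_not_isConj ha hb hne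
  have hi1 : (a * b) ^ (orderOf (a * b) / 2) ≠ 1 := fun e => by
    rw [e, orderOf_one] at hi; exact absurd hi (by norm_num)
  have hiD := S.nilCent.mem_of_commute haD (fun e => by rw [e, orderOf_one] at ha; exact absurd ha (by norm_num)) hia.eq
  exact hbD (S.nilCent.mem_of_commute hiD hi1 hib.symm.eq)

/-- All involutions are conjugate. -/
theorem Data.isConj_invol (S : Data G T t) {u : G} (hu : orderOf u = 2) : IsConj t u := by
  by_cases huD : u ∈ D t
  · obtain ⟨v, hv, htv, hvD⟩ := S.exists_conj_notMem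
    exact htv.trans (S.isConj_of_mem_of_notMem hu hv huD hvD).symm
  · exact S.isConj_of_mem_of_notMem S.ord hu S.t_mem huD

/-- The centraliser of an involution of `C(t)` is `C(t)`. -/
theorem Data.centralizer_eq (S : Data G T t) {u : G} (hu : orderOf u = 2) (huD : u ∈ D t) :
    centralizer ({u} : Set G) = D t := by
  refine Subgroup.eq_of_le_of_card_ge (S.nilCent.centralizer_le u huD fun e => ?_) ?_
  · rw [e, orderOf_one] at hu; exact absurd hu (by norm_num)
  · obtain ⟨g, rfl⟩ := isConj_iff.1 (S.isConj_invol hu)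
    rw [Nat.card_congr ((D t).equivMapOfInjective (MulAut.conj g).toMonoidHom (MulAut.conj g).injective).toEquiv]
    refine Subgroup.card_le_of_le ?_
    rintro _ ⟨d, hd, rfl⟩
    refine mem_centralizer_singleton_iff.2 ?_
    exact ((Commute.conj_iff g).2 (mem_centralizer_singleton_iff.1 hd)).eq

/-- The involutions of `M` lie in `C(t)`. -/
theorem Data.invol_mem (S : Data G T t) {u : G} (hu : orderOf u = 2) (huM : u ∈ M t) : u ∈ D t := by
  have hTn : M t ≤ normalizer ((T : Subgroup G) : Set G) := by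
    intro g hg
    have hiff := Subgroup.mem_normalizer_iff.1 hg
    rw [Subgroup.mem_normalizer_iff]
    intro a
    constructor
    · intro ha
      exact S.two_mem (CN.PElem.conj (CN.pElem_of_mem T.2 ha) g) ((hiff a).1 (S.T_le ha))
    · intro ha
      refine S.two_mem ?_ ((hiff a).2 (S.T_le ha))
      have h3 := CN.PElem.conj (CN.pElem_of_mem T.2 ha) g⁻¹
      rwa [show g⁻¹ * (g * a * g⁻¹) * g⁻¹⁻¹ = a by group] at h3
  have hP : IsPGroup 2 ((T : Subgroup G) ⊔ zpowers u : Subgroup G) :=
    IsPGroup.to_sup_of_normal_left' T.2 (IsPGroup.of_card (n := 1) (by rw [Nat.card_zpowers, hu, pow_one]))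
      (zpowers_le.2 (hTn huM))
  exact S.T_le ((T.is_maximal' hP le_sup_left).le (mem_sup_right (mem_zpowers u)))

/-- The elements of `M` permute the involutions of `C(t)` with stabiliser `C(t)`. -/
theorem Data.relIndex_eq (S : Data G T t) :
    (D t).relIndex (M t) = Nat.card {u : G // orderOf u = 2 ∧ u ∈ D t} := by
  let J := {u : G // orderOf u = 2 ∧ u ∈ D t}
  let act : MulAction (M t) J :=
    { smul := fun m u => ⟨(m : G) * u.1 * (m : G)⁻¹, by rw [orderOf_conj']; exact u.2.1,
        (Subgroup.mem_normalizer_iff.1 m.2 _).1 u.2.2⟩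
      one_smul := fun u => Subtype.ext (by
        show ((1 : M t) : G) * u.1 * ((1 : M t) : G)⁻¹ = u.1
        simp)
      mul_smul := fun a b u => Subtype.ext (by
        show ((a * b : M t) : G) * u.1 * ((a * b : M t) : G)⁻¹ = (a : G) * ((b : G) * u.1 * (b : G)⁻¹) * (a : G)⁻¹
        rw [Subgroup.coe_mul]; group) }
  letI := act
  have hsmul : ∀ (m : M t) (u : J), ((m • u : J) : G) = (m : G) * u.1 * (m : G)⁻¹ := fun m u => rfl
  let t₀ : J := ⟨t, S.ord, S.t_mem⟩
  haveI : MulAction.IsPretransitive (M t) J := by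
    refine MulAction.IsPretransitive.of_orbit (x₀ := t₀) fun u => ?_
    obtain ⟨g, hg⟩ := isConj_iff.1 (S.isConj_invol u.2.1)
    refine ⟨⟨g, S.nilCent.mem_normalizer_of_conj_mem S.t_mem S.ne_one (hg ▸ u.2.2)⟩, Subtype.ext ?_⟩
    exact hg
  have hst : MulAction.stabilizer (M t) t₀ = (D t).subgroupOf (M t) := by
    ext m
    rw [MulAction.mem_stabilizer_iff, Subgroup.mem_subgroupOf, mem_centralizer_singleton_iff,
      ← Subtype.coe_inj, hsmul]
    exact mul_inv_eq_iff_eq_mul
  rw [Subgroup.relIndex, ← hst, MulAction.index_stabilizer_of_transitive]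

theorem Data.two_le_j (S : Data G T t) : 2 ≤ Nat.card {u : G // orderOf u = 2 ∧ u ∈ D t} := by
  obtain ⟨u, huT, hu, hne⟩ := exists_two_invol S.tic S.ns T S.ord S.memT
  haveI : Nontrivial {u : G // orderOf u = 2 ∧ u ∈ D t} :=
    ⟨⟨⟨u, hu, S.T_le huT⟩, ⟨t, S.ord, S.t_mem⟩, fun e => hne (congrArg Subtype.val e)⟩⟩
  exact Finite.one_lt_card

end CfsgLib.FGS73.TICent
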