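import Mathlib
import Cfsg.Agent.Lib.FGS73.TICentralizersLocal
import Cfsg.Agent.Lib.FGS73.PrimeOrders
import Cfsg.Agent.S0001

/-!
Nonsolvable groups with TI element centralisers: the action on the cosets of the normaliser of an
involution centraliser is doubly transitive with trivial three-point stabilisers.
-/

set_option autoImplicit false
set_option linter.style.haveILetI false

open Subgroup

namespace CfsgLib.FGS73.TICent

universe u

variable {G : Type u} [Group G] [Finite G] {T : Sylow 2 G} {t : G}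

theorem invol_inv {u : G} (hu : orderOf u = 2) : u⁻¹ = u := by
  apply inv_eq_of_mul_eq_one_left
  rw [← sq, ← hu, pow_orderOf_eq_one]

/-- The number of involutions in `C(t)`. -/
noncomputable def jj (t : G) : ℕ := Nat.card {u : G // orderOf u = 2 ∧ u ∈ D t}

/-- The stabiliser in `M` of the coset `u M`. -/
def H (t u : G) : Subgroup G := M t ⊓ (M t).comap (MulAut.conj u⁻¹).toMonoidHom

theorem mem_H {u k : G} : k ∈ H t u ↔ k ∈ M t ∧ u⁻¹ * k * u ∈ M t := by
  simp [H, Subgroup.mem_comap]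

theorem H_le_M (t u : G) : H t u ≤ M t := inf_le_left

theorem D_le_M (t : G) : D t ≤ M t := le_normalizer

theorem D_subgroupOf_normal (t : G) : ((D t).subgroupOf (M t)).Normal := Subgroup.normal_in_normalizer

theorem Data.card_M (S : Data G T t) : Nat.card (M t) = Nat.card (D t) * jj t := by
  have h := Subgroup.card_mul_index ((D t).subgroupOf (M t))
  rw [Nat.card_congr (Subgroup.subgroupOfEquivOfLe (D_le_M t)).toEquiv,
    show ((D t).subgroupOf (M t)).index = (D t).relIndex (M t) from rfl, S.relIndex_eq] at h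
  exact h.symm

theorem Data.coprime_j (S : Data G T t) : (Nat.card (D t)).Coprime (jj t) := by
  refine S.nilCent.coprime.coprime_dvd_right ?_
  rw [jj, ← S.relIndex_eq]
  exact Subgroup.relIndex_dvd_index_of_le (D_le_M t)

theorem Data.even_D (S : Data G T t) : 2 ∣ Nat.card (D t) :=
  S.ord ▸ Subgroup.orderOf_dvd_natCard _ S.t_mem

theorem Data.odd_j (S : Data G T t) : Odd (jj t) :=
  Nat.coprime_two_left.1 (S.coprime_j.coprime_dvd_left S.even_D)

theorem Data.mem_D_of_dvd (S : Data G T t) {x : G} (hx : x ∈ M t) (hd : orderOf x ∣ Nat.card (D t)) :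
    x ∈ D t := by
  haveI := D_subgroupOf_normal t
  have h1 : x ^ jj t ∈ D t := by
    have := Subgroup.pow_index_mem ((D t).subgroupOf (M t)) ⟨x, hx⟩
    rw [show ((D t).subgroupOf (M t)).index = (D t).relIndex (M t) from rfl, S.relIndex_eq,
      Subgroup.mem_subgroupOf] at this
    exact this
  obtain ⟨k, hk⟩ := exists_pow_eq_self_of_coprime (S.coprime_j.symm.coprime_dvd_right hd)
  rw [← hk]
  exact pow_mem h1 k

theorem Data.eq_one_of_fixes (S : Data G T t) {x g : G} (hx : x ∈ D t) (hg : g ∉ M t)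
    (hfix : g⁻¹ * x * g ∈ M t) : x = 1 := by
  by_contra hx1
  have ho : orderOf (g⁻¹ * x * g) = orderOf x := by
    have h := orderOf_conj' g⁻¹ x
    rwa [inv_inv] at h
  have hD : g⁻¹ * x * g ∈ D t :=
    S.mem_D_of_dvd hfix (by rw [ho]; exact Subgroup.orderOf_dvd_natCard _ hx)
  refine hg ?_
  have := S.nilCent.mem_normalizer_of_conj_mem (g := g⁻¹) hx hx1 (by rwa [inv_inv])
  exact inv_mem_iff.1 this

theorem Data.H_inf_D (S : Data G T t) {u : G} (hu : u ∉ M t) {x : G} (hx : x ∈ H t u) (hxD : x ∈ D t) :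
    x = 1 :=
  S.eq_one_of_fixes hxD hu (mem_H.1 hx).2

theorem Data.card_H_le (S : Data G T t) {u : G} (hu : u ∉ M t) : Nat.card (H t u) ≤ jj t := by
  haveI := D_subgroupOf_normal t
  let f : H t u →* (M t) ⧸ (D t).subgroupOf (M t) :=
    (QuotientGroup.mk' _).comp (Subgroup.inclusion inf_le_left)
  have hf : Function.Injective f := (injective_iff_map_eq_one f).2 fun x hx => by
    have h1 := (QuotientGroup.eq_one_iff _).1 hx
    rw [Subgroup.mem_subgroupOf] at h1
    exact Subtype.ext (S.H_inf_D hu x.2 h1)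
  refine (Nat.card_le_card_of_injective f hf).trans ?_
  rw [← Subgroup.index_eq_card]
  exact (S.relIndex_eq).le

theorem Data.card_invol (S : Data G T t) : Nat.card {u : G // orderOf u = 2} = jj t * (M t).index := by
  rw [show {u : G // orderOf u = 2} = {u : G // IsConj t u} from congrArg Subtype (funext fun u =>
      propext ⟨S.isConj_invol, fun h => by
        obtain ⟨c, rfl⟩ := isConj_iff.1 h
        rw [orderOf_conj', S.ord]⟩),
    Invol.card_isConj_eq_index, ← Subgroup.relIndex_mul_index (D_le_M t), S.relIndex_eq]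
  rfl

theorem mk_one_ne {g : G} (hg : g ∉ M t) : (g : G ⧸ M t) ≠ ((1 : G) : G ⧸ M t) := fun e => by
  rw [QuotientGroup.eq, mul_one, inv_mem_iff] at e
  exact hg e

theorem mul_mem_H {u v : G} (hu : orderOf u = 2) (hv : orderOf v = 2) (h : u⁻¹ * v ∈ M t) :
    u * v ∈ H t u := by
  rw [invol_inv hu] at h
  refine mem_H.2 ⟨h, ?_⟩
  rw [invol_inv hu, show u * (u * v) * u = (u * u) * (v * u) by group,
    show u * u = 1 by rw [← sq, ← hu, pow_orderOf_eq_one], one_mul]
  have h' := inv_mem h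
  rwa [mul_inv_rev, invol_inv hu, invol_inv hv] at h'

/-- Every coset outside `M` contains exactly `j` involutions. -/
theorem Data.card_fibre (S : Data G T t) {g : G} (hg : g ∉ M t) :
    Nat.card {v : G // orderOf v = 2 ∧ g⁻¹ * v ∈ M t} = jj t := by
  classical
  haveI := Fintype.ofFinite G
  haveI := Fintype.ofFinite (G ⧸ M t)
  let F : G ⧸ M t → Finset G := fun y =>
    Finset.univ.filter fun v : G => (orderOf v = 2 ∧ v ∉ M t) ∧ (QuotientGroup.mk v : G ⧸ M t) = y
  set X := Finset.univ.filter fun v : G => orderOf v = 2 ∧ v ∉ M t with hX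
  set Y := (Finset.univ : Finset (G ⧸ M t)).erase (QuotientGroup.mk (1 : G)) with hY
  have hFX : ∀ y, F y = X.filter fun v : G => (QuotientGroup.mk v : G ⧸ M t) = y := fun y => by
    rw [hX, Finset.filter_filter]
  have hfib : ∀ y ∈ Y, (F y).card ≤ jj t := by
    intro y _
    rcases (F y).eq_empty_or_nonempty with h0 | ⟨u, hu⟩
    · simp [h0]
    simp only [F, Finset.mem_filter, Finset.mem_univ, true_and] at hu
    refine le_trans ?_ (S.card_H_le hu.1.2)
    rw [Nat.card_eq_fintype_card, Fintype.card_subtype]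
    refine Finset.card_le_card_of_injOn (fun v : G => u * v) ?_ fun v _ w _ h => mul_left_cancel h
    intro v hv
    have hv' : (orderOf v = 2 ∧ v ∉ M t) ∧ (QuotientGroup.mk v : G ⧸ M t) = y := by simpa [F] using hv
    simp only [Finset.coe_filter, Finset.mem_univ, true_and]
    exact mul_mem_H hu.1.1 hv'.1.1 (QuotientGroup.eq.1 (hu.2.trans hv'.2.symm))
  have hcard : Y.card * jj t ≤ X.card := by
    have h1 : Nat.card {v : G // orderOf v = 2} = jj t + X.card := by
      rw [Nat.card_eq_fintype_card, Fintype.card_subtype, jj, Nat.card_eq_fintype_card, Fintype.card_subtype,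
        ← Finset.card_filter_add_card_filter_not (s := Finset.univ.filter fun v : G => orderOf v = 2)
          (fun v : G => v ∈ M t), Finset.filter_filter, Finset.filter_filter]
      congr 2
      refine Finset.filter_congr fun v _ => ?_
      exact ⟨fun h => ⟨h.1, S.invol_mem h.1 h.2⟩, fun h => ⟨h.1, D_le_M t h.2⟩⟩
    have h2 : Y.card + 1 = (M t).index := by
      rw [hY, Finset.card_erase_of_mem (Finset.mem_univ _), Finset.card_univ, ← Nat.card_eq_fintype_card,
        ← Subgroup.index_eq_card]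
      exact Nat.sub_add_cancel (Nat.one_le_iff_ne_zero.2 Subgroup.index_ne_zero_of_finite)
    rw [S.card_invol, ← h2, mul_add, mul_one, mul_comm (jj t) Y.card] at h1
    omega
  have hsum : ∑ y ∈ Y, (F y).card = ∑ _y ∈ Y, jj t := by
    refine le_antisymm (Finset.sum_le_sum hfib) ?_
    simp only [hFX]
    rw [← Finset.card_eq_sum_card_fiberwise (fun v hv => ?_), Finset.sum_const, smul_eq_mul]
    · exact hcard
    · have hv' : orderOf v = 2 ∧ v ∉ M t := by simpa [hX] using hv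
      exact Finset.mem_erase.2 ⟨mk_one_ne hv'.2, Finset.mem_univ _⟩
  rw [← (Finset.sum_eq_sum_iff_of_le hfib).1 hsum (QuotientGroup.mk g)
    (Finset.mem_erase.2 ⟨mk_one_ne hg, Finset.mem_univ _⟩), Nat.card_eq_fintype_card, Fintype.card_subtype]
  refine congrArg Finset.card (Finset.filter_congr fun v _ => ⟨fun h => ⟨⟨h.1, fun hv => hg ?_⟩,
    (QuotientGroup.eq.2 h.2).symm⟩, fun h => ⟨h.1.1, QuotientGroup.eq.1 h.2.symm⟩⟩)
  have h' := mul_mem hv (inv_mem h.2)
  rwa [mul_inv_rev, inv_inv, ← mul_assoc, mul_inv_cancel, one_mul] at h'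

theorem Data.coset (S : Data G T t) {g : G} (hg : g ∉ M t) :
    ∃ u : G, orderOf u = 2 ∧ u ∉ M t ∧ g⁻¹ * u ∈ M t := by
  have hpos : 0 < jj t := Nat.lt_of_lt_of_le (by norm_num) S.two_le_j
  rw [← S.card_fibre hg, Nat.card_pos_iff] at hpos
  obtain ⟨⟨u, hu, hgu⟩⟩ := hpos.1
  refine ⟨u, hu, fun h => hg ?_, hgu⟩
  have h' := mul_mem h (inv_mem hgu)
  rwa [mul_inv_rev, inv_inv, ← mul_assoc, mul_inv_cancel, one_mul] at h'

/-- The stabiliser of a coset has order `j` and is inverted by its involutions. -/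
theorem Data.H_facts (S : Data G T t) {u : G} (hu : orderOf u = 2) (huM : u ∉ M t) :
    Nat.card (H t u) = jj t ∧ ∀ k ∈ H t u, u * k * u⁻¹ = k⁻¹ := by
  let f : {v : G // orderOf v = 2 ∧ u⁻¹ * v ∈ M t} → H t u := fun v => ⟨u * v.1, mul_mem_H hu v.2.1 v.2.2⟩
  have hf : Function.Injective f := fun v w h => Subtype.ext (mul_left_cancel (congrArg Subtype.val h))
  have h1 : jj t ≤ Nat.card (H t u) := S.card_fibre huM ▸ Nat.card_le_card_of_injective f hf
  have h2 : Nat.card (H t u) = jj t := le_antisymm (S.card_H_le huM) h1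
  have hb : Function.Bijective f :=
    (Nat.bijective_iff_injective_and_card f).2 ⟨hf, by rw [S.card_fibre huM, h2]⟩
  refine ⟨h2, fun k hk => ?_⟩
  obtain ⟨⟨v, hv, hv'⟩, hfv⟩ := hb.2 ⟨k, hk⟩
  have hk' : u * v = k := congrArg Subtype.val hfv
  rw [← hk', mul_inv_rev, invol_inv hu, invol_inv hv, ← mul_assoc, show u * u = 1 by
    rw [← sq, ← hu, pow_orderOf_eq_one], one_mul]

theorem Data.H_nontrivial (S : Data G T t) {u : G} (hu : orderOf u = 2) (huM : u ∉ M t) :
    ∃ k ∈ H t u, k ≠ 1 := by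
  haveI : Nontrivial (H t u) := by
    rw [← Finite.one_lt_card_iff_nontrivial, (S.H_facts hu huM).1]
    exact lt_of_lt_of_le (by norm_num) S.two_le_j
  obtain ⟨k, hk⟩ := exists_ne (1 : H t u)
  exact ⟨k, k.2, fun e => hk (Subtype.ext e)⟩

theorem Data.isComplement_H (S : Data G T t) {u : G} (hu : orderOf u = 2) (huM : u ∉ M t) :
    IsComplement' ((D t).subgroupOf (M t)) ((H t u).subgroupOf (M t)) := by
  refine isComplement'_of_card_mul_and_disjoint ?_ ?_
  · rw [Nat.card_congr (Subgroup.subgroupOfEquivOfLe (D_le_M t)).toEquiv,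
      Nat.card_congr (Subgroup.subgroupOfEquivOfLe (H_le_M t u)).toEquiv,
      (S.H_facts hu huM).1, S.card_M]
  · rw [disjoint_iff, Subgroup.eq_bot_iff_forall]
    intro x hx
    obtain ⟨h1, h2⟩ := Subgroup.mem_inf.1 hx
    exact Subtype.ext (S.H_inf_D huM (Subgroup.mem_subgroupOf.1 h2) (Subgroup.mem_subgroupOf.1 h1))

/-- The complement is its own normaliser in `M`. -/
theorem Data.mem_H_of_normalizes (S : Data G T t) {u : G} (hu : orderOf u = 2) (huM : u ∉ M t) {n : G}
    (hn : n ∈ M t) (hnorm : ∀ k ∈ H t u, n * k * n⁻¹ ∈ H t u) : n ∈ H t u := by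
  obtain ⟨⟨⟨d, hd⟩, ⟨c, hc⟩⟩, hdc⟩ := (S.isComplement_H hu huM).2 ⟨n, hn⟩
  have hdc' : (d : G) * c = n := congrArg Subtype.val hdc
  have hdD : (d : G) ∈ D t := Subgroup.mem_subgroupOf.1 hd
  have hcH : (c : G) ∈ H t u := Subgroup.mem_subgroupOf.1 hc
  obtain ⟨k, hk, hk1⟩ := S.H_nontrivial hu huM
  have h1 : (d : G) * k * (d : G)⁻¹ ∈ H t u := by
    have := hnorm ((c : G)⁻¹ * k * c) (mul_mem (mul_mem (inv_mem hcH) hk) hcH)
    rw [← hdc'] at this
    rwa [show (d : G) * c * ((c : G)⁻¹ * k * c) * ((d : G) * c)⁻¹ = d * k * (d : G)⁻¹ by group] at this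
  have hkM := (mem_H.1 hk).1
  have h2 : (d : G) * k * (d : G)⁻¹ * k⁻¹ ∈ D t := by
    rw [show (d : G) * k * (d : G)⁻¹ * k⁻¹ = d * (k * (d : G)⁻¹ * k⁻¹) by group]
    exact mul_mem hdD ((Subgroup.mem_normalizer_iff.1 hkM _).1 (inv_mem hdD))
  have h3 := S.H_inf_D huM (mul_mem h1 (inv_mem hk)) h2
  by_cases hd1 : (d : G) = 1
  · rw [← hdc', hd1, one_mul]; exact hcH
  · exact absurd (S.H_inf_D huM hk (S.nilCent.mem_of_commute hdD hd1
      (mul_inv_eq_iff_eq_mul.1 (mul_inv_eq_one.1 h3)).symm)) hk1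

theorem Data.H_comm (S : Data G T t) {u : G} (hu : orderOf u = 2) (huM : u ∉ M t) {a b : G}
    (ha : a ∈ H t u) (hb : b ∈ H t u) : a * b = b * a :=
  PrimeOrders.commute_of_inverts (S.H_facts hu huM).2 ha hb

/-- A second coset fixed by the complement is the coset of the inverting involution. -/
theorem Data.fix_unique (S : Data G T t) {u v : G} (hu : orderOf u = 2) (huM : u ∉ M t) (hv : orderOf v = 2)
    (hvM : v ∉ M t) (hle : H t u ≤ H t v) : u⁻¹ * v ∈ M t := by
  have hHeq : H t u = H t v := Subgroup.eq_of_le_of_card_ge hle (by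
    rw [(S.H_facts hu huM).1, (S.H_facts hv hvM).1])
  have hcent : ∀ k ∈ H t u, (u⁻¹ * v) * k * (u⁻¹ * v)⁻¹ = k := by
    intro k hk
    rw [show (u⁻¹ * v) * k * (u⁻¹ * v)⁻¹ = u⁻¹ * (v * k * v⁻¹) * u by group,
      (S.H_facts hv hvM).2 k (hHeq ▸ hk)]
    have := (S.H_facts hu huM).2 k hk
    rw [← this]; group
  by_contra hw
  set w := u⁻¹ * v with hwdef
  obtain ⟨v', hv', hv'M, hwv'⟩ := S.coset hw
  have hle' : H t u ≤ H t v' := by
    intro k hk
    refine mem_H.2 ⟨(mem_H.1 hk).1, ?_⟩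
    have hkw : w⁻¹ * k * w = k := by
      rw [show w⁻¹ * k * w = w⁻¹ * (w * k * w⁻¹) * w by rw [hcent k hk]]
      group
    rw [show v'⁻¹ * k * v' = (w⁻¹ * v')⁻¹ * (w⁻¹ * k * w) * (w⁻¹ * v') by group, hkw]
    exact mul_mem (mul_mem (inv_mem hwv') (mem_H.1 hk).1) hwv'
  have hHeq' : H t u = H t v' := Subgroup.eq_of_le_of_card_ge hle' (by
    rw [(S.H_facts hu huM).1, (S.H_facts hv' hv'M).1])
  have hinv : ∀ k ∈ H t u, (w⁻¹ * v') * k * (w⁻¹ * v')⁻¹ = k⁻¹ := by
    intro k hk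
    rw [show (w⁻¹ * v') * k * (w⁻¹ * v')⁻¹ = w⁻¹ * (v' * k * v'⁻¹) * w by group,
      (S.H_facts hv' hv'M).2 k (hHeq' ▸ hk)]
    have := hcent k⁻¹ (inv_mem hk)
    conv_rhs => rw [show k⁻¹ = w⁻¹ * (w * k⁻¹ * w⁻¹) * w by group, this]
  have hm := S.mem_H_of_normalizes hu huM hwv' fun k hk => by rw [hinv k hk]; exact inv_mem hk
  obtain ⟨k, hk, hk1⟩ := S.H_nontrivial hu huM
  have h1 := hinv k hk
  rw [S.H_comm hu huM hm hk, mul_inv_cancel_right] at h1
  have h2 : k ^ 2 = 1 := by rw [sq]; exact mul_eq_one_iff_eq_inv.2 h1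
  have h3 : orderOf k ∣ jj t := (S.H_facts hu huM).1 ▸ Subgroup.orderOf_dvd_natCard _ hk
  have h4 : orderOf k = 1 := Nat.eq_one_of_dvd_coprimes (Nat.coprime_two_left.2 S.odd_j)
    (orderOf_dvd_of_pow_eq_one h2) h3
  exact hk1 (orderOf_eq_one_iff.1 h4)

/-- `C(t)` is transitive on the cosets other than `M`. -/
theorem Data.transitive (S : Data G T t) {u g : G} (hu : orderOf u = 2) (huM : u ∉ M t) (hg : g ∉ M t) :
    ∃ d ∈ D t, u⁻¹ * d⁻¹ * g ∈ M t := by
  obtain ⟨v, hv, hvM, hgv⟩ := S.coset hg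
  haveI := D_subgroupOf_normal t
  haveI := S.nilp
  haveI : Group.IsSolvable (D t) := inferInstance
  haveI : Group.IsSolvable ((D t).subgroupOf (M t)) :=
    solvable_of_solvable_injective (f := (Subgroup.subgroupOfEquivOfLe (D_le_M t)).toMonoidHom)
      (Subgroup.subgroupOfEquivOfLe (D_le_M t)).injective
  have hcop : (Nat.card ((D t).subgroupOf (M t))).Coprime ((D t).subgroupOf (M t)).index := by
    rw [Nat.card_congr (Subgroup.subgroupOfEquivOfLe (D_le_M t)).toEquiv,
      show ((D t).subgroupOf (M t)).index = (D t).relIndex (M t) from rfl, S.relIndex_eq]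
    exact S.coprime_j
  obtain ⟨m, hm⟩ := Cfsg.Agent.S0001.result ((D t).subgroupOf (M t)) hcop (Or.inl inferInstance)
    ((H t v).subgroupOf (M t)) ((H t u).subgroupOf (M t)) (S.isComplement_H hv hvM) (S.isComplement_H hu huM)
  set v' := (m : G) * v * (m : G)⁻¹ with hv'def
  have hv' : orderOf v' = 2 := by rw [hv'def, orderOf_conj', hv]
  have hv'M : v' ∉ M t := fun h => hvM (by
    have := mul_mem (mul_mem (inv_mem m.2) h) m.2
    rwa [hv'def, show (m : G)⁻¹ * ((m : G) * v * (m : G)⁻¹) * m = v by group] at this)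
  have hle : H t u ≤ H t v' := by
    intro k hk
    have hk' : (⟨k, (mem_H.1 hk).1⟩ : M t) ∈ (H t u).subgroupOf (M t) := Subgroup.mem_subgroupOf.2 hk
    rw [← hm] at hk'
    obtain ⟨c, hc, hck⟩ := hk'
    have hcH : (c : G) ∈ H t v := Subgroup.mem_subgroupOf.1 hc
    have hck' : (m : G) * c * (m : G)⁻¹ = k := congrArg Subtype.val hck
    refine mem_H.2 ⟨(mem_H.1 hk).1, ?_⟩
    rw [← hck', hv'def,
      show ((m : G) * v * (m : G)⁻¹)⁻¹ * ((m : G) * c * (m : G)⁻¹) * ((m : G) * v * (m : G)⁻¹) =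
        m * (v⁻¹ * c * v) * (m : G)⁻¹ by group]
    exact mul_mem (mul_mem m.2 (mem_H.1 hcH).2) (inv_mem m.2)
  have hfix := S.fix_unique hu huM hv' hv'M hle
  have hmM : (m : G)⁻¹ ∈ M t := inv_mem m.2
  obtain ⟨⟨⟨d, hd⟩, ⟨c, hc⟩⟩, hdc⟩ := (S.isComplement_H hu huM).2 ⟨(m : G)⁻¹, hmM⟩
  have hdc' : (d : G) * c = (m : G)⁻¹ := congrArg Subtype.val hdc
  have hcH : (c : G) ∈ H t u := Subgroup.mem_subgroupOf.1 hc
  refine ⟨d, Subgroup.mem_subgroupOf.1 hd, ?_⟩
  have hdeq : (d : G)⁻¹ = c * m := by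
    rw [show (d : G) = (m : G)⁻¹ * (c : G)⁻¹ by rw [← hdc']; group]; group
  rw [hdeq, show u⁻¹ * ((c : G) * m) * g = (u⁻¹ * c * u) * (u⁻¹ * v') * ((m : G) * (g⁻¹ * v)⁻¹) by
    rw [hv'def]; group]
  exact mul_mem (mul_mem (mem_H.1 hcH).2 hfix) (mul_mem m.2 (inv_mem hgv))

/-- The three-point stabiliser is trivial. -/
theorem Data.three_base (S : Data G T t) {u e g : G} (hu : orderOf u = 2) (huM : u ∉ M t) (he : e ∈ D t)
    (he1 : e ≠ 1) (hg : g ∈ H t u) (hge : e⁻¹ * g * e ∈ H t u) : g = 1 := by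
  have hgM := (mem_H.1 hg).1
  have h2 : e⁻¹ * g * e * g⁻¹ ∈ D t := by
    rw [show e⁻¹ * g * e * g⁻¹ = e⁻¹ * (g * e * g⁻¹) by group]
    exact mul_mem (inv_mem he) ((Subgroup.mem_normalizer_iff.1 hgM _).1 he)
  have h3 := S.H_inf_D huM (mul_mem hge (inv_mem hg)) h2
  rw [mul_inv_eq_one] at h3
  refine S.H_inf_D huM hg (S.nilCent.mem_of_commute he he1 ?_)
  calc g * e = e * (e⁻¹ * g * e) := by group
    _ = e * g := by rw [h3]

end CfsgLib.FGS73.TICent
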