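import Mathlib
import Cfsg.Agent.Lib.FGS73.TICentralizersCosets
import Cfsg.Agent.Lib.Zass.Basic
import Cfsg.Agent.Lib.ZassAbelian.Bound
import Cfsg.Agent.S0338
import Cfsg.Agent.S0346
import Cfsg.Agent.S1147

/-!
Nonsolvable groups with TI element centralisers have elementary abelian involution centralisers.
-/

set_option autoImplicit false
set_option linter.style.haveILetI false

open Subgroup MulAction

namespace CfsgLib.FGS73.TICent

universe u

variable {G : Type u} [Group G] [Finite G] {T : Sylow 2 G} {t : G}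

/-- The points: the cosets of `M`. -/
abbrev pt (t g : G) : G ⧸ M t := QuotientGroup.mk g

theorem smul_pt (a g : G) : a • pt t g = pt t (a * g) := rfl

theorem pt_eq {a b : G} : pt t a = pt t b ↔ a⁻¹ * b ∈ M t := QuotientGroup.eq

theorem smul_eq_self {a g : G} : a • pt t g = pt t g ↔ g⁻¹ * a * g ∈ M t := by
  rw [smul_pt, eq_comm, pt_eq, mul_assoc]

theorem smul_base {a : G} : a • pt t 1 = pt t 1 ↔ a ∈ M t := by
  rw [smul_eq_self]; simp

theorem Data.exists_invol_notMem (S : Data G T t) : ∃ v : G, orderOf v = 2 ∧ v ∉ M t := by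
  obtain ⟨v, hv, -, hvD⟩ := S.exists_conj_notMem
  exact ⟨v, hv, fun h => hvD (S.invol_mem hv h)⟩

theorem pt_ne_base {g : G} (hg : g ∉ M t) : pt t g ≠ pt t 1 := mk_one_ne hg

theorem notMem_of_ne_base {g : G} (h : pt t g ≠ pt t 1) : g ∉ M t := fun hg =>
  h (pt_eq.2 (by rw [mul_one]; exact inv_mem hg))

theorem Data.pt_smul_D (S : Data G T t) {v : G} (hv : orderOf v = 2) (hvM : v ∉ M t) {x : G ⧸ M t}
    (hx : x ≠ pt t 1) : ∃ d ∈ D t, d • pt t v = x := by
  obtain ⟨g, rfl⟩ := QuotientGroup.mk_surjective x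
  obtain ⟨d, hd, h⟩ := S.transitive hv hvM (notMem_of_ne_base hx)
  refine ⟨d, hd, ?_⟩
  rw [smul_pt, pt_eq, mul_inv_rev]
  exact h

theorem Data.D_inj (S : Data G T t) {v : G} (hvM : v ∉ M t) {d : G} (hd : d ∈ D t)
    (h : d • pt t v = pt t v) : d = 1 :=
  S.eq_one_of_fixes hd hvM (smul_eq_self.1 h)

theorem Data.three (S : Data G T t) {v : G} (hv : orderOf v = 2) (hvM : v ∉ M t) (g : G)
    (a b c : G ⧸ M t) (hab : a ≠ b) (hbc : b ≠ c) (hac : a ≠ c) (ha : g • a = a) (hb : g • b = b)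
    (hc : g • c = c) : g = 1 := by
  obtain ⟨α, rfl⟩ := QuotientGroup.mk_surjective a
  have hα : ∀ x : G ⧸ M t, pt t α ≠ x → α⁻¹ • x ≠ pt t 1 := by
    intro x hx e
    apply hx
    rw [← smul_inv_smul α x, e, smul_pt, mul_one]
  obtain ⟨d, hd, hdb⟩ := S.pt_smul_D hv hvM (hα b hab)
  obtain ⟨d', hd', hdc⟩ := S.pt_smul_D hv hvM (hα c hac)
  set k := d⁻¹ * (α⁻¹ * g * α) * d with hk
  have hdb' : (α * d) • pt t v = b := by rw [mul_smul, hdb, smul_inv_smul]
  have hdc' : (α * d') • pt t v = c := by rw [mul_smul, hdc, smul_inv_smul]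
  have hbase : ∀ e : G, e ∈ M t → (α * e) • pt t 1 = pt t α := by
    intro e he
    rw [mul_smul, smul_base.2 he, smul_pt, mul_one]
  have hfix : ∀ (w : G) (x y : G ⧸ M t), w • x = y → g • y = y → (w⁻¹ * g * w) • x = x := by
    intro w x y hw hy
    rw [mul_smul, mul_smul, hw, hy, ← hw, inv_smul_smul]
  have hkeq : k = (α * d)⁻¹ * g * (α * d) := by rw [hk]; group
  have hkM : k ∈ M t := smul_base.1 (hkeq ▸ hfix _ _ _ (hbase d (D_le_M t hd)) ha)
  have hkH : k ∈ H t v := mem_H.2 ⟨hkM, smul_eq_self.1 (hkeq ▸ hfix _ _ _ hdb' hb)⟩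
  have hne : d⁻¹ * d' ≠ 1 := fun e => hbc (by rw [← hdb', ← hdc', inv_mul_eq_one.1 e])
  have hk2 : (d⁻¹ * d')⁻¹ * k * (d⁻¹ * d') = (α * d')⁻¹ * g * (α * d') := by rw [hk]; group
  have hk2H : (d⁻¹ * d')⁻¹ * k * (d⁻¹ * d') ∈ H t v := by
    rw [hk2]
    exact mem_H.2 ⟨smul_base.1 (hfix _ _ _ (hbase d' (D_le_M t hd')) ha), smul_eq_self.1 (hfix _ _ _ hdc' hc)⟩
  have hk1 : k = 1 := S.three_base hv hvM (mul_mem (inv_mem hd) hd') hne hkH hk2H
  rw [hkeq] at hk1
  calc g = (α * d) * ((α * d)⁻¹ * g * (α * d)) * (α * d)⁻¹ := by group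
    _ = 1 := by rw [hk1]; group

theorem Data.exists_pair (S : Data G T t) {v : G} (hv : orderOf v = 2) (hvM : v ∉ M t) {a b : G ⧸ M t}
    (hab : a ≠ b) : ∃ g : G, g • pt t 1 = a ∧ g • pt t v = b := by
  obtain ⟨α, rfl⟩ := QuotientGroup.mk_surjective a
  have h1 : α⁻¹ • b ≠ pt t 1 := fun e => hab (by
    rw [← smul_inv_smul α b, e, smul_pt, mul_one])
  obtain ⟨d, hd, hdb⟩ := S.pt_smul_D hv hvM h1
  exact ⟨α * d, by rw [mul_smul, smul_base.2 (D_le_M t hd), smul_pt, mul_one],
    by rw [mul_smul, hdb, smul_inv_smul]⟩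

theorem Data.card_points (S : Data G T t) {v : G} (hv : orderOf v = 2) (hvM : v ∉ M t) :
    Nat.card (G ⧸ M t) = Nat.card (D t) + 1 := by
  classical
  haveI := Fintype.ofFinite (G ⧸ M t)
  have e : Nat.card (D t) = Nat.card {x : G ⧸ M t // x ≠ pt t 1} := by
    refine Nat.card_congr (Equiv.ofBijective (fun d : D t => ⟨(d : G) • pt t v, fun h => ?_⟩) ⟨?_, ?_⟩)
    · have h1 : pt t v = (d : G)⁻¹ • pt t 1 := by rw [← h, inv_smul_smul]
      rw [smul_base.2 (inv_mem (D_le_M t d.2))] at h1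
      exact pt_ne_base hvM h1
    · intro d d' h
      have h' : (d : G) • pt t v = (d' : G) • pt t v := congrArg Subtype.val h
      have h1 := S.D_inj hvM (mul_mem (inv_mem d'.2) d.2) (by rw [mul_smul, h', inv_smul_smul])
      exact Subtype.ext (inv_mul_eq_one.1 h1).symm
    · intro x
      obtain ⟨d, hd, h⟩ := S.pt_smul_D hv hvM x.2
      exact ⟨⟨d, hd⟩, Subtype.ext h⟩
  rw [e, Nat.card_eq_fintype_card, Nat.card_eq_fintype_card, Fintype.card_subtype_compl,
    Fintype.card_subtype_eq]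
  have : 0 < Fintype.card (G ⧸ M t) := Fintype.card_pos
  omega

theorem Data.zassenhaus (S : Data G T t) : Cfsg.IsZassenhausGroup G (G ⧸ M t) := by
  obtain ⟨v, hv, hvM⟩ := S.exists_invol_notMem
  refine ⟨⟨fun {g g'} h => ?_⟩, ?_, fun g a b c hab hbc hac => S.three hv hvM g a b c hab hbc hac, ?_, ?_⟩
  · have hfix : ∀ x : G ⧸ M t, (g'⁻¹ * g) • x = x := fun x => by rw [mul_smul, h, inv_smul_smul]
    have htv : t * v ∉ M t := fun h' => hvM (by
      have := mul_mem (inv_mem (D_le_M t S.t_mem)) h'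
      rwa [inv_mul_cancel_left] at this)
    have h1 := S.three hv hvM (g'⁻¹ * g) (pt t 1) (pt t v) (pt t (t * v)) (pt_ne_base hvM).symm
      (fun e => S.ne_one (S.D_inj hvM S.t_mem ((smul_pt t v).trans e.symm)))
      (pt_ne_base htv).symm (hfix _) (hfix _) (hfix _)
    exact (inv_mul_eq_one.1 h1).symm
  · rw [MulAction.is_two_pretransitive_iff]
    intro a b c d hab hcd
    obtain ⟨g, hg1, hg2⟩ := S.exists_pair hv hvM hab
    obtain ⟨g', hg1', hg2'⟩ := S.exists_pair hv hvM hcd
    exact ⟨g' * g⁻¹, by rw [mul_smul, ← hg1, inv_smul_smul, hg1'], by rw [mul_smul, ← hg2, inv_smul_smul, hg2']⟩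
  · obtain ⟨k, hk, hk1⟩ := S.H_nontrivial hv hvM
    exact ⟨k, hk1, pt t 1, pt t v, (pt_ne_base hvM).symm, smul_base.2 (mem_H.1 hk).1,
      smul_eq_self.2 (mem_H.1 hk).2⟩
  · intro N hN htr
    by_contra hall
    push Not at hall
    haveI := hN
    haveI := htr
    have hcard : Nat.card N = Nat.card (D t) + 1 := by
      have h0 := @MulAction.index_stabilizer_of_transitive N _ _ _ (pt t 1) htr
      have h1 : (⊥ : Subgroup N).index = Nat.card (G ⧸ M t) :=
        (congrArg Subgroup.index (hall (pt t 1))).symm.trans h0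
      rw [← S.card_points hv hvM, ← h1, Subgroup.index_bot]
    have hodd : Odd (Nat.card N) := by
      rw [hcard]
      exact (even_iff_two_dvd.2 S.even_D).add_one
    haveI := odd_solvable S.tic N hodd
    have hN1 := eq_bot_of_solvable_normal S.tic S.ns N
    rw [hN1, Subgroup.card_bot] at hcard
    have := Nat.card_pos (α := D t)
    omega

theorem Data.isKernel (S : Data G T t) : Zass.Pre.IsKernel (pt t 1) (D t) := by
  obtain ⟨v, hv, hvM⟩ := S.exists_invol_notMem
  haveI := Fintype.ofFinite (G ⧸ M t)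
  have hP := Zass.Pre.of S.zassenhaus
  obtain ⟨K, hK⟩ := hP.exists_kernel (pt t 1)
  have hle : D t ≤ K := by
    intro d hd
    by_cases hd1 : d = 1
    · exact hd1 ▸ K.one_mem
    refine hK.mem d (smul_base.2 (D_le_M t hd)) fun c hc => ?_
    by_contra hcne
    obtain ⟨g, rfl⟩ := QuotientGroup.mk_surjective c
    exact hd1 (S.D_inj (notMem_of_ne_base hcne) hd hc)
  have h1 := hK.card hP
  have h2 := S.card_points hv hvM
  rw [Nat.card_eq_fintype_card (α := G ⧸ M t)] at h2
  have hKD : D t = K := Subgroup.eq_of_le_of_card_ge hle (by omega)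
  rw [hKD]
  exact hK

theorem Data.pair_stabilizer (v : G) :
    stabilizer G (pt t 1) ⊓ stabilizer G (pt t v) = H t v := by
  ext k
  rw [Subgroup.mem_inf, mem_stabilizer_iff, mem_stabilizer_iff, smul_base, smul_eq_self, mem_H]

/-- The involutions of `C(t)` together with the identity. -/
def Data.omega (S : Data G T t) : Subgroup G where
  carrier := {x | x ∈ D t ∧ x * x = 1}
  one_mem' := ⟨one_mem _, mul_one 1⟩
  mul_mem' := by
    rintro a b ⟨ha, ha2⟩ ⟨hb, hb2⟩
    refine ⟨mul_mem ha hb, ?_⟩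
    have hab : a * b = b * a := by
      by_cases ha1 : a = 1
      · simp [ha1]
      have hao : orderOf a = 2 := orderOf_eq_prime (by rw [sq, ha2]) ha1
      have := (S.centralizer_eq hao ha).ge hb
      exact (mem_centralizer_singleton_iff.1 this).symm
    calc a * b * (a * b) = a * (b * a) * b := by group
      _ = (a * a) * (b * b) := by rw [← hab]; group
      _ = 1 := by rw [ha2, hb2, mul_one]
  inv_mem' := by
    rintro a ⟨ha, ha2⟩
    exact ⟨inv_mem ha, by rw [← mul_inv_rev, ha2, inv_one]⟩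

theorem Data.card_omega (S : Data G T t) : Nat.card S.omega = jj t + 1 := by
  classical
  haveI := Fintype.ofFinite S.omega
  have e : {x : S.omega // x ≠ 1} ≃ {u : G // orderOf u = 2 ∧ u ∈ D t} :=
    { toFun := fun x => ⟨x.1.1, orderOf_eq_prime (by rw [sq]; exact x.1.2.2) (fun e => x.2 (Subtype.ext e)),
        x.1.2.1⟩
      invFun := fun u => ⟨⟨u.1, u.2.2, by
        have h := pow_orderOf_eq_one u.1
        rwa [u.2.1, sq] at h⟩, fun e => by
        have h := congrArg Subtype.val e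
        have h2 := u.2.1
        simp only [OneMemClass.coe_one] at h
        rw [h, orderOf_one] at h2
        exact absurd h2 (by norm_num)⟩
      left_inv := fun x => rfl
      right_inv := fun u => rfl }
  have hpos : 0 < Fintype.card S.omega := Fintype.card_pos
  rw [jj, ← Nat.card_congr e, Nat.card_eq_fintype_card, Nat.card_eq_fintype_card, Fintype.card_subtype_compl,
    Fintype.card_subtype_eq]
  omega

/-- `C(t)` is abelian. -/
theorem Data.D_comm (S : Data G T t) : ∀ x ∈ D t, ∀ y ∈ D t, x * y = y * x := by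
  classical
  by_contra hna
  push Not at hna
  obtain ⟨x, hx, y, hy, hxy⟩ := hna
  obtain ⟨v, hv, hvM⟩ := S.exists_invol_notMem
  haveI := Fintype.ofFinite (G ⧸ M t)
  have hZ := S.zassenhaus
  have hcard := S.card_points hv hvM
  have hodd : Odd (Fintype.card (G ⧸ M t)) := by
    rw [← Nat.card_eq_fintype_card, hcard]
    exact (even_iff_two_dvd.2 S.even_D).add_one
  haveI := Cfsg.Agent.S0338.result hZ hodd
  have hpp := Cfsg.Agent.S0346.result hZ
  rw [← Nat.card_eq_fintype_card, hcard, Nat.add_sub_cancel] at hpp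
  obtain ⟨p, l, hp, hl, hpl⟩ := (isPrimePow_nat_iff _).1 hpp
  obtain rfl : p = 2 := ((Nat.prime_dvd_prime_iff_eq Nat.prime_two hp).1
    (Nat.prime_two.dvd_of_dvd_pow (hpl.symm ▸ S.even_D))).symm
  have hK := S.isKernel
  have hD2 : IsPGroup 2 (D t) := IsPGroup.of_card hpl.symm
  obtain ⟨n, -, hn, hN, -, hj, -⟩ := Cfsg.Agent.S1147.result hZ (pt_ne_base hvM).symm (D t)
    (fun d hd => mem_stabilizer_iff.2 (hK.le d hd))
    (fun g hg d hd => hK.conj_mem g (mem_stabilizer_iff.1 hg) d hd)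
    (fun c d hc hd => by
      obtain ⟨k, hk, hkd⟩ := hK.regular c d hc hd
      exact ⟨⟨k, hk⟩, hkd, fun k' hk' => Subtype.ext (hK.inj hc k'.2 hk (hk'.trans hkd.symm))⟩)
    hD2 ⟨x, hx, y, hy, hxy⟩
  have hjn : jj t = 2 ^ n - 1 := by
    rw [← hj, Data.pair_stabilizer, (S.H_facts hv hvM).1]
  rw [hcard] at hN
  have hDn : Nat.card (D t) = 2 ^ (2 * n) := by omega
  -- the centraliser of `x`
  set C := centralizer ({x} : Set G) with hC
  have hx1 : x ≠ 1 := fun e => hxy (by rw [e, one_mul, mul_one])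
  have hCD : C ≤ D t := S.nilCent.centralizer_le x hx hx1
  have hMN : M t ≤ normalizer (C : Set G) := by
    intro g hg
    have hJ : g * t * g⁻¹ ∈ D t := (Subgroup.mem_normalizer_iff.1 hg t).1 S.t_mem
    refine key S.tic S.ne_one (mem_centralizer_singleton_iff.1 hx).symm ?_
    have := (S.centralizer_eq (by rw [orderOf_conj', S.ord]) hJ).ge hx
    exact (mem_centralizer_singleton_iff.1 this).symm
  have hxΩ : x ∉ S.omega := fun h => by
    have hxo : orderOf x = 2 := orderOf_eq_prime (by rw [sq]; exact h.2) hx1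
    have := (S.centralizer_eq hxo hx).ge hy
    exact hxy (mem_centralizer_singleton_iff.1 this).symm
  have hΩC : S.omega ≤ C := by
    intro w hw
    by_cases hw1 : w = 1
    · exact hw1 ▸ C.one_mem
    have hwo : orderOf w = 2 := orderOf_eq_prime (by rw [sq]; exact hw.2) hw1
    have := (S.centralizer_eq hwo hw.1).ge hx
    exact mem_centralizer_singleton_iff.2 (mem_centralizer_singleton_iff.1 this).symm
  obtain ⟨a, ha⟩ := (IsPGroup.iff_card (p := 2)).1 (hD2.to_le hCD)
  have han : n < a := by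
    have h1 : Nat.card S.omega < Nat.card C := by
      refine lt_of_le_of_ne (Subgroup.card_le_of_le hΩC) fun e => hxΩ ?_
      rw [Subgroup.eq_of_le_of_card_ge hΩC e.ge]
      exact mem_centralizer_singleton_iff.2 rfl
    rw [S.card_omega, hjn, ha, Nat.sub_add_cancel Nat.one_le_two_pow] at h1
    exact (Nat.pow_lt_pow_iff_right (by norm_num)).1 h1
  have ha2n : a < 2 * n := by
    have h1 : Nat.card C < Nat.card (D t) := by
      refine lt_of_le_of_ne (Subgroup.card_le_of_le hCD) fun e => hxy ?_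
      have := (Subgroup.eq_of_le_of_card_ge hCD e.ge).ge hy
      exact (mem_centralizer_singleton_iff.1 this).symm
    rw [ha, hDn] at h1
    exact (Nat.pow_lt_pow_iff_right (by norm_num)).1 h1
  -- the complement acts freely on the nonidentity elements of `C`
  let X := {c : G // c ∈ C ∧ c ≠ 1}
  let act : MulAction (H t v) X :=
    { smul := fun k c => ⟨(k : G) * c.1 * (k : G)⁻¹,
        (Subgroup.mem_normalizer_iff.1 (hMN (H_le_M t v k.2)) _).1 c.2.1,
        fun e => c.2.2 (conj_eq_one_iff.1 e)⟩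
      one_smul := fun c => Subtype.ext (by
        show ((1 : H t v) : G) * c.1 * ((1 : H t v) : G)⁻¹ = c.1
        simp)
      mul_smul := fun k k' c => Subtype.ext (by
        show ((k * k' : H t v) : G) * c.1 * ((k * k' : H t v) : G)⁻¹ =
          (k : G) * ((k' : G) * c.1 * (k' : G)⁻¹) * (k : G)⁻¹
        rw [Subgroup.coe_mul]; group) }
  letI := act
  have hfree : ∀ c : X, MulAction.stabilizer (H t v) c = ⊥ := by
    intro c
    rw [Subgroup.eq_bot_iff_forall]
    intro k hk
    have h1 : (k : G) * c.1 * (k : G)⁻¹ = c.1 := congrArg Subtype.val hk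
    exact Subtype.ext (S.H_inf_D hvM k.2
      (S.nilCent.mem_of_commute (hCD c.2.1) c.2.2 (mul_inv_eq_iff_eq_mul.1 h1)))
  have hX := Nat.card_congr (MulAction.selfEquivOrbitsQuotientProd hfree)
  rw [Nat.card_prod, (S.H_facts hv hvM).1, hjn] at hX
  have hXc : Nat.card X = 2 ^ a - 1 := by
    haveI := Fintype.ofFinite C
    have e : X ≃ {c : C // c ≠ 1} :=
      { toFun := fun c => ⟨⟨c.1, c.2.1⟩, fun e => c.2.2 (congrArg Subtype.val e)⟩
        invFun := fun c => ⟨c.1.1, c.1.2, fun e => c.2 (Subtype.ext e)⟩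
        left_inv := fun c => rfl
        right_inv := fun c => rfl }
    rw [Nat.card_congr e, Nat.card_eq_fintype_card, Fintype.card_subtype_compl, Fintype.card_subtype_eq,
      ← Nat.card_eq_fintype_card, ha]
  rw [hXc] at hX
  obtain ⟨b, rfl⟩ : ∃ b, a = n + b := ⟨a - n, by omega⟩
  have hdvd : 2 ^ n - 1 ∣ 2 ^ b - 1 := by
    have h1 : 2 ^ n - 1 ∣ 2 ^ (n + b) - 1 := hX ▸ dvd_mul_left _ _
    have h2 : 2 ^ (n + b) - 1 = (2 ^ n - 1) * 2 ^ b + (2 ^ b - 1) := by
      rw [pow_add, Nat.sub_mul, one_mul]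
      have := Nat.one_le_two_pow (n := b)
      have : 2 ^ b ≤ 2 ^ n * 2 ^ b := Nat.le_mul_of_pos_left _ (Nat.two_pow_pos n)
      omega
    rw [h2] at h1
    exact (Nat.dvd_add_right (dvd_mul_right _ _)).1 h1
  have hb1 : 2 ≤ 2 ^ b := le_self_pow₀ (by norm_num : (1:ℕ) ≤ 2) (by omega) |>.trans_eq' (by norm_num)
  have hbn : 2 ^ b < 2 ^ n := Nat.pow_lt_pow_right (by norm_num) (by omega)
  have := Nat.le_of_dvd (by omega) hdvd
  omega

/-- `C(t)` is elementary abelian. -/
theorem Data.D_sq (S : Data G T t) : ∀ x ∈ D t, x ^ 2 = 1 := by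
  classical
  obtain ⟨v, hv, hvM⟩ := S.exists_invol_notMem
  haveI := Fintype.ofFinite (G ⧸ M t)
  have hodd : Odd (Nat.card ↥(stabilizer G (pt t 1) ⊓ stabilizer G (pt t v))) := by
    rw [Data.pair_stabilizer, (S.H_facts hv hvM).1]
    exact S.odd_j
  have h1 := ZassAbelian.card_sub_two_le S.zassenhaus (pt_ne_base hvM).symm S.isKernel S.D_comm hodd
  rw [Data.pair_stabilizer, (S.H_facts hv hvM).1, ← Nat.card_eq_fintype_card, S.card_points hv hvM] at h1
  have hle : S.omega ≤ D t := fun x hx => hx.1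
  have hd := Subgroup.card_dvd_of_le hle
  rw [S.card_omega] at hd
  have heq : Nat.card (D t) = jj t + 1 := by
    obtain ⟨c, hc⟩ := hd
    rcases c with _ | _ | c
    · have := Nat.card_pos (α := D t); omega
    · omega
    · exfalso; rw [hc] at h1; ring_nf at h1; omega
  have hD : S.omega = D t := Subgroup.eq_of_le_of_card_ge hle (by rw [heq, S.card_omega])
  intro x hx
  rw [← hD] at hx
  rw [sq]
  exact hx.2

theorem Data.T_eq (S : Data G T t) : (T : Subgroup G) = D t :=
  (T.is_maximal' (fun x => ⟨1, Subtype.ext (by simpa using S.D_sq x x.2)⟩) S.T_le).symm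

end CfsgLib.FGS73.TICent
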