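import Mathlib

/-!
Generators of a finite group of upper unitriangular matrices over `ZMod p`: at most `r ^ 2 / 4`.
-/

set_option autoImplicit false
set_option linter.style.haveILetI false

namespace CfsgLib.FGS73.Unipotent

open Subgroup
open scoped commutatorElement

/-- A set of increasing pairs with no composite pair has at most `#V ^ 2 / 4` members. -/
theorem card_le_of_no_composite {r : ℕ} (S : Finset (Fin r × Fin r)) (hlt : ∀ e ∈ S, e.1 < e.2)
    (hfree : ∀ i l j : Fin r, (i, l) ∈ S → (l, j) ∈ S → (i, j) ∉ S) :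
    ∀ (n : ℕ) (V : Finset (Fin r)), V.card = n → (S.filter fun e => e.1 ∈ V ∧ e.2 ∈ V).card ≤ n * n / 4 := by
  classical
  intro n
  induction n using Nat.strong_induction_on with
  | _ n ih =>
  intro V hV
  rcases (S.filter fun e => e.1 ∈ V ∧ e.2 ∈ V).eq_empty_or_nonempty with he | ⟨⟨a, b⟩, hab⟩
  · rw [he]; simp
  rw [Finset.mem_filter] at hab
  obtain ⟨habS, haV, hbV⟩ := hab
  have hne : a ≠ b := (hlt _ habS).ne
  set V' := (V.erase a).erase b with hV'
  have hb' : b ∈ V.erase a := Finset.mem_erase.2 ⟨hne.symm, hbV⟩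
  have hc' : V'.card + 2 = n := by
    rw [hV', Finset.card_erase_of_mem hb', Finset.card_erase_of_mem haV, hV]
    have h1 : 1 < V.card := Finset.one_lt_card.2 ⟨a, haV, b, hbV, hne⟩
    omega
  set R := S.filter fun e => (e.1 ∈ V ∧ e.2 ∈ V) ∧ e ≠ (a, b) ∧ ¬ (e.1 ∈ V' ∧ e.2 ∈ V') with hR
  have hsub : (S.filter fun e => e.1 ∈ V ∧ e.2 ∈ V) ⊆ insert (a, b) ((S.filter fun e => e.1 ∈ V' ∧ e.2 ∈ V') ∪ R) := by
    intro e he
    rw [Finset.mem_filter] at he
    simp only [hR, Finset.mem_insert, Finset.mem_union, Finset.mem_filter]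
    tauto
  have hR' : R.card ≤ V'.card := by
    refine Finset.card_le_card_of_injOn (fun e => if e.1 = a ∨ e.1 = b then e.2 else e.1) ?_ ?_
    · intro e he
      simp only [hR, Finset.coe_filter, Set.mem_ofPred_eq] at he
      obtain ⟨heS, ⟨h1, h2⟩, hne', hnot⟩ := he
      have := hlt e heS
      have hinV : ∀ v ∈ V, v ≠ a → v ≠ b → v ∈ V' := fun v hv h h' =>
        Finset.mem_erase.2 ⟨h', Finset.mem_erase.2 ⟨h, hv⟩⟩
      rw [Finset.mem_coe]
      dsimp only
      split_ifs with h
      · refine hinV _ h2 ?_ ?_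
        · intro e2a
          rcases h with h | h
          · rw [h, e2a] at this; exact lt_irrefl _ this
          · rw [h, e2a] at this; exact lt_asymm this (hlt _ habS)
        · intro e2b
          rcases h with h | h
          · exact hne' (Prod.ext h e2b)
          · rw [h, e2b] at this; exact lt_irrefl _ this
      · push Not at h; exact hinV _ h1 h.1 h.2
    · intro e he e' he' heq
      simp only [hR, Finset.coe_filter, Set.mem_ofPred_eq] at he he'
      obtain ⟨heS, ⟨h1, h2⟩, hne1, hnot⟩ := he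
      obtain ⟨heS', ⟨h1', h2'⟩, hne2, hnot'⟩ := he'
      have t1 := hlt e heS
      have t2 := hlt e' heS'
      obtain ⟨u, v⟩ := e
      obtain ⟨u', v'⟩ := e'
      simp only at *
      have hinV : ∀ x ∈ V, x ∉ V' → x = a ∨ x = b := fun x hx hxn => by
        by_contra hh; push Not at hh
        exact hxn (Finset.mem_erase.2 ⟨hh.2, Finset.mem_erase.2 ⟨hh.1, hx⟩⟩)
      by_cases hu : u = a ∨ u = b <;> by_cases hu' : u' = a ∨ u' = b <;> simp only [hu, hu', if_true, if_false] at heq
      · subst heq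
        rcases hu with rfl | rfl <;> rcases hu' with rfl | rfl
        · rfl
        · exact absurd heS (hfree u u' v habS heS')
        · exact absurd heS' (hfree u' u v habS heS)
        · rfl
      · subst heq
        have hv' : v' = a ∨ v' = b := hinV _ h2' fun hv'V => hnot' ⟨by
          refine Finset.mem_erase.2 ⟨?_, Finset.mem_erase.2 ⟨?_, h1'⟩⟩ <;> intro hh <;> exact hu' (by simp [hh]), hv'V⟩
        rcases hu with rfl | rfl <;> rcases hv' with rfl | rfl
        · exact absurd t2 (lt_asymm t1)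
        · exact absurd habS (hfree u v v' heS heS')
        · exact absurd (hlt _ habS) (lt_asymm (t1.trans t2))
        · exact absurd t2 (lt_asymm t1)
      · subst heq
        have hv : v = a ∨ v = b := hinV _ h2 fun hvV => hnot ⟨by
          refine Finset.mem_erase.2 ⟨?_, Finset.mem_erase.2 ⟨?_, h1⟩⟩ <;> intro hh <;> exact hu (by simp [hh]), hvV⟩
        rcases hu' with rfl | rfl <;> rcases hv with rfl | rfl
        · exact absurd t2 (lt_asymm t1)
        · exact absurd habS (hfree u' u v heS' heS)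
        · exact absurd (hlt _ habS) (lt_asymm (t2.trans t1))
        · exact absurd t2 (lt_asymm t1)
      · subst heq
        have hv : v = a ∨ v = b := hinV _ h2 fun hvV => hnot ⟨by
          refine Finset.mem_erase.2 ⟨?_, Finset.mem_erase.2 ⟨?_, h1⟩⟩ <;> intro hh <;> exact hu (by simp [hh]), hvV⟩
        have hv' : v' = a ∨ v' = b := hinV _ h2' fun hv'V => hnot' ⟨by
          refine Finset.mem_erase.2 ⟨?_, Finset.mem_erase.2 ⟨?_, h1'⟩⟩ <;> intro hh <;> exact hu' (by simp [hh]), hv'V⟩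
        rcases hv with rfl | rfl <;> rcases hv' with rfl | rfl
        · rfl
        · exact absurd heS' (hfree u v v' heS habS)
        · exact absurd heS (hfree u v' v heS' habS)
        · rfl
  have hmain := (Finset.card_le_card hsub).trans ((Finset.card_insert_le _ _).trans
    (Nat.add_le_add_right (Finset.card_union_le _ _) 1))
  have hrec := ih V'.card (by omega) V' rfl
  refine hmain.trans ?_
  rw [Nat.le_div_iff_mul_le (by norm_num : 0 < 4)] at hrec ⊢
  rw [← hc']
  nlinarith

/-- Weight of a position. -/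
def wt {r : ℕ} (i j : Fin r) : ℕ := 2 ^ (j : ℕ) - 2 ^ (i : ℕ)

theorem wt_add {r : ℕ} {i l j : Fin r} (h1 : i < l) (h2 : l < j) : wt i l + wt l j = wt i j := by
  have a1 : 2 ^ (i : ℕ) ≤ 2 ^ (l : ℕ) := Nat.pow_le_pow_right two_pos h1.le
  have a2 : 2 ^ (l : ℕ) ≤ 2 ^ (j : ℕ) := Nat.pow_le_pow_right two_pos h2.le
  unfold wt; omega

theorem wt_pos {r : ℕ} {i j : Fin r} (h : i < j) : 0 < wt i j := by
  have a1 : 2 ^ (i : ℕ) < 2 ^ (j : ℕ) := Nat.pow_lt_pow_right one_lt_two h
  unfold wt; omega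

theorem two_pow_add_inj {i j m l : ℕ} (hij : i < j) (hml : m < l) (h : 2 ^ j + 2 ^ m = 2 ^ l + 2 ^ i) :
    i = m ∧ j = l := by
  have key : ∀ {i j m l : ℕ}, i < j → m < l → i < m → 2 ^ j + 2 ^ m ≠ 2 ^ l + 2 ^ i := by
    intro i j m l hij hml him he
    have d1 : 2 ^ (i + 1) ∣ 2 ^ j + 2 ^ m := dvd_add (pow_dvd_pow 2 hij) (pow_dvd_pow 2 him)
    have d2 : 2 ^ (i + 1) ∣ 2 ^ l := pow_dvd_pow 2 (by omega)
    have d3 : 2 ^ (i + 1) ∣ 2 ^ i := (Nat.dvd_add_right d2).1 (he ▸ d1)
    exact absurd (Nat.le_of_dvd (Nat.two_pow_pos i) d3) (not_le.2 (Nat.pow_lt_pow_right one_lt_two (Nat.lt_succ_self i)))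
  rcases lt_trichotomy i m with him | him | him
  · exact absurd h (key hij hml him)
  · subst him
    exact ⟨rfl, Nat.pow_right_injective (le_refl 2) (show 2 ^ j = 2 ^ l by omega)⟩
  · exact absurd h.symm (key hml hij him)

theorem wt_inj {r : ℕ} {i j m l : Fin r} (h1 : i < j) (h2 : m < l) (h : wt i j = wt m l) : i = m ∧ j = l := by
  have a1 : 2 ^ (i : ℕ) < 2 ^ (j : ℕ) := Nat.pow_lt_pow_right one_lt_two h1
  have a2 : 2 ^ (m : ℕ) < 2 ^ (l : ℕ) := Nat.pow_lt_pow_right one_lt_two h2
  unfold wt at h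
  obtain ⟨e1, e2⟩ := two_pow_add_inj h1 h2 (by omega)
  exact ⟨Fin.ext e1, Fin.ext e2⟩

variable {p r : ℕ} {H : Type*} [Group H] (ρ : H →* Matrix (Fin r) (Fin r) (ZMod p))
  (hdiag : ∀ (h : H) (i : Fin r), ρ h i i = 1) (hlow : ∀ (h : H) (i j : Fin r), j < i → ρ h i j = 0)

/-- All entries of weight less than `w` vanish. -/
def Low (h : H) (w : ℕ) : Prop := ∀ i j : Fin r, i < j → wt i j < w → ρ h i j = 0

include hdiag hlow in
theorem entry_mul (g h : H) {i j : Fin r} (hij : i < j) :
    ρ (g * h) i j = ρ g i j + ρ h i j + ∑ l ∈ Finset.univ.filter (fun l => i < l ∧ l < j), ρ g i l * ρ h l j := by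
  classical
  rw [map_mul, Matrix.mul_apply]
  have h1 : (Finset.univ : Finset (Fin r)) =
      insert i (insert j (Finset.univ.filter (fun l => i < l ∧ l < j))) ∪ Finset.univ.filter (fun l => l < i ∨ j < l) := by
    ext l
    simp only [Finset.mem_univ, Finset.mem_union, Finset.mem_insert, Finset.mem_filter, true_and, true_iff]
    rcases lt_trichotomy l i with a | a | a
    · exact Or.inr (Or.inl a)
    · exact Or.inl (Or.inl a)
    · rcases lt_trichotomy l j with b | b | b
      · exact Or.inl (Or.inr (Or.inr ⟨a, b⟩))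
      · exact Or.inl (Or.inr (Or.inl b))
      · exact Or.inr (Or.inr b)
  have hd : Disjoint (insert i (insert j (Finset.univ.filter (fun l => i < l ∧ l < j))))
      (Finset.univ.filter (fun l => l < i ∨ j < l)) := by
    rw [Finset.disjoint_left]
    intro l hl hl'
    simp only [Finset.mem_insert, Finset.mem_filter, Finset.mem_univ, true_and] at hl hl'
    rcases hl with rfl | rfl | ⟨a, b⟩
    · rcases hl' with c | c
      · exact lt_irrefl _ c
      · exact lt_asymm hij c
    · rcases hl' with c | c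
      · exact lt_asymm hij c
      · exact lt_irrefl _ c
    · rcases hl' with c | c
      · exact lt_asymm a c
      · exact lt_asymm b c
  conv_lhs => rw [h1]
  rw [Finset.sum_union hd]
  have hz : ∑ l ∈ Finset.univ.filter (fun l => l < i ∨ j < l), ρ g i l * ρ h l j = 0 := by
    refine Finset.sum_eq_zero fun l hl => ?_
    rcases (Finset.mem_filter.1 hl).2 with c | c
    · rw [hlow g i l c, zero_mul]
    · rw [hlow h l j c, mul_zero]
  rw [hz, add_zero, Finset.sum_insert, Finset.sum_insert, hdiag g i, hdiag h j]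
  · ring
  · simp
  · simp [hij.ne]

include hdiag hlow in
theorem entry_add {g h : H} {w : ℕ} (hg : Low ρ g w) {i j : Fin r} (hij : i < j) (hw : wt i j ≤ w) :
    ρ (g * h) i j = ρ g i j + ρ h i j := by
  rw [entry_mul ρ hdiag hlow g h hij, add_eq_left]
  refine Finset.sum_eq_zero fun l hl => ?_
  obtain ⟨h1, h2⟩ := (Finset.mem_filter.1 hl).2
  have := wt_add h1 h2
  have := wt_pos h2
  rw [hg i l h1 (by omega), zero_mul]

include hdiag hlow in
theorem low_mul {g h : H} {w : ℕ} (hg : Low ρ g w) (hh : Low ρ h w) : Low ρ (g * h) w := fun i j hij hw => by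
  rw [entry_add ρ hdiag hlow hg hij hw.le, hg i j hij hw, hh i j hij hw, add_zero]

theorem low_one (w : ℕ) : Low ρ (1 : H) w := fun i j hij _ => by
  rw [map_one, Matrix.one_apply_ne hij.ne]

include hdiag hlow in
theorem low_pow {g : H} {w : ℕ} (hg : Low ρ g w) : ∀ m : ℕ, Low ρ (g ^ m) w
  | 0 => by rw [pow_zero]; exact low_one ρ w
  | m + 1 => by rw [pow_succ]; exact low_mul ρ hdiag hlow (low_pow hg m) hg

include hdiag hlow in
theorem low_inv [Finite H] {g : H} {w : ℕ} (hg : Low ρ g w) : Low ρ g⁻¹ w := by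
  obtain ⟨m, hm⟩ := ((isOfFinOrder_of_finite g).mem_powers_iff_mem_zpowers).2 (inv_mem (Subgroup.mem_zpowers g))
  rw [← show g ^ m = g⁻¹ from hm]
  exact low_pow ρ hdiag hlow hg m

include hdiag hlow in
theorem entry_pow {g : H} {w : ℕ} (hg : Low ρ g w) {i j : Fin r} (hij : i < j) (hw : wt i j ≤ w) :
    ∀ m : ℕ, ρ (g ^ m) i j = m * ρ g i j
  | 0 => by simp [Matrix.one_apply_ne hij.ne]
  | m + 1 => by
    rw [pow_succ, entry_add ρ hdiag hlow (low_pow ρ hdiag hlow hg m) hij hw, entry_pow hg hij hw m, Nat.cast_succ]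
    ring

include hdiag hlow in
theorem commutator_entries {g h : H} {i j l : Fin r} (hij : i < j) (hjl : j < l) (hg : Low ρ g (wt i j))
    (hh : Low ρ h (wt j l)) :
    Low ρ ⁅g, h⁆ (wt i l) ∧ ρ ⁅g, h⁆ i l = ρ g i j * ρ h j l := by
  classical
  have hil := wt_add hij hjl
  have key : ∀ (w : ℕ) (a b : Fin r), a < b → wt a b = w → w ≤ wt i l →
      ρ ⁅g, h⁆ a b = if w = wt i l then ρ g i j * ρ h j l else 0 := by
    intro w
    induction w using Nat.strong_induction_on with
    | _ w ih =>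
    intro a b hab hw hwle
    have hk : ρ (⁅g, h⁆ * (h * g)) a b = ρ ⁅g, h⁆ a b + ρ (h * g) a b := by
      rw [entry_mul ρ hdiag hlow _ _ hab, add_eq_left]
      refine Finset.sum_eq_zero fun c hc => ?_
      obtain ⟨h1, h2⟩ := (Finset.mem_filter.1 hc).2
      have := wt_add h1 h2
      have := wt_pos h2
      rw [ih (wt a c) (by omega) a c h1 rfl (by omega), if_neg (by omega), zero_mul]
    rw [show ⁅g, h⁆ * (h * g) = g * h by simp [commutatorElement_def, mul_assoc], entry_mul ρ hdiag hlow g h hab,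
      entry_mul ρ hdiag hlow h g hab] at hk
    have e : ρ ⁅g, h⁆ a b = (∑ c ∈ Finset.univ.filter (fun c => a < c ∧ c < b), ρ g a c * ρ h c b) -
        ∑ c ∈ Finset.univ.filter (fun c => a < c ∧ c < b), ρ h a c * ρ g c b := by
      linear_combination -hk
    rw [e]
    have z2 : ∑ c ∈ Finset.univ.filter (fun c => a < c ∧ c < b), ρ h a c * ρ g c b = 0 := by
      refine Finset.sum_eq_zero fun c hc => ?_
      obtain ⟨h1, h2⟩ := (Finset.mem_filter.1 hc).2
      have := wt_add h1 h2
      by_cases c1 : wt a c < wt j l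
      · rw [hh a c h1 c1, zero_mul]
      by_cases c2 : wt c b < wt i j
      · rw [hg c b h2 c2, mul_zero]
      obtain ⟨rfl, rfl⟩ := wt_inj h1 hjl (by omega)
      obtain ⟨rfl, rfl⟩ := wt_inj h2 hij (by omega)
      exact absurd (hij.trans hjl) (lt_irrefl _)
    rw [z2, sub_zero]
    have zero_of : ∀ c, a < c → c < b → ¬ (a = i ∧ c = j ∧ b = l) → ρ g a c * ρ h c b = 0 := by
      intro c h1 h2 hne
      have := wt_add h1 h2
      by_cases c1 : wt a c < wt i j
      · rw [hg a c h1 c1, zero_mul]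
      by_cases c2 : wt c b < wt j l
      · rw [hh c b h2 c2, mul_zero]
      obtain ⟨rfl, rfl⟩ := wt_inj h1 hij (by omega)
      obtain ⟨-, rfl⟩ := wt_inj h2 hjl (by omega)
      exact absurd ⟨rfl, rfl, rfl⟩ hne
    by_cases hwe : w = wt i l
    · obtain ⟨rfl, rfl⟩ := wt_inj hab (hij.trans hjl) (hw.trans hwe)
      rw [if_pos hwe]
      refine Finset.sum_eq_single_of_mem j (Finset.mem_filter.2 ⟨Finset.mem_univ _, hij, hjl⟩) fun c hc hcj => ?_
      exact zero_of c (Finset.mem_filter.1 hc).2.1 (Finset.mem_filter.1 hc).2.2 (fun hh' => hcj hh'.2.1)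
    · rw [if_neg hwe]
      refine Finset.sum_eq_zero fun c hc => zero_of c (Finset.mem_filter.1 hc).2.1 (Finset.mem_filter.1 hc).2.2 ?_
      rintro ⟨rfl, rfl, rfl⟩
      exact hwe hw.symm
  refine ⟨fun a b hab hw => ?_, ?_⟩
  · rw [key _ a b hab rfl hw.le, if_neg hw.ne]
  · rw [key _ i l (hij.trans hjl) rfl le_rfl, if_pos rfl]

include hdiag hlow in
/-- At most `r ^ 2 / 4` elements generate the group modulo the kernel. -/
theorem exists_generators [Finite H] [hp : Fact p.Prime] :
    ∃ T : Finset H, T.card ≤ r * r / 4 ∧ ∀ h : H, ∃ k ∈ closure (T : Set H), ρ k = ρ h := by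
  classical
  set Lead : H → Fin r → Fin r → Prop := fun h i j => Low ρ h (wt i j) ∧ ρ h i j ≠ 0
  set D := Finset.univ.filter fun e : Fin r × Fin r => e.1 < e.2 ∧ ∃ h, Lead h e.1 e.2 with hD
  set S := D.filter fun e => ¬ ∃ l, (e.1, l) ∈ D ∧ (l, e.2) ∈ D with hS
  have hDmem : ∀ {e : Fin r × Fin r}, e ∈ D → e.1 < e.2 ∧ ∃ h, Lead h e.1 e.2 := fun he => (Finset.mem_filter.1 he).2
  have hSmem : ∀ {e : Fin r × Fin r}, e ∈ S → e ∈ D := fun he => (Finset.mem_filter.1 he).1
  have hScard : S.card ≤ r * r / 4 := by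
    have := card_le_of_no_composite S (fun e he => (hDmem (hSmem he)).1)
      (fun i l j h1 h2 h3 => (Finset.mem_filter.1 h3).2 ⟨l, hSmem h1, hSmem h2⟩) r Finset.univ (by simp)
    rwa [Finset.filter_true_of_mem (fun e _ => ⟨Finset.mem_univ _, Finset.mem_univ _⟩)] at this
  set pick : Fin r × Fin r → H := fun e => if he : e ∈ D then (hDmem he).2.choose else 1
  refine ⟨S.image pick, Finset.card_image_le.trans hScard, ?_⟩
  set K := closure ((S.image pick : Finset H) : Set H)
  have hlead : ∀ (w : ℕ) (i j : Fin r), wt i j = w → (i, j) ∈ D → ∃ k ∈ K, Lead k i j := by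
    intro w
    induction w using Nat.strong_induction_on with
    | _ w ih =>
    intro i j hw he
    by_cases hs : (i, j) ∈ S
    · refine ⟨pick (i, j), subset_closure (Finset.mem_image_of_mem _ hs), ?_⟩
      simp only [pick, dif_pos he]
      exact (hDmem he).2.choose_spec
    · obtain ⟨l, h1, h2⟩ : ∃ l, (i, l) ∈ D ∧ (l, j) ∈ D := by
        by_contra hno; exact hs (Finset.mem_filter.2 ⟨he, hno⟩)
      have l1 : i < l := (hDmem h1).1
      have l2 : l < j := (hDmem h2).1
      have := wt_add l1 l2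
      have := wt_pos l1
      have := wt_pos l2
      obtain ⟨k1, hk1, hL1, hn1⟩ := ih (wt i l) (by omega) i l rfl h1
      obtain ⟨k2, hk2, hL2, hn2⟩ := ih (wt l j) (by omega) l j rfl h2
      obtain ⟨c1, c2⟩ := commutator_entries ρ hdiag hlow l1 l2 hL1 hL2
      refine ⟨⁅k1, k2⁆, ?_, c1, by rw [c2]; exact mul_ne_zero hn1 hn2⟩
      rw [commutatorElement_def]
      exact mul_mem (mul_mem (mul_mem hk1 hk2) (inv_mem hk1)) (inv_mem hk2)
  have hmain : ∀ (n : ℕ) (h : H) (w : ℕ), 2 ^ r ≤ w + n → Low ρ h w → ∃ k ∈ K, ρ k = ρ h := by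
    intro n
    induction n using Nat.strong_induction_on with
    | _ n ih =>
    intro h w hwn hh
    rcases (Finset.univ.filter fun e : Fin r × Fin r => e.1 < e.2 ∧ ρ h e.1 e.2 ≠ 0).eq_empty_or_nonempty with he | hne
    · refine ⟨1, one_mem K, ?_⟩
      ext i j
      rw [map_one]
      rcases lt_trichotomy i j with hl | rfl | hl
      · rw [Matrix.one_apply_ne hl.ne]
        by_contra hne
        exact Finset.notMem_empty (i, j) (he ▸ Finset.mem_filter.2 ⟨Finset.mem_univ _, hl, Ne.symm hne⟩)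
      · rw [Matrix.one_apply_eq, hdiag]
      · rw [Matrix.one_apply_ne hl.ne', hlow h i j hl]
    · obtain ⟨⟨i, j⟩, hmem, hmin⟩ := Finset.exists_min_image _ (fun e => wt e.1 e.2) hne
      obtain ⟨hij, hnz⟩ : i < j ∧ ρ h i j ≠ 0 := (Finset.mem_filter.1 hmem).2
      have hL : Low ρ h (wt i j) := fun a b hab hw => by
        by_contra hne'
        exact absurd (hmin (a, b) (Finset.mem_filter.2 ⟨Finset.mem_univ _, hab, hne'⟩)) (not_le.2 hw)
      obtain ⟨k, hk, hkL, hkn⟩ := hlead _ i j rfl (Finset.mem_filter.2 ⟨Finset.mem_univ _, hij, h, hL, hnz⟩)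
      set m := (-(ρ h i j) / ρ k i j).val with hm
      have hkm := entry_pow ρ hdiag hlow hkL hij le_rfl m
      have hkmL := low_pow ρ hdiag hlow hkL m
      have hwij : w ≤ wt i j := by
        by_contra hlt; exact hnz (hh i j hij (not_le.1 hlt))
      have hlt : wt i j < 2 ^ r := by
        have a1 : 2 ^ (j : ℕ) < 2 ^ r := Nat.pow_lt_pow_right one_lt_two j.isLt
        exact lt_of_le_of_lt (Nat.sub_le _ _) a1
      have hnew : Low ρ (k ^ m * h) (wt i j + 1) := by
        intro a b hab hw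
        rcases Nat.lt_succ_iff_lt_or_eq.1 hw with hw' | hw'
        · exact low_mul ρ hdiag hlow hkmL hL a b hab hw'
        · obtain ⟨rfl, rfl⟩ := wt_inj hab hij hw'
          rw [entry_add ρ hdiag hlow hkmL hab le_rfl, hkm, hm, ZMod.natCast_zmod_val, div_mul_cancel₀ _ hkn, neg_add_cancel]
      obtain ⟨k', hk', he'⟩ := ih (2 ^ r - (wt i j + 1)) (by omega) (k ^ m * h) (wt i j + 1) (by omega) hnew
      refine ⟨(k ^ m)⁻¹ * k', mul_mem (inv_mem (pow_mem hk m)) hk', ?_⟩
      rw [map_mul, he', ← map_mul, inv_mul_cancel_left]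
  intro h
  exact hmain (2 ^ r) h 0 (by omega) fun i j _ hw => absurd hw (Nat.not_lt_zero _)

end CfsgLib.FGS73.Unipotent
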